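import Groth.Agent.Sga3B.TorusRep898
import Groth.Agent.Sga3B.RepDescent9
import Groth.Agent.Sga3B.TorusAlgClosed
import Groth.Prelude.Def_TwC

/-!
# Representability of `Hom(H, G)` for `H` étale-locally diagonalisable (arbitrary type), `G` smooth affine

* `exists_representsHom_split` : `H ≅ D(M)` over an affine base, any commutative group `M`;
* `exists_representsHom_etale` : `H` étale-locally isomorphic to some `D(M)`.
-/

set_option autoImplicit false
open CategoryTheory MonoidalCategory CartesianMonoidalCategory AlgebraicGeometry Opposite Limits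
universe u

namespace K21.HomRep

open Groth.Agent.Sga3B Groth.Agent.Books.AffBridge Groth.Agent.Books Groth.Agent.Sga3B.HomFun898
  Groth.Agent.Sga3B.HaarDef Groth.Agent.Sga3B.TorusWt Groth.Agent.Sga3B.TorusUniv
  Groth.Agent.Sga3B.TorusSmooth Groth.Agent.Sga3B.TorusRep898 Groth.Agent.Sga3B.HomFunAff898 Groth.Agent.Sga3B.OverAff898

/-- Split case, for an arbitrary character group. -/
theorem exists_representsHom_split {B : Type u} [CommRing B] (H G : Over (Spec (CommRingCat.of B)))
    [GrpObj H] [GrpObj G] (M : Type) [AddCommGroup M] (hH : Red.IsSplitTorusWith M H) (hG : Smooth G.hom)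
    (hGa : IsAffineHom G.hom) :
    ∃ (A : Over (Spec (CommRingCat.of B))) (υ : H ⊗ A ⟶ G), AutFam.RepresentsHom H G A υ ∧ Smooth A.hom ∧
      IsSeparated A.hom ∧ ∀ U : A.left.Opens, IsCompact (U : Set A.left) →
        ∃ (P : Scheme.{u}) (k : U.toScheme ⟶ P), IsAffine P ∧ IsOpenImmersion k := by
  have haff : IsAffine G.left := isAffine_of_isAffineHom G.hom
  obtain ⟨C, _, _, eG, heG⟩ := exists_hopf B G
  have hC : Smooth (SpecOver B C).hom := by
    rw [← Over.w eG.inv]
    have : IsIso eG.inv.left := inferInstanceAs (IsIso ((Over.forget _).map eG.inv))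
    infer_instance
  have hC' : Algebra.Smooth B C := (Groth.Agent.Books.AffBridge2.smooth_specOver_iff B C).1 hC
  obtain ⟨E, _, _, _, ρ, l, h1, h2, h3⟩ := ComodGen.exists_comodule (R := B) (C := C)
  obtain ⟨k, e, he⟩ := Module.Finite.exists_fin (R := B) (M := E)
  have hρ : IsComod C ρ := ⟨h1, h2⟩
  obtain ⟨A, υ, hυ, hA1, hA2, hA3⟩ := exists_representsHom_specOver (N := Multiplicative M) hρ
    (adjoin_mc (l := l) he h3)
  obtain ⟨sp⟩ := hH
  let eH : H ≅ SpecOver B (MonoidAlgebra B (Multiplicative M)) :=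
    { hom := sp.hom.hom.hom ≫ DSAff.dsTo B M
      inv := DSAff.dsFrom B M ≫ sp.inv.hom.hom
      hom_inv_id := by
        have h5 : sp.hom.hom.hom ≫ sp.inv.hom.hom = 𝟙 _ := congrArg (fun f => f.hom.hom) sp.hom_inv_id
        rw [Category.assoc, ← Category.assoc (DSAff.dsTo B M), DSAff.dsTo_dsFrom, Category.id_comp, h5]
      inv_hom_id := by
        have h5 : sp.inv.hom.hom ≫ sp.hom.hom.hom = 𝟙 _ := congrArg (fun f => f.hom.hom) sp.inv_hom_id
        rw [Category.assoc, ← Category.assoc sp.inv.hom.hom, h5, Category.id_comp, DSAff.dsFrom_dsTo] }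
  have heH : IsMonHom eH.hom := by
    have h6 : IsMonHom sp.hom.hom.hom := sp.hom.hom.isMonHom_hom
    show IsMonHom (sp.hom.hom.hom ≫ DSAff.dsTo B M)
    infer_instance
  exact ⟨A, _, representsHom_of_iso eH eG hυ, hA1, hA2, hA3⟩

/-- `Hom_{S-gr}(H, G)` is representable by a smooth separated scheme when `H` is étale-locally diagonalisable
and `G` is smooth and affine. -/
theorem exists_representsHom_etale {S : Scheme.{u}} (H G : Over S) [GrpObj H] [GrpObj G]
    (hH : ∀ s : S, ∃ (S' : Scheme.{u}) (f : S' ⟶ S), Etale f ∧ s ∈ Set.range f.base ∧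
      ∃ (M : Type) (_ : AddCommGroup M), Nonempty (Grp.mk (Red.bc f H) ≅ Grp.mk (Red.DS S' M)))
    (hG : Smooth G.hom) (hGa : IsAffineHom G.hom) :
    ∃ (A : Over S) (υ : H ⊗ A ⟶ G), AutFam.RepresentsHom H G A υ ∧ Smooth A.hom ∧ IsSeparated A.hom := by
  refine RepDescent.exists_representsHom_smooth_of_etale H G fun s => ?_
  obtain ⟨S', f, hf, ⟨t, rfl⟩, M, _, ⟨e⟩⟩ := hH s
  obtain ⟨_, ⟨W, hW, rfl⟩, htW, -⟩ := S'.isBasis_affineOpens.exists_subset_of_mem_open (Set.mem_univ t) isOpen_univ
  let j : Spec (CommRingCat.of Γ(S', W)) ⟶ S' := IsAffineOpen.fromSpec hW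
  have hj : IsOpenImmersion j := hW.isOpenImmersion_fromSpec
  have hbc : Red.IsSplitTorusWith M (Red.bc (j ≫ f) H) := by
    obtain ⟨e'⟩ := TorusAlgClosed.isSplitTorusWith_bc j (T := Red.bc f H) (M := M) ⟨e⟩
    exact ⟨BcIso.bcCompIso j f H ≪≫ e'⟩
  refine ⟨_, j ≫ f, inferInstance, ?_, ?_⟩
  · obtain ⟨w, hw⟩ : t ∈ Set.range j := by
      rw [show Set.range j = (W : Set S') from hW.range_fromSpec]; exact htW
    exact ⟨w, congrArg f.base hw⟩
  · have h1 : Smooth (Red.bc (j ≫ f) G).hom := by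
      show Smooth (Limits.pullback.snd _ _)
      infer_instance
    have h2 : IsAffineHom (Red.bc (j ≫ f) G).hom := by
      show IsAffineHom (Limits.pullback.snd _ _)
      infer_instance
    exact exists_representsHom_split _ _ M hbc h1 h2

end K21.HomRep
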