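import Groth.Agent.Sga3.H827.KerData
import Groth.Agent.Sga3.H827.DSFlat
import Groth.Agent.Sga3.H784.FlatDesc

/-!
# The kernel of a homomorphism from a group with a diagonalisable chart, of arbitrary type

* `exists_factor_of_ker`, `mono_of_ker` : factorisation of homomorphisms through covering homomorphisms;
* `exists_fg` : a homomorphism `D(M) ⟶ G` over an affine base, `G` separated and locally of finite type, factors
  through `D(M₀)` for a finitely generated subgroup `M₀` of `M`;
* `exists_local` : the kernel of `D(M) ⟶ G` is Zariski-locally `D(M/N)`, `N` finitely generated.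
-/

set_option autoImplicit false
universe u
open CategoryTheory MonoidalCategory CartesianMonoidalCategory MonObj GrpObj AlgebraicGeometry Limits

namespace K21.DSFact

open Groth.Agent.Sga3.H784 Groth.Agent.Sga3.H827 Groth.Agent.Sga3.H828.DiagChart Groth.Agent.Sga3.H828.DiagChart.Chart
open Groth.Agent.Sga3B.DSPts Groth.Agent.Sga3B.InfConj KerAlg1 KerLoc KerPts

section factor

variable {S : Scheme.{u}} {X Y Z : Over S} [GrpObj X] [GrpObj Y] [GrpObj Z]

/-- Factorisation of a homomorphism through a covering homomorphism. -/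
theorem exists_factor_of_ker (p : X ⟶ Y) [IsMonHom p] [Surjective p.left] [Flat p.left] [QuasiCompact p.left]
    (f : X ⟶ Z) [IsMonHom f] (h : ∀ (T : Over S) (a : T ⟶ X), a ≫ p = 1 → a ≫ f = 1) :
    ∃ g : Y ⟶ Z, IsMonHom g ∧ p ≫ g = f := by
  obtain ⟨g, hg⟩ := FlatDesc.exists_desc p f (fun P t t' htt' => by
    have h1 : (t * t'⁻¹) ≫ p = 1 := by rw [MonObj.mul_comp, GrpObj.inv_comp, htt', mul_inv_cancel]
    have h2 := h _ _ h1
    rw [MonObj.mul_comp, GrpObj.inv_comp, mul_inv_eq_one] at h2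
    exact h2)
  exact ⟨g, FlatDesc.isMonHom_desc p g (by rw [hg]; infer_instance), hg⟩

/-- A homomorphism is a monomorphism if its kernel on a cover is the kernel of the cover. -/
theorem mono_of_ker (p : X ⟶ Y) [IsMonHom p] [Surjective p.left] [Flat p.left] [QuasiCompact p.left]
    (g : Y ⟶ Z) [IsMonHom g] (h : ∀ (T : Over S) (a : T ⟶ X), a ≫ p ≫ g = 1 → a ≫ p = 1) : Mono g := by
  refine FlatDesc.mono_of_ker g fun W y hy => ?_
  obtain ⟨W', c, x, _, _, _, _, hx⟩ := FlatDesc.exists_lift_cover p y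
  rw [← cancel_epi c, MonObj.comp_one, hx]
  apply h
  rw [← Category.assoc, ← hx, Category.assoc, hy, MonObj.comp_one]

end factor

section ds

variable {S : Scheme.{u}} {M : Type} [AddCommGroup M]

lemma comp_DSmap_eq_one_iff {N : Type} [AddCommGroup N] (φ : N →+ M) {T : Over S} (x : T ⟶ Red.DS S M) :
    x ≫ Red.DSmap S φ = 1 ↔ ∀ n, dsChar x (Multiplicative.ofAdd (φ n)) = 1 := by
  have h0 : dsChar (1 : T ⟶ Red.DS S N) = 1 := map_one (dsEquiv T N).symm
  rw [← (dsEquiv T N).symm.injective.eq_iff]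
  change dsChar _ = dsChar _ ↔ _
  rw [dsChar_DSmap, h0]
  constructor
  · intro h n
    exact congr($h (Multiplicative.ofAdd n))
  · intro h
    exact MonoidHom.ext fun n => h n.toAdd

lemma comp_DSmap_subtype_eq_one_iff (N : AddSubgroup M) {T : Over S} (x : T ⟶ Red.DS S M) :
    x ≫ Red.DSmap S N.subtype = 1 ↔ ∀ n ∈ N, dsChar x (Multiplicative.ofAdd n) = 1 := by
  rw [comp_DSmap_eq_one_iff]
  exact ⟨fun h n hn => h ⟨n, hn⟩, fun h n => h n.1 n.2⟩

lemma isMonHom_DSmap' {N : Type} [AddCommGroup N] (φ : N →+ M) : IsMonHom (Red.DSmap S φ) := isMonHom_DSmap φ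

lemma cover_subtype (N : AddSubgroup M) : IsMonHom (Red.DSmap S N.subtype) ∧ Surjective (Red.DSmap S N.subtype).left ∧
    Flat (Red.DSmap S N.subtype).left ∧ IsAffineHom (Red.DSmap S N.subtype).left :=
  ⟨isMonHom_DSmap _, DSFlat.surjective_DSmap _ S Subtype.val_injective, DSFlat.flat_DSmap _ S Subtype.val_injective,
    DSFlat.isAffineHom_DSmap _ S⟩

end ds

section affine

variable {C : Type u} [CommRing C] {M : Type} [AddCommGroup M]
  {G : Over (Spec (CommRingCat.of C))} [GrpObj G]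

/-- A homomorphism `D(M) ⟶ G` over an affine base, `G` separated and locally of finite type, factors through `D(M₀)`,
`M₀` finitely generated. -/
theorem exists_fg (h : Red.DS (Spec (CommRingCat.of C)) M ⟶ G) [IsMonHom h] [IsSeparated G.hom]
    [LocallyOfFiniteType G.hom] :
    ∃ M₀ : AddSubgroup M, M₀.FG ∧ ∃ u : Red.DS (Spec (CommRingCat.of C)) M₀ ⟶ G, IsMonHom u ∧
      Red.DSmap _ M₀.subtype ≫ u = h := by
  classical
  obtain ⟨J, ⟨s, hs⟩, hJ⟩ := exists_kerIdeal h
  let F : Finset M := s.biUnion fun x => x.coeff.support.image Multiplicative.toAdd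
  let M₀ : AddSubgroup M := AddSubgroup.closure (F : Set M)
  obtain ⟨h1, h2, h3, h4⟩ := cover_subtype (S := Spec (CommRingCat.of C)) M₀
  refine ⟨M₀, ⟨F, rfl⟩, exists_factor_of_ker (Red.DSmap _ M₀.subtype) h fun T a ha => ?_⟩
  rw [comp_DSmap_subtype_eq_one_iff] at ha
  rw [hJ]
  let _ := algT T
  have hle : J ≤ RingHom.ker (MonoidAlgebra.lift C Γ(T.left, ⊤) (Multiplicative M) (dsChar a)) := by
    rw [← hs, Submodule.span_le]
    intro j hj
    rw [SetLike.mem_coe, RingHom.mem_ker]
    have h5 : MonoidAlgebra.lift C C (Multiplicative M) 1 j = 0 :=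
      (isKer hJ).one j (hs ▸ Submodule.subset_span hj)
    have h6 : MonoidAlgebra.lift C Γ(T.left, ⊤) (Multiplicative M) (dsChar a) j =
        algebraMap C Γ(T.left, ⊤) (MonoidAlgebra.lift C C (Multiplicative M) 1 j) := by
      rw [MonoidAlgebra.lift_apply, MonoidAlgebra.lift_apply, Finsupp.sum, Finsupp.sum, map_sum]
      refine Finset.sum_congr rfl fun m hm => ?_
      have h7 : dsChar a m = 1 := ha m.toAdd (AddSubgroup.subset_closure
        (Finset.mem_coe.2 (Finset.mem_biUnion.2 ⟨j, hj, Finset.mem_image_of_mem _ hm⟩)))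
      rw [h7, MonoidHom.one_apply, Algebra.smul_def, _root_.mul_one, smul_eq_mul, _root_.mul_one]
    rw [h6, h5, map_zero]
  exact fun j hj => hle hj

/-- **The kernel of `D(M) ⟶ G` is Zariski-locally `D(M/N)`, `N` finitely generated.** -/
theorem exists_local (h : Red.DS (Spec (CommRingCat.of C)) M ⟶ G) [IsMonHom h] [IsSeparated G.hom]
    [LocallyOfFiniteType G.hom] (p : Ideal C) [p.IsPrime] :
    ∃ f, f ∉ p ∧ ∃ N : AddSubgroup M, N.FG ∧ ∀ (T : Over (Spec (CommRingCat.of C))),
      (letI := algT T; IsUnit (algebraMap C Γ(T.left, ⊤) f)) → ∀ x : T ⟶ Red.DS (Spec (CommRingCat.of C)) M,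
        x ≫ h = 1 ↔ ∀ n ∈ N, dsChar x (Multiplicative.ofAdd n) = 1 := by
  obtain ⟨M₀, hM₀, u, hu, huh⟩ := exists_fg h
  have : AddGroup.FG M₀ := (AddGroup.fg_iff_addSubgroup_fg M₀).2 hM₀
  obtain ⟨f, hf, N, hN⟩ := KerLoc.exists_local u p
  refine ⟨f, hf, N.map M₀.subtype, ?_, fun T hT x => ?_⟩
  · have h1 : Module.Finite ℤ M₀ := Module.Finite.iff_addGroup_fg.mpr inferInstance
    have h2 : IsNoetherian ℤ M₀ := inferInstance
    have h3 : (AddSubgroup.toIntSubmodule N).FG := IsNoetherian.noetherian _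
    have h4 : N.FG := by
      rw [← AddGroup.fg_iff_addSubgroup_fg, ← Module.Finite.iff_addGroup_fg]
      exact Module.Finite.iff_fg.mpr h3
    obtain ⟨t, ht⟩ := h4
    classical
    refine ⟨t.image M₀.subtype, ?_⟩
    rw [← ht, Finset.coe_image, AddMonoidHom.map_closure]
  · rw [← huh, ← Category.assoc, hN T hT, dsChar_DSmap]
    constructor
    · rintro hx _ ⟨n, hn, rfl⟩
      exact hx n hn
    · intro hx n hn
      exact hx _ ⟨n, hn, rfl⟩

end affine

end K21.DSFact
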