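import Groth.Agent.SGA3x.K21.DSFact

/-!
# The kernel of a homomorphism from a group with a diagonalisable chart: local constancy
-/

set_option autoImplicit false
universe u
open CategoryTheory MonoidalCategory CartesianMonoidalCategory MonObj GrpObj AlgebraicGeometry Limits

namespace K21.DSAdapt

open Groth.Agent.Sga3.H784 Groth.Agent.Sga3.H827 Groth.Agent.Sga3.H828.DiagChart Groth.Agent.Sga3.H828.DiagChart.Chart
open Groth.Agent.Sga3B.DSPts Groth.Agent.Sga3B.InfConj KerAlg1 KerLoc KerPts KerChart KerData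

variable {S : Scheme.{u}} {T G : Over S} [GrpObj T] [GrpObj G] (h : T ⟶ G) {M : Type} [AddCommGroup M]

/-- over the open `V` of the base of the chart `c`, the kernel of `h` is given by `N` -/
def AdOn {B : Over S} (c : Chart T B M) (V : B.left.Opens) (N : AddSubgroup M) : Prop :=
  ∀ (X : Over S) (t : X ⟶ B), Set.range t.left ⊆ (V : Set B.left) → ∀ x : X ⟶ T,
    x ≫ h = 1 ↔ ∀ n ∈ N, c.chr t x (Multiplicative.ofAdd n) = 1

variable {h} in
lemma AdOn.mono {B : Over S} {c : Chart T B M} {V V' : B.left.Opens} {N : AddSubgroup M} (hN : AdOn h c V N)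
    (hV : V' ≤ V) : AdOn h c V' N := fun X t ht => hN X t (ht.trans hV)

/-- over the distinguished opens -/
theorem exists_adapted [IsMonHom h] [IsSeparated G.hom] [LocallyOfFiniteType G.hom] {C : Type u}
    [CommRing C] (q : Spec (CommRingCat.of C) ⟶ S) (c : Chart T (Over.mk q) M) (y : Spec (CommRingCat.of C)) :
    ∃ f : C, f ∉ y.asIdeal ∧ ∃ N : AddSubgroup M, N.FG ∧
      Adapted h (c.restrict (Over.homMk (Spec.map (CommRingCat.ofHom (algebraMap C (Localization.Away f)))) rfl :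
        Over.mk (Spec.map (CommRingCat.ofHom (algebraMap C (Localization.Away f))) ≫ q) ⟶ Over.mk q)) N := by
  have := isMonHom_hom h q c
  have : IsSeparated (Red.bc q G).hom := inferInstanceAs (IsSeparated (pullback.snd _ _))
  have : LocallyOfFiniteType (Red.bc q G).hom := inferInstanceAs (LocallyOfFiniteType (pullback.snd _ _))
  obtain ⟨f, hf, N, hfg, hN⟩ := DSFact.exists_local (KerChart.hom h q c) y.asIdeal
  refine ⟨f, hf, N, hfg, fun X t x => ?_⟩
  let ρ : Spec (CommRingCat.of (Localization.Away f)) ⟶ Spec (CommRingCat.of C) :=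
    Spec.map (CommRingCat.ofHom (algebraMap C (Localization.Away f)))
  let b : Over.mk (ρ ≫ q) ⟶ Over.mk q := Over.homMk ρ rfl
  let Y : Over (Spec (CommRingCat.of C)) := Over.mk (t.left ≫ ρ)
  have hw : t.left ≫ ρ ≫ q = X.hom := Over.w t
  let i : (Over.map q).obj Y ≅ X := Over.isoMk (Iso.refl _) (by
    change 𝟙 _ ≫ X.hom = (t.left ≫ ρ) ≫ q
    rw [Category.id_comp, Category.assoc, hw])
  have hi : i.hom.left = 𝟙 _ := rfl
  have h1 : x ≫ h = 1 ↔ (i.hom ≫ x) ≫ h = 1 := by
    rw [Category.assoc]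
    constructor
    · intro hx
      rw [hx, comp_one]
    · intro hx
      rw [← cancel_epi i.hom, hx, comp_one]
  rw [h1, comp_eq_one_iff h q c, hN Y (isUnit_of_away f t.left), dsChar_dsEquiv]
  refine forall₂_congr fun n _ => ?_
  have h2 : taut q Y = i.hom ≫ t ≫ b := by
    ext1
    rw [Over.comp_left, hi, Category.id_comp]
    rfl
  rw [h2, chr_comp_apply]
  have h3 : i.hom.left.appTop = 𝟙 _ := by
    rw [hi]
    exact Scheme.Hom.id_appTop
  rw [h3]
  rfl

theorem exists_adOn [IsMonHom h] [IsSeparated G.hom] [LocallyOfFiniteType G.hom] {B : Over S}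
    (c : Chart T B M) (y : B.left) : ∃ V : B.left.Opens, y ∈ V ∧ ∃ N : AddSubgroup M, N.FG ∧ AdOn h c V N := by
  obtain ⟨W, hW, hyW, -⟩ := exists_isAffineOpen_mem_and_subset (x := y) (U := ⊤) trivial
  let C := Γ(B.left, W)
  let e : Spec (CommRingCat.of C) ⟶ B.left := hW.fromSpec
  have he : IsOpenImmersion e := inferInstanceAs (IsOpenImmersion hW.fromSpec)
  obtain ⟨y', hy'⟩ : y ∈ Set.range e := by
    have := hW.range_fromSpec
    rw [show e = hW.fromSpec from rfl, this]
    exact hyW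
  let b : Over.mk (e ≫ B.hom) ⟶ B := Over.homMk e rfl
  obtain ⟨f, hf, N, hfg, hN⟩ := exists_adapted h (e ≫ B.hom) (c.restrict b) y'
  let ρ : Spec (CommRingCat.of (Localization.Away f)) ⟶ Spec (CommRingCat.of C) :=
    Spec.map (CommRingCat.ofHom (algebraMap C (Localization.Away f)))
  have hρ : IsOpenImmersion ρ := inferInstance
  refine ⟨(ρ ≫ e).opensRange, ?_, N, hfg, fun X t ht x => ?_⟩
  · obtain ⟨z, hz⟩ : y' ∈ Set.range ρ := by
      change y' ∈ Set.range (PrimeSpectrum.comap (algebraMap C (Localization.Away f)))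
      rw [PrimeSpectrum.localization_away_comap_range (Localization.Away f) f]
      exact hf
    exact ⟨z, by rw [Scheme.Hom.comp_apply, hz, hy']⟩
  · let t'' : X.left ⟶ Spec (CommRingCat.of (Localization.Away f)) := IsOpenImmersion.lift (ρ ≫ e) t.left ht
    have ht'' : t'' ≫ ρ ≫ e = t.left := IsOpenImmersion.lift_fac _ _ _
    let r : Over.mk (ρ ≫ e ≫ B.hom) ⟶ Over.mk (e ≫ B.hom) := Over.homMk ρ rfl
    let t₀ : X ⟶ Over.mk (ρ ≫ e ≫ B.hom) := Over.homMk t'' (by
      change t'' ≫ ρ ≫ e ≫ B.hom = X.hom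
      rw [← Over.w t, ← ht'', Category.assoc, Category.assoc])
    have h1 := hN X t₀ x
    rw [h1]
    refine forall₂_congr fun n _ => ?_
    change c.chr ((t₀ ≫ r) ≫ b) x _ = 1 ↔ _
    have h2 : (t₀ ≫ r) ≫ b = t := by
      ext1
      change (t'' ≫ ρ) ≫ e = t.left
      rw [Category.assoc, ht'']
    rw [h2]

/-- Equality with the unit is local. -/
lemma one_of_locally {X Y : Over S} [GrpObj Y] (a : X ⟶ Y) (h : ∀ x : X.left, ∃ U : X.left.Opens, x ∈ U ∧
    (Over.homMk U.ι rfl : Over.mk (U.ι ≫ X.hom) ⟶ X) ≫ a = 1) : a = 1 := by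
  ext1
  refine Scheme.hom_ext_of_forall _ _ fun x => ?_
  obtain ⟨U, hU, h1⟩ := h x
  refine ⟨U, hU, ?_⟩
  have h2 := congr(($h1).left)
  have h3 : ((Over.homMk U.ι rfl : Over.mk (U.ι ≫ X.hom) ⟶ X) ≫ (1 : X ⟶ Y)) = 1 := MonObj.comp_one _
  have h4 := congr(($h3).left)
  exact h2.trans h4.symm

/-- the condition on characters as a condition on a point of `D(N)` -/
lemma forall_chr_iff {B : Over S} (c : Chart T B M) (N : AddSubgroup M) {X : Over S} (t : X ⟶ B) (x : X ⟶ T) :
    (∀ n ∈ N, c.chr t x (Multiplicative.ofAdd n) = 1) ↔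
      dsEquiv X N ((c.chr t x).comp (AddMonoidHom.toMultiplicative N.subtype)) = 1 := by
  rw [← (dsEquiv X N).symm.injective.eq_iff, MulEquiv.symm_apply_apply, map_one]
  constructor
  · intro h
    exact MonoidHom.ext fun n => h _ n.toAdd.2
  · intro h n hn
    exact congr($h (Multiplicative.ofAdd ⟨n, hn⟩))

variable {h} in
theorem AdOn.of_cover {B : Over S} {c : Chart T B M} {V : B.left.Opens} {N : AddSubgroup M}
    (hV : ∀ y ∈ V, ∃ V' : B.left.Opens, y ∈ V' ∧ AdOn h c V' N) : AdOn h c V N := by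
  intro X t ht x
  have key : ∀ z : X.left, ∃ U : X.left.Opens, z ∈ U ∧
      ((Over.homMk U.ι rfl : Over.mk (U.ι ≫ X.hom) ⟶ X) ≫ x ≫ h = 1 ↔
        (Over.homMk U.ι rfl : Over.mk (U.ι ≫ X.hom) ⟶ X) ≫
          dsEquiv X N ((c.chr t x).comp (AddMonoidHom.toMultiplicative N.subtype)) = 1) := by
    intro z
    obtain ⟨V', hzV', h'⟩ := hV (t.left z) (ht ⟨z, rfl⟩)
    refine ⟨t.left ⁻¹ᵁ V', hzV', ?_⟩
    let g : Over.mk ((t.left ⁻¹ᵁ V').ι ≫ X.hom) ⟶ X := Over.homMk (t.left ⁻¹ᵁ V').ι rfl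
    have h1 := h' _ (g ≫ t) (by
      rintro _ ⟨w, rfl⟩
      exact w.2) (g ≫ x)
    rw [forall_chr_iff, c.chr_comp, Category.assoc] at h1
    rw [dsEquiv_naturality]
    exact h1
  rw [forall_chr_iff]
  constructor
  · intro hx
    refine one_of_locally _ fun z => ?_
    obtain ⟨U, hU, h1⟩ := key z
    exact ⟨U, hU, h1.1 (by rw [hx, MonObj.comp_one])⟩
  · intro hx
    refine one_of_locally _ fun z => ?_
    obtain ⟨U, hU, h1⟩ := key z
    exact ⟨U, hU, h1.2 (by rw [hx, MonObj.comp_one])⟩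

lemma le_of_adOn {B : Over S} {c : Chart T B M} {V V' : B.left.Opens} {N N' : AddSubgroup M}
    (hN : AdOn h c V N) (hN' : AdOn h c V' N') (y : B.left) (hy : y ∈ V) (hy' : y ∈ V') : N' ≤ N := by
  let κ := B.left.residueField y
  let R := MonoidAlgebra κ (Multiplicative (M ⧸ N))
  let τ : Spec (CommRingCat.of R) ⟶ B.left := Spec.map (CommRingCat.ofHom (algebraMap κ R)) ≫ B.left.fromSpecResidueField y
  let X : Over S := Over.mk (τ ≫ B.hom)
  let t : X ⟶ B := Over.homMk τ rfl
  have hrange : ∀ z, τ z = y := fun z => by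
    change (Spec.map (CommRingCat.ofHom (algebraMap κ R)) ≫ B.left.fromSpecResidueField y) z = y
    rw [Scheme.Hom.comp_apply]
    have : (B.left.fromSpecResidueField y) (Spec.map (CommRingCat.ofHom (algebraMap κ R)) z) ∈
      Set.range (B.left.fromSpecResidueField y) := ⟨_, rfl⟩
    rw [B.left.range_fromSpecResidueField] at this
    exact this
  let χ : Multiplicative M →* Γ(X.left, ⊤) :=
    (RingHom.toMonoidHom (Scheme.ΓSpecIso (CommRingCat.of R)).inv.hom).comp
      ((MonoidAlgebra.of κ (Multiplicative (M ⧸ N))).comp (AddMonoidHom.toMultiplicative (QuotientAddGroup.mk' N)))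
  have hinj : Function.Injective (Scheme.ΓSpecIso (CommRingCat.of R)).inv.hom :=
    (ConcreteCategory.bijective_of_isIso (Scheme.ΓSpecIso (CommRingCat.of R)).inv).1
  have hχ : ∀ m : M, χ (Multiplicative.ofAdd m) = 1 ↔ m ∈ N := by
    intro m
    change (Scheme.ΓSpecIso (CommRingCat.of R)).inv.hom (MonoidAlgebra.single (Multiplicative.ofAdd (QuotientAddGroup.mk' N m)) 1) = 1 ↔ _
    rw [← map_one (Scheme.ΓSpecIso (CommRingCat.of R)).inv.hom, hinj.eq_iff, MonoidAlgebra.one_def,
      ← QuotientAddGroup.eq_zero_iff]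
    constructor
    · intro h1
      have h2 := MonoidAlgebra.of_injective (R := κ) (M := Multiplicative (M ⧸ N)) h1
      exact Multiplicative.ofAdd.injective h2
    · intro h1
      change MonoidAlgebra.single (Multiplicative.ofAdd (m : M ⧸ N)) 1 = _
      rw [h1]
      rfl
  have h1 := (hN X t (by rintro _ ⟨z, rfl⟩; exact (hrange z).symm ▸ hy) ((c.chr t).symm χ)).2 fun n hn => by
    rw [MulEquiv.apply_symm_apply]
    exact (hχ n).2 hn
  intro n hn
  have h2 := (hN' X t (by rintro _ ⟨z, rfl⟩; exact (hrange z).symm ▸ hy') ((c.chr t).symm χ)).1 h1 n hn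
  rw [MulEquiv.apply_symm_apply] at h2
  exact (hχ n).1 h2

/-- **Local constancy**: the kernel of a homomorphism from a group with a diagonalisable chart. -/
theorem exists_clopen [IsMonHom h] [IsSeparated G.hom] [LocallyOfFiniteType G.hom] {B : Over S}
    (c : Chart T B M) (y : B.left) :
    ∃ V : B.left.Opens, y ∈ V ∧ IsClosed (V : Set B.left) ∧ ∃ N : AddSubgroup M, N.FG ∧ AdOn h c V N := by
  obtain ⟨V₀, hyV₀, N, hfg, hN⟩ := exists_adOn h c y
  let V : B.left.Opens := sSup {V | AdOn h c V N}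
  refine ⟨V, TopologicalSpace.Opens.mem_sSup.2 ⟨V₀, hN, hyV₀⟩, ?_, N, hfg, AdOn.of_cover fun z hz => ?_⟩
  · rw [← isOpen_compl_iff, isOpen_iff_forall_mem_open]
    intro z hz
    obtain ⟨V₁, hzV₁, N₁, -, hN₁⟩ := exists_adOn h c z
    refine ⟨V₁, fun w hw hwV => hz ?_, V₁.2, hzV₁⟩
    obtain ⟨V₂, hV₂, hwV₂⟩ := TopologicalSpace.Opens.mem_sSup.1 hwV
    have h1 : N = N₁ := le_antisymm (le_of_adOn h hN₁ hV₂ w hw hwV₂) (le_of_adOn h hV₂ hN₁ w hwV₂ hw)
    subst h1
    exact TopologicalSpace.Opens.mem_sSup.2 ⟨V₁, hN₁, hzV₁⟩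
  · obtain ⟨V', h1, h2⟩ := TopologicalSpace.Opens.mem_sSup.1 hz
    exact ⟨V', h2, h1⟩

/-- the chart of `D_S(M)` -/
noncomputable def dsChart (B : Over S) (M : Type) [AddCommGroup M] : Chart (Red.DS S M) B M where
  chr _ := (dsEquiv _ M).symm
  chr_comp g _ x := dsChar_comp g x

/-- base change of coverings -/
lemma cover_bc {U : Scheme.{u}} (q : U ⟶ S) {X Y : Over S} (p : X ⟶ Y) [Surjective p.left] [Flat p.left]
    [QuasiCompact p.left] : Surjective ((Over.pullback q).map p).left ∧ Flat ((Over.pullback q).map p).left ∧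
      QuasiCompact ((Over.pullback q).map p).left :=
  ⟨MorphismProperty.of_isPullback (P := @Surjective) (Groth.Agent.Sga3.H798.FpqcIso.isPullback_map_left q p) ‹_›,
    MorphismProperty.of_isPullback (P := @Flat) (Groth.Agent.Sga3.H798.FpqcIso.isPullback_map_left q p) ‹_›,
    MorphismProperty.of_isPullback (P := @QuasiCompact) (Groth.Agent.Sga3.H798.FpqcIso.isPullback_map_left q p) ‹_›⟩

end K21.DSAdapt
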