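import Groth.Agent.SGA3x.K21.EssFree
import Groth.Agent.Sga3.H804.EtFam

/-!
# Groups of multiplicative type of arbitrary type: the predicate `IsMult` and base change

* `IsMult H` : `H` is fpqc-locally (then Zariski-locally) isomorphic to some `D(M)`, `M` any commutative group;
* `locally_fpqc_bc`, `isMult_bc`, `isMultTypeFT_bc`, `isMult_of_isMultTypeFT`, `isMult_of_iso`, `isMult_DS`;
* `isEssentiallyFree`, `isAffineHom`, `flat` of groups with `IsMult`.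
-/

set_option autoImplicit false
universe u
open CategoryTheory MonoidalCategory CartesianMonoidalCategory MonObj GrpObj AlgebraicGeometry Limits
open Groth.Agent.Sga3B

namespace K21.MultLoc

variable {S X : Scheme.{u}}

/-- Multiplicative type, of arbitrary type: fpqc-locally diagonalisable. -/
abbrev IsMult (H : Over S) [GrpObj H] : Prop :=
  TwC.Locally S TwC.Topology.fpqc (fun S' g => ∃ (M : Type) (_ : AddCommGroup M),
    Nonempty (Grp.mk (Red.bc g H) ≅ Grp.mk (Red.DS S' M)))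

/-- Base change of fpqc-local properties. -/
theorem locally_fpqc_bc (g : X ⟶ S) {P : ∀ S' : Scheme.{u}, (S' ⟶ S) → Prop} {Q : ∀ X' : Scheme.{u}, (X' ⟶ X) → Prop}
    (hPQ : ∀ (S' X' : Scheme.{u}) (p : S' ⟶ S) (q : X' ⟶ X) (h : X' ⟶ S'), h ≫ p = q ≫ g → P S' p → Q X' q)
    (h : TwC.Locally S TwC.Topology.fpqc P) : TwC.Locally X TwC.Topology.fpqc Q := by
  obtain ⟨Y, p, hf, hs, hc, h⟩ := h
  refine ⟨Limits.pullback g p, Limits.pullback.fst g p, inferInstance, inferInstance,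
    TorusBc.qc_cover_bc p g hc, fun x => ?_⟩
  obtain ⟨U, hU, hP⟩ := h (Limits.pullback.snd g p x)
  refine ⟨(Limits.pullback.snd g p) ⁻¹ᵁ U, hU, hPQ _ _ _ _ ((Limits.pullback.snd g p) ∣_ U) ?_ hP⟩
  rw [Category.assoc, Limits.pullback.condition, morphismRestrict_ι_assoc]

/-- Base change of local splittings. -/
lemma nonempty_bc {S' X' : Scheme.{u}} {p : S' ⟶ S} {q : X' ⟶ X} {g : X ⟶ S} {h : X' ⟶ S'} (e : h ≫ p = q ≫ g)
    {H : Over S} [GrpObj H] {M : Type} [AddCommGroup M] (h1 : Nonempty (Grp.mk (Red.bc p H) ≅ Grp.mk (Red.DS S' M))) :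
    Nonempty (Grp.mk (Red.bc q (Red.bc g H)) ≅ Grp.mk (Red.DS X' M)) := by
  obtain ⟨e2⟩ := TorusAlgClosed.isSplitTorusWith_bc h (M := M) (T := Red.bc p H) h1
  exact ⟨(BcIso.bcCompIso _ _ _).symm ≪≫ BcIso.bcCongrIso e.symm H ≪≫ BcIso.bcCompIso _ _ _ ≪≫ e2⟩

/-- Base change of groups of multiplicative type. -/
theorem isMult_bc (g : X ⟶ S) {H : Over S} [GrpObj H] (h : IsMult H) : IsMult (Red.bc g H) :=
  locally_fpqc_bc g (fun _ _ _ _ _ e ⟨M, i, h1⟩ => ⟨M, i, nonempty_bc e h1⟩) h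

/-- Base change of groups of multiplicative type and of finite type. -/
theorem isMultTypeFT_bc (g : X ⟶ S) {H : Over S} [GrpObj H] (h : SGA3x.IsMultTypeFT H) :
    SGA3x.IsMultTypeFT (Red.bc g H) :=
  locally_fpqc_bc (P := fun S' g => ∃ (M : Type) (_ : AddCommGroup M), AddGroup.FG M ∧
      Nonempty (Grp.mk (Red.bc g H) ≅ Grp.mk (Red.DS S' M)))
    (Q := fun S' g' => ∃ (M : Type) (_ : AddCommGroup M), AddGroup.FG M ∧
      Nonempty (Grp.mk (Red.bc g' (Red.bc g H)) ≅ Grp.mk (Red.DS S' M))) g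
    (fun _ _ _ _ _ e ⟨M, i, hM, h1⟩ => ⟨M, i, hM, nonempty_bc e h1⟩) h

theorem isMult_of_isMultTypeFT {H : Over S} [GrpObj H] (h : SGA3x.IsMultTypeFT H) : IsMult H := by
  obtain ⟨S', f, h1, h2, h3, h4⟩ := h
  refine ⟨S', f, h1, h2, h3, fun s' => ?_⟩
  obtain ⟨U, hU, M, i, -, e⟩ := h4 s'
  exact ⟨U, hU, M, i, e⟩

theorem isMultTypeFT_of_isTorus {H : Over S} [GrpObj H] (h : Red.IsTorus H) : SGA3x.IsMultTypeFT H := by
  obtain ⟨S', f, h1, h2, h3, h4⟩ := h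
  refine ⟨S', f, h1, h2, h3, fun s' => ?_⟩
  obtain ⟨U, hU, r, e⟩ := h4 s'
  exact ⟨U, hU, _, inferInstance, AddGroup.fg_iff_addMonoid_fg.2 inferInstance, e⟩

theorem isMult_of_iso {H H' : Over S} [GrpObj H] [GrpObj H'] (e : Grp.mk H ≅ Grp.mk H') (h : IsMult H) : IsMult H' := by
  obtain ⟨S', f, h1, h2, h3, h4⟩ := h
  refine ⟨S', f, h1, h2, h3, fun s' => ?_⟩
  obtain ⟨U, hU, M, i, ⟨e'⟩⟩ := h4 s'
  exact ⟨U, hU, M, i, ⟨(BcIso.bcMapIso (U.ι ≫ f) e).symm ≪≫ e'⟩⟩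

/-- Zariski-local splitting suffices. -/
theorem isMult_of_zariski {H : Over S} [GrpObj H] (h : ∀ s : S, ∃ U : S.Opens, s ∈ U ∧ ∃ (M : Type) (_ : AddCommGroup M),
    Nonempty (Grp.mk (Red.bc U.ι H) ≅ Grp.mk (Red.DS (U : Scheme.{u}) M))) : IsMult H := by
  refine ⟨S, 𝟙 S, inferInstance, inferInstance, fun V hV => ⟨V, hV.isCompact, ?_⟩, fun s => ?_⟩
  · simp
  · obtain ⟨U, hU, M, i, ⟨e⟩⟩ := h s
    exact ⟨U, hU, M, i, ⟨BcIso.bcCongrIso (Category.comp_id _) H ≪≫ e⟩⟩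

theorem isMultTypeFT_of_zariski {H : Over S} [GrpObj H] (h : ∀ s : S, ∃ U : S.Opens, s ∈ U ∧ ∃ (M : Type) (_ : AddCommGroup M),
    AddGroup.FG M ∧ Nonempty (Grp.mk (Red.bc U.ι H) ≅ Grp.mk (Red.DS (U : Scheme.{u}) M))) : SGA3x.IsMultTypeFT H := by
  refine ⟨S, 𝟙 S, inferInstance, inferInstance, fun V hV => ⟨V, hV.isCompact, ?_⟩, fun s => ?_⟩
  · simp
  · obtain ⟨U, hU, M, i, hM, ⟨e⟩⟩ := h s
    exact ⟨U, hU, M, i, hM, ⟨BcIso.bcCongrIso (Category.comp_id _) H ≪≫ e⟩⟩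

theorem isMult_DS (M : Type) [AddCommGroup M] : IsMult (Red.DS S M) :=
  isMult_of_zariski fun _ => ⟨⊤, trivial, M, inferInstance, ⟨TorusAlgClosed.dsBcIso _ M⟩⟩

theorem isMultTypeFT_DS (M : Type) [AddCommGroup M] (hM : AddGroup.FG M) : SGA3x.IsMultTypeFT (Red.DS S M) :=
  isMultTypeFT_of_zariski fun _ => ⟨⊤, trivial, M, inferInstance, hM, ⟨TorusAlgClosed.dsBcIso _ M⟩⟩

theorem isEssentiallyFree {H : Over S} [GrpObj H] (h : IsMult H) : SGA3x.IsEssentiallyFree H.hom := by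
  obtain ⟨S', f, h1, h2, h3, h4⟩ := h
  exact EssFree.isEssentiallyFree H f h3 h4

/-- A property which is fpqc-local on the target and holds for all `D(M)` holds for groups of multiplicative type. -/
theorem prop_of_isMult {P : MorphismProperty Scheme.{u}} [IsZariskiLocalAtTarget P]
    [P.IsStableUnderBaseChange] [P.DescendsAlong (@Surjective ⊓ @Flat ⊓ @QuasiCompact)]
    (hP : ∀ (M : Type) [AddCommGroup M], P (Red.diag (ULift.{u} ℤ) M).hom) {H : Over S} [GrpObj H] (h : IsMult H) :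
    P H.hom := by
  obtain ⟨S', f, h1, h2, h3, h4⟩ := h
  refine FpqcLoc.of_fpqc_cover H.hom f h3 fun s' => ?_
  obtain ⟨U, hU, M, _, ⟨e⟩⟩ := h4 s'
  refine ⟨U, hU, ?_⟩
  have h5 : P (Red.DS (U : Scheme.{u}) M).hom := P.pullback_snd _ _ (hP M)
  exact TorusAlgClosed.prop_of_grp_iso (P := P) e h5

theorem isAffineHom {H : Over S} [GrpObj H] (h : IsMult H) : IsAffineHom H.hom :=
  prop_of_isMult (P := @IsAffineHom) (fun M _ => by
    change IsAffineHom (Spec.map _)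
    infer_instance) h

theorem flat {H : Over S} [GrpObj H] (h : IsMult H) : Flat H.hom := by
  have := Groth.Agent.Sga3.H804.EtFam.flat_descends.{u}
  exact prop_of_isMult (P := @Flat) (fun M _ => by
    change Flat (Spec.map (CommRingCat.ofHom (algebraMap (ULift.{u} ℤ) (MonoidAlgebra (ULift.{u} ℤ) (Multiplicative M)))))
    rw [Flat.SpecMap_iff]
    have h1 : Module.Flat (ULift.{u} ℤ) (MonoidAlgebra (ULift.{u} ℤ) (Multiplicative M)) := inferInstance
    exact (RingHom.flat_algebraMap_iff).2 h1) h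

end K21.MultLoc
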