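import Groth.Agent.SGA3x.K21.FlatKer
import Groth.Agent.Sga3.H827.KerLoc
import Groth.Agent.Sga3.H828.DiagChart
import Groth.Agent.Ega43.FPOfComp
import Groth.Agent.SGA3x.K10.MTLoc
import Groth.Agent.Sga3.H827.KerData
import Groth.Agent.SGA3x.K21.DSAdapt

/-!
# Flat closed subgroups of groups of multiplicative type and of finite type are of multiplicative type

* `exists_ideal` : the ideal of a closed subgroup of `D(M)`;
* `exists_local` : a flat closed subgroup of `D(M)` is Zariski-locally `D(M/N)`;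
* `isMultTypeFT` : a flat closed subgroup (locally of finite presentation) of a group of multiplicative type and of
  finite type is of multiplicative type and of finite type.
-/

set_option autoImplicit false
universe u
open CategoryTheory MonoidalCategory CartesianMonoidalCategory MonObj GrpObj AlgebraicGeometry Limits

namespace K21.FlatSub

open Groth.Agent.Sga3.H827 Groth.Agent.Sga3.H828.DiagChart Groth.Agent.Sga3.H828.DiagChart.Chart
open Groth.Agent.Sga3B.DSPts Groth.Agent.Sga3B.InfConj KerAlg1 KerLoc KerPts KerData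

section gen

variable {S : Scheme.{u}} {X Y : Over S} [GrpObj X] [GrpObj Y] (i : X ⟶ Y) [IsMonHom i]

lemma exists_one (T : Over S) : ∃ y : T ⟶ X, y ≫ i = 1 := ⟨1, MonObj.one_comp i⟩

variable {i} in
lemma exists_mul {T : Over S} {x x' : T ⟶ Y} (h : ∃ y, y ≫ i = x) (h' : ∃ y, y ≫ i = x') : ∃ y, y ≫ i = x * x' := by
  obtain ⟨y, rfl⟩ := h
  obtain ⟨y', rfl⟩ := h'
  exact ⟨y * y', MonObj.mul_comp y y' i⟩

end gen

variable {C : Type u} [CommRing C] {M : Type} [AddCommGroup M]

/-- the universal point is an isomorphism -/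
instance isIso_univPt : IsIso (univPt C M) := by
  obtain ⟨h, hh⟩ := exists_eq_comp_charPt (𝟙 (Red.DS (Spec (CommRingCat.of C)) M))
  have hm : Mono (univPt C M) := ⟨fun {T} t t' htt' => by
    have h1 : gl t = gl t' := by
      refine RingHom.ext fun j => ?_
      rw [gl_single, gl_single, htt']
    ext1
    rw [← toSpecΓ_gl t, ← toSpecΓ_gl t', h1]⟩
  refine ⟨h, ?_, hh.symm⟩
  rw [← cancel_mono (univPt C M), Category.assoc, ← hh, Category.comp_id, Category.id_comp]

variable {H : Over (Spec (CommRingCat.of C))} (i : H ⟶ Red.DS (Spec (CommRingCat.of C)) M)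

/-- `J` is the ideal of the closed subscheme `H`. -/
def IsIdealOfSub (J : Ideal (MonoidAlgebra C (Multiplicative M))) : Prop :=
  ∀ (T : Over (Spec (CommRingCat.of C))) (x : T ⟶ Red.DS (Spec (CommRingCat.of C)) M), (∃ y, y ≫ i = x) ↔
    letI := algT T; ∀ j ∈ J, MonoidAlgebra.lift C Γ(T.left, ⊤) (Multiplicative M) (dsChar x) j = 0

/-- The ideal of a closed subscheme of `D(M)`. -/
theorem exists_ideal [AddGroup.FG M] [IsClosedImmersion i.left] [Flat H.hom] [LocallyOfFinitePresentation H.hom] :
    ∃ J : Ideal (MonoidAlgebra C (Multiplicative M)), J.FG ∧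
      Module.Flat C (MonoidAlgebra C (Multiplicative M) ⧸ J) ∧ IsIdealOfSub i J := by
  let A := MonoidAlgebra C (Multiplicative M)
  let t₀ : H ⟶ pt C A := i ≫ inv (univPt C M)
  have ht₀ : t₀ ≫ univPt C M = i := by simp [t₀]
  have hcl : IsClosedImmersion t₀.left := by
    change IsClosedImmersion (i.left ≫ (inv (univPt C M)).left)
    have : IsIso (inv (univPt C M)).left := inferInstanceAs (IsIso ((Over.forget _).map (inv (univPt C M))))
    infer_instance
  obtain ⟨I, e, he⟩ := (IsClosedImmersion.Spec_iff (R := CommRingCat.of A) (f := t₀.left)).1 hcl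
  have hw : t₀.left ≫ Spec.map (CommRingCat.ofHom (algebraMap C A)) = H.hom := Over.w t₀
  refine ⟨I, ?_, ?_, fun T x => ?_⟩
  · have h0 : LocallyOfFinitePresentation (t₀.left ≫ Spec.map (CommRingCat.ofHom (algebraMap C A))) := by
      rw [hw]; infer_instance
    have h1 : LocallyOfFiniteType (Spec.map (CommRingCat.ofHom (algebraMap C A))) := by
      rw [HasRingHomProperty.Spec_iff (P := @LocallyOfFiniteType)]
      have : Group.FG (Multiplicative M) := inferInstance
      have : Monoid.FG (Multiplicative M) := Monoid.fg_of_group_fg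
      change (algebraMap C A).FiniteType
      rw [RingHom.finiteType_algebraMap]
      infer_instance
    have h2 : LocallyOfFinitePresentation t₀.left :=
      Groth.Agent.Ega43.FPOfComp.locallyOfFinitePresentation_of_comp _ (Spec.map (CommRingCat.ofHom (algebraMap C A)))
    have h1 : LocallyOfFinitePresentation (Spec.map (CommRingCat.ofHom (Ideal.Quotient.mk I))) := by
      have h2 : Spec.map (CommRingCat.ofHom (Ideal.Quotient.mk I)) = e.inv ≫ t₀.left := by
        rw [he, Iso.inv_hom_id_assoc]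
      rw [h2]
      infer_instance
    rw [HasRingHomProperty.Spec_iff (P := @LocallyOfFinitePresentation)] at h1
    have h3 : Algebra.FinitePresentation A (A ⧸ I) := h1
    have h4 := Algebra.FinitePresentation.ker_fG_of_surjective (Ideal.Quotient.mkₐ A I)
      (Ideal.Quotient.mkₐ_surjective A I)
    have h5 : RingHom.ker (Ideal.Quotient.mkₐ A I) = I := Ideal.Quotient.mkₐ_ker A I
    exact h5 ▸ h4
  · have h1 : Spec.map (CommRingCat.ofHom (algebraMap C (A ⧸ I))) = e.inv ≫ H.hom := by
      rw [← hw, he, Category.assoc, Iso.inv_hom_id_assoc, ← Spec.map_comp, ← CommRingCat.ofHom_comp]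
    have h2 : Flat (Spec.map (CommRingCat.ofHom (algebraMap C (A ⧸ I)))) := by
      rw [h1]; infer_instance
    rw [HasRingHomProperty.Spec_iff (P := @Flat)] at h2
    exact RingHom.flat_algebraMap_iff.1 h2
  · obtain ⟨t, rfl⟩ := exists_eq_comp_charPt x
    have h1 : (∃ y, y ≫ i = t ≫ univPt C M) ↔ ∃ y, y ≫ t₀ = t := by
      refine exists_congr fun y => ?_
      rw [← ht₀, ← Category.assoc, cancel_mono]
    rw [h1]
    have h2 : (∃ y, y ≫ t₀ = t) ↔ ∀ j ∈ I, gl t j = 0 := by
      constructor
      · rintro ⟨t', rfl⟩ j hj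
        have h1 : gl (t' ≫ t₀) = ((CommRingCat.ofHom (Ideal.Quotient.mk I)) ≫
            (Scheme.ΓSpecIso (CommRingCat.of (A ⧸ I))).inv ≫ (t'.left ≫ e.hom).appTop).hom := by
          unfold gl
          congr 1
          rw [Over.comp_left, he, ← Category.assoc t'.left, Scheme.Hom.comp_appTop (t'.left ≫ e.hom),
            ← Scheme.ΓSpecIso_inv_naturality_assoc]
        rw [h1]
        change ((Scheme.ΓSpecIso (CommRingCat.of (A ⧸ I))).inv ≫ (t'.left ≫ e.hom).appTop).hom (Ideal.Quotient.mk I j) = 0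
        rw [Ideal.Quotient.eq_zero_iff_mem.2 hj, map_zero]
      · intro h
        let ρ : A ⧸ I →+* Γ(T.left, ⊤) := Ideal.Quotient.lift I (gl t) h
        have h1 : (T.left.toSpecΓ ≫ Spec.map (CommRingCat.ofHom ρ) ≫ e.inv) ≫ t₀.left = t.left := by
          rw [he, Category.assoc, Category.assoc, Iso.inv_hom_id_assoc, ← Spec.map_comp, ← toSpecΓ_gl t,
            ← CommRingCat.ofHom_comp]
          rfl
        refine ⟨Over.homMk (T.left.toSpecΓ ≫ Spec.map (CommRingCat.ofHom ρ) ≫ e.inv) ?_, ?_⟩
        · rw [← Over.w t₀, ← Category.assoc, h1, Over.w]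
        · ext1
          exact h1
    rw [h2]
    refine forall₂_congr fun j _ => ?_
    rw [gl_single]

variable {i} {J : Ideal (MonoidAlgebra C (Multiplicative M))}

lemma charPt_iff (hJ : IsIdealOfSub i J) {E : Type u} [CommRing E] [Algebra C E] (χ : Multiplicative M →* E) :
    (∃ y, y ≫ i = charPt (C := C) χ) ↔ ∀ j ∈ J, MonoidAlgebra.lift C E (Multiplicative M) χ j = 0 := by
  have h1 : charPt (C := C) χ = ptMap (MonoidAlgebra.lift C E (Multiplicative M) χ) ≫ univPt C M := by
    rw [univPt, ptMap_charPt]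
    congr 1
    ext m
    simp
  rw [hJ, h1]
  refine forall₂_congr fun j _ => ?_
  rw [← gl_single, gl_ptMap]
  exact map_eq_zero_iff _ (gPt_injective C E)

lemma isKer [GrpObj H] [IsMonHom i] (hJ : IsIdealOfSub i J) : IsKer J where
  one := by
    rw [← charPt_iff hJ]
    have h1 : charPt (C := C) (1 : Multiplicative M →* C) = 1 := by
      unfold charPt
      rw [MonoidHom.comp_one]
      exact map_one (dsEquiv (pt C C) M)
    rw [h1]
    exact exists_one i _
  mul := by
    intro E _ _ χ₁ χ₂ h₁ h₂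
    rw [← charPt_iff hJ] at h₁ h₂ ⊢
    rw [charPt_mul]
    exact exists_mul h₁ h₂

/-- **A flat closed subgroup of `D(M)` is Zariski-locally `D(M/N)`.** -/
theorem exists_local [GrpObj H] [IsMonHom i] [AddGroup.FG M] [IsClosedImmersion i.left] [Flat H.hom]
    [LocallyOfFinitePresentation H.hom] (p : Ideal C) [p.IsPrime] :
    ∃ f, f ∉ p ∧ ∃ N : AddSubgroup M, ∀ (T : Over (Spec (CommRingCat.of C))),
      (letI := algT T; IsUnit (algebraMap C Γ(T.left, ⊤) f)) → ∀ x : T ⟶ Red.DS (Spec (CommRingCat.of C)) M,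
        (∃ y, y ≫ i = x) ↔ ∀ n ∈ N, dsChar x (Multiplicative.ofAdd n) = 1 := by
  obtain ⟨J, hfg, hfl, hJ⟩ := exists_ideal i
  have : Group.FG (Multiplicative M) := inferInstance
  obtain ⟨f, hf, N, hN⟩ := FlatKer.exists_local_flat hfg (isKer hJ) p
  refine ⟨f, hf, Subgroup.toAddSubgroup' N, fun T hT x => ?_⟩
  let _ := algT T
  exact (hJ T x).trans (hN Γ(T.left, ⊤) hT (dsChar x))

section chart

variable {S : Scheme.{u}} {H H' B : Over S} [GrpObj H] [GrpObj H'] (i : H ⟶ H') [IsMonHom i] [Mono i]
  {M : Type} [AddCommGroup M]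

/-- descent of a character to the quotient -/
noncomputable def liftN {A : Type*} [CommRing A] (N : AddSubgroup M) (χ : Multiplicative M →* A)
    (h : ∀ n ∈ N, χ (Multiplicative.ofAdd n) = 1) : Multiplicative (M ⧸ N) →* A :=
  AddMonoidHom.toMultiplicativeLeft (QuotientAddGroup.lift N (MonoidHom.toAdditiveRight χ) h)

lemma liftN_mk {A : Type*} [CommRing A] (N : AddSubgroup M) (χ : Multiplicative M →* A)
    (h : ∀ n ∈ N, χ (Multiplicative.ofAdd n) = 1) (m : M) :
    liftN N χ h (Multiplicative.ofAdd (m : M ⧸ N)) = χ (Multiplicative.ofAdd m) := rfl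

lemma ext_mk {A : Type*} [CommRing A] (N : AddSubgroup M) {χ χ' : Multiplicative (M ⧸ N) →* A}
    (h : ∀ m : M, χ (Multiplicative.ofAdd (m : M ⧸ N)) = χ' (Multiplicative.ofAdd (m : M ⧸ N))) : χ = χ' := by
  refine MonoidHom.ext fun q => ?_
  obtain ⟨m, hm⟩ := QuotientAddGroup.mk_surjective q.toAdd
  have h1 := h m
  rw [hm] at h1
  exact h1

/-- in the chart `c` the subgroup `i : H ⟶ H'` is the set of points killed by `N` -/
def AdaptedSub (c : Chart H' B M) (N : AddSubgroup M) : Prop :=
  ∀ (X : Over S) (t : X ⟶ B) (x : X ⟶ H'), (∃ y, y ≫ i = x) ↔ ∀ n ∈ N, c.chr t x (Multiplicative.ofAdd n) = 1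

variable {i} {c : Chart H' B M} {N : AddSubgroup M}

omit [GrpObj H] [IsMonHom i] [Mono i] in
lemma exists_lift (hN : AdaptedSub i c N) {X : Over S} (t : X ⟶ B) (χ : Multiplicative (M ⧸ N) →* Γ(X.left, ⊤)) :
    ∃ y, y ≫ i = (c.chr t).symm (χ.comp (AddMonoidHom.toMultiplicative (QuotientAddGroup.mk' N))) := by
  refine (hN X t _).2 (fun n hn => ?_)
  rw [MulEquiv.apply_symm_apply]
  have : QuotientAddGroup.mk' N n = 0 := (QuotientAddGroup.eq_zero_iff n).2 hn
  change χ (Multiplicative.ofAdd (QuotientAddGroup.mk' N n)) = 1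
  rw [this]
  exact map_one χ

/-- the chart of the subgroup -/
noncomputable def subChart (hN : AdaptedSub i c N) : Chart H B (M ⧸ N) where
  chr {X} t :=
    { toFun := fun y => liftN N (c.chr t (y ≫ i)) ((hN X t (y ≫ i)).1 ⟨y, rfl⟩)
      invFun := fun χ => (exists_lift hN t χ).choose
      left_inv := fun y => by
        rw [← cancel_mono i]
        refine (exists_lift hN t (liftN N (c.chr t (y ≫ i)) ((hN X t (y ≫ i)).1 ⟨y, rfl⟩))).choose_spec.trans ?_
        apply (c.chr t).injective
        rw [MulEquiv.apply_symm_apply]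
        rfl
      right_inv := fun χ => by
        refine ext_mk N fun m => ?_
        rw [liftN_mk, (exists_lift hN t χ).choose_spec, MulEquiv.apply_symm_apply]
        rfl
      map_mul' := fun y y' => by
        refine ext_mk N fun m => ?_
        rw [MonoidHom.mul_apply, liftN_mk, liftN_mk, liftN_mk, MonObj.mul_comp, map_mul, MonoidHom.mul_apply] }
  chr_comp {X X'} g t y := by
    refine ext_mk N fun m => ?_
    change liftN N (c.chr (g ≫ t) ((g ≫ y) ≫ i)) _ (Multiplicative.ofAdd (m : M ⧸ N)) =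
      g.left.appTop.hom (liftN N (c.chr t (y ≫ i)) _ (Multiplicative.ofAdd (m : M ⧸ N)))
    rw [liftN_mk, liftN_mk]
    have h1 := c.chr_comp g t (y ≫ i)
    rw [← Category.assoc] at h1
    rw [h1]
    rfl

end chart

section final

variable {S : Scheme.{u}} {H H' : Over S} [GrpObj H] [GrpObj H'] (i : H ⟶ H') [IsMonHom i]

/-- Étale-locally on the base, a flat closed subgroup is `D(M/N)` in `D(M)`. -/
theorem exists_split [IsClosedImmersion i.left] [Flat H.hom] [LocallyOfFinitePresentation H.hom]
    {B : Type u} [CommRing B] (v : Spec (CommRingCat.of B) ⟶ S) {M : Type} [AddCommGroup M] [AddGroup.FG M]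
    (e : Grp.mk (Red.bc v H') ≅ Grp.mk (Red.DS (Spec (CommRingCat.of B)) M)) (p : Spec (CommRingCat.of B)) :
    ∃ f : B, f ∉ p.asIdeal ∧ ∃ N : AddSubgroup M,
      Nonempty (Grp.mk (Red.bc (Spec.map (CommRingCat.ofHom (algebraMap B (Localization.Away f))) ≫ v) H) ≅
        Grp.mk (Red.DS (Spec (CommRingCat.of (Localization.Away f))) (M ⧸ N))) := by
  let i₁ : Red.bc v H ⟶ Red.DS (Spec (CommRingCat.of B)) M := (Over.pullback v).map i ≫ e.hom.hom.hom
  have h1 : IsMonHom e.hom.hom.hom := e.hom.hom.isMonHom_hom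
  have h0 : IsMonHom i₁ := inferInstanceAs (IsMonHom ((Over.pullback v).map i ≫ e.hom.hom.hom))
  have he : IsIso e.hom.hom.hom.left := by
    have : IsIso e.hom.hom.hom := inferInstanceAs (IsIso ((Grp.forget _).map e.hom))
    exact inferInstanceAs (IsIso ((Over.forget _).map e.hom.hom.hom))
  have h2 : IsClosedImmersion i₁.left := by
    have : IsClosedImmersion ((Over.pullback v).map i).left :=
      MorphismProperty.of_isPullback (P := @IsClosedImmersion) (Groth.Agent.Sga3.H798.FpqcIso.isPullback_map_left v i)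
        inferInstance
    change IsClosedImmersion (((Over.pullback v).map i).left ≫ e.hom.hom.hom.left)
    infer_instance
  have h3 : Flat (Red.bc v H).hom := inferInstanceAs (Flat (pullback.snd _ _))
  have h4 : LocallyOfFinitePresentation (Red.bc v H).hom :=
    inferInstanceAs (LocallyOfFinitePresentation (pullback.snd _ _))
  have h5 : Mono i₁ := Groth.Agent.Sga3C.ClosedSub.mono_of_left i₁
  obtain ⟨f, hf, N, hN⟩ := exists_local (i := i₁) p.asIdeal
  refine ⟨f, hf, N, ?_⟩
  let ρ : Spec (CommRingCat.of (Localization.Away f)) ⟶ Spec (CommRingCat.of B) :=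
    Spec.map (CommRingCat.ofHom (algebraMap B (Localization.Away f)))
  have h6 : AdaptedSub i₁ (K21.DSAdapt.dsChart (Over.mk ρ) M) N := by
    intro X t x
    refine hN X ?_ x
    have h7 := isUnit_of_away f t.left
    have h8 : t.left ≫ ρ = X.hom := Over.w t
    change IsUnit (((Scheme.ΓSpecIso (.of B)).inv ≫ (t.left ≫ ρ).appTop).hom f) at h7
    rw [h8] at h7
    exact h7
  obtain ⟨e'⟩ := (subChart h6).toIso
  exact ⟨Groth.Agent.Sga3B.BcIso.bcCompIso ρ v H ≪≫ e'⟩

/-- **A flat closed subgroup, locally of finite presentation, of a group of multiplicative type and of finite type, is of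
multiplicative type and of finite type.** -/
theorem isMultTypeFT (hH' : SGA3x.IsMultTypeFT H') [IsClosedImmersion i.left] [Flat H.hom]
    [LocallyOfFinitePresentation H.hom] : SGA3x.IsMultTypeFT H := by
  refine K10.MTLoc.of_etale_split fun s => ?_
  obtain ⟨B, _, v, M, _, hv, ⟨p, hp⟩, hM, ⟨e⟩⟩ := K10.MTLoc.exists_etale_split hH' s
  obtain ⟨f, hf, N, he⟩ := exists_split i v e p
  refine ⟨_, _, M ⧸ N, inferInstance, inferInstance, ?_, inferInstance, he⟩
  obtain ⟨z, hz⟩ : p ∈ Set.range (Spec.map (CommRingCat.ofHom (algebraMap B (Localization.Away f)))) := by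
    change p ∈ Set.range (PrimeSpectrum.comap (algebraMap B (Localization.Away f)))
    rw [PrimeSpectrum.localization_away_comap_range (Localization.Away f) f]
    exact hf
  exact ⟨z, by rw [Scheme.Hom.comp_apply, hz, hp]⟩

end final

end K21.FlatSub
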