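import Groth.Agent.SGA3.K206.Fpqc
import Groth.Prelude.Def_TwC

/-!
# Common refinements of fpqc-local properties
-/

set_option autoImplicit false
universe u
open CategoryTheory AlgebraicGeometry Limits

namespace K21.LocAnd

open K206.Fpqc

variable {S : Scheme.{u}}

lemma locally_fpqc_iff {P : ∀ S' : Scheme.{u}, (S' ⟶ S) → Prop} :
    TwC.Locally S TwC.Topology.fpqc P ↔ ∃ (S' : Scheme.{u}) (f : S' ⟶ S), IsFpqc f ∧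
      ∀ s' : S', ∃ U : S'.Opens, s' ∈ U ∧ P U (U.ι ≫ f) := by
  constructor
  · rintro ⟨S', f, h1, h2, h3, h4⟩
    exact ⟨S', f, ⟨h1, h2, h3⟩, h4⟩
  · rintro ⟨S', f, h, h4⟩
    exact ⟨S', f, h.flat, h.surj, h.qc, h4⟩

/-- **Common refinement of two fpqc-local properties stable under base change.** -/
theorem locally_and {P Q : ∀ S' : Scheme.{u}, (S' ⟶ S) → Prop}
    (hP : ∀ (S' X' : Scheme.{u}) (p : S' ⟶ S) (h : X' ⟶ S'), P S' p → P X' (h ≫ p))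
    (hQ : ∀ (S' X' : Scheme.{u}) (p : S' ⟶ S) (h : X' ⟶ S'), Q S' p → Q X' (h ≫ p))
    (h₁ : TwC.Locally S TwC.Topology.fpqc P) (h₂ : TwC.Locally S TwC.Topology.fpqc Q) :
    TwC.Locally S TwC.Topology.fpqc (fun S' f => P S' f ∧ Q S' f) := by
  rw [locally_fpqc_iff] at h₁ h₂ ⊢
  obtain ⟨S₁, f₁, h₁, H₁⟩ := h₁
  obtain ⟨S₂, f₂, h₂, H₂⟩ := h₂
  refine ⟨pullback f₁ f₂, pullback.fst f₁ f₂ ≫ f₁, (h₂.pullback_fst f₁).comp h₁, fun s' => ?_⟩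
  obtain ⟨U₁, hU₁, hP'⟩ := H₁ (pullback.fst f₁ f₂ s')
  obtain ⟨U₂, hU₂, hQ'⟩ := H₂ (pullback.snd f₁ f₂ s')
  let U : (pullback f₁ f₂).Opens := (pullback.fst f₁ f₂ ⁻¹ᵁ U₁) ⊓ (pullback.snd f₁ f₂ ⁻¹ᵁ U₂)
  refine ⟨U, ⟨hU₁, hU₂⟩, ?_, ?_⟩
  · let r : (U : Scheme.{u}) ⟶ U₁ := (pullback.fst f₁ f₂).resLE U₁ U inf_le_left
    have hr : r ≫ U₁.ι = U.ι ≫ pullback.fst f₁ f₂ := by simp [r]
    have h3 : U.ι ≫ pullback.fst f₁ f₂ ≫ f₁ = r ≫ U₁.ι ≫ f₁ := by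
      rw [← Category.assoc, ← hr, Category.assoc]
    rw [h3]
    exact hP _ _ _ r hP'
  · let r : (U : Scheme.{u}) ⟶ U₂ := (pullback.snd f₁ f₂).resLE U₂ U inf_le_right
    have hr : r ≫ U₂.ι = U.ι ≫ pullback.snd f₁ f₂ := by simp [r]
    have h3 : U.ι ≫ pullback.fst f₁ f₂ ≫ f₁ = r ≫ U₂.ι ≫ f₂ := by
      rw [pullback.condition, ← Category.assoc, ← hr, Category.assoc]
    rw [h3]
    exact hQ _ _ _ r hQ'

end K21.LocAnd
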