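import Groth.Agent.Sga3.H798.TorusClosed
import Groth.Agent.Sga3.H827.ChartK
import Groth.Agent.SGA3x.K21.MultLoc
import Mathlib.GroupTheory.Torsion
import Mathlib.GroupTheory.FiniteAbelian.Basic
import Mathlib.Algebra.AffineMonoid.UniqueSums

/-!
# Monomorphisms from groups of multiplicative type are closed immersions

* `isClosedImmersion_DS`: a homomorphism `D_S(M) ⟶ G` which is a monomorphism, `M` finitely generated, `G` separated
  and of finite type over `S`, is a closed immersion.
* `isClosedImmersion`: the same for a group of multiplicative type and finite type.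
-/

set_option autoImplicit false
universe u
open CategoryTheory MonoidalCategory CartesianMonoidalCategory MonObj GrpObj AlgebraicGeometry Limits

namespace K21.MonoClosed
open Groth.Agent.Sga3.H798 Groth.Agent.Sga3.H798.TorusClosed Groth.Agent.Sga3.H798.TorusVal
open Groth.Agent.Sga3B Groth.Agent.Sga3B.DSPts Groth.Agent.Sga3B.InfConj Groth.Agent.Sga3B.InfConjFam PtChart
  TorusAlg Groth.Agent.Sga3B.DSRigid

lemma exists_torsion (M : Type) [AddCommGroup M] [AddGroup.FG M] :
    ∃ (M' : Type) (_ : AddCommGroup M') (_ : AddGroup.FG M') (_ : IsAddTorsionFree M') (π : M →+ M') (ψ : M' →+ M)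
      (n : ℕ), n ≠ 0 ∧ Function.Surjective π ∧ ∀ m, ψ (π m) = n • m := by
  have h1 : Module.Finite ℤ M := Module.Finite.iff_addGroup_fg.mpr inferInstance
  have h2 : IsNoetherian ℤ M := inferInstance
  let T : AddSubgroup M := AddCommGroup.torsion M
  have h3 : (AddSubgroup.toIntSubmodule T).FG := IsNoetherian.noetherian _
  have h4 : AddGroup.FG T := by
    rw [← Module.Finite.iff_addGroup_fg]
    exact Module.Finite.iff_fg.mpr h3
  have h5 : Finite T := AddCommGroup.finite_of_fg_isAddTorsion T (fun t => by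
    obtain ⟨t, ht⟩ := t
    refine isOfFinAddOrder_iff_nsmul_eq_zero.2 ?_
    obtain ⟨n, hn, h⟩ := isOfFinAddOrder_iff_nsmul_eq_zero.1 ((AddCommGroup.mem_torsion _).1 ht)
    exact ⟨n, hn, Subtype.ext h⟩)
  have h6 : ∀ t ∈ T, Nat.card T • t = 0 := by
    intro t ht
    have := card_nsmul_eq_zero' (G := T) (x := ⟨t, ht⟩)
    exact congrArg Subtype.val this
  refine ⟨M ⧸ T, inferInstance, inferInstance, inferInstanceAs (IsAddTorsionFree (M ⧸ AddCommGroup.torsion M)),
    QuotientAddGroup.mk' T, QuotientAddGroup.lift T (nsmulAddMonoidHom (Nat.card T)) h6, Nat.card T, Nat.card_pos.ne',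
    QuotientAddGroup.mk'_surjective T, fun m => rfl⟩

section local_

variable {R : Type u} [CommRing R] [IsDomain R] [ValuationRing R] {K : Type u} [Field K] [Algebra R K]
  [IsFractionRing R K] {G : Over (Spec (CommRingCat.of R))} [GrpObj G] {M : Type} [AddCommGroup M]
  [AddGroup.FG M]

/-- **Points of groups of multiplicative type over valuation rings.** -/
theorem val_eq_one (i : Red.DS (Spec (.of R)) M ⟶ G) [IsMonHom i]
    (x : Multiplicative M →* K) (y : pt R R ⟶ G) (hy : ptMap (Algebra.ofId R K) ≫ y = charPt x ≫ i)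
    [Mono i] [LocallyOfFiniteType G.hom] [QuasiCompact G.hom] (m : Multiplicative M) :
    ValuationRing.valuation R K (x m) = 1 := by
  obtain ⟨M', _, _, _, π, ψ, n, hn, hπ, hψ⟩ := exists_torsion M
  have hm : Mono (Red.DSmap (Spec (.of R)) π) := Groth.Agent.Sga3.H827.ChartK.mono_DSmap π hπ _
  have hh : IsMonHom (Red.DSmap (Spec (.of R)) π) := Groth.Agent.Sga3.H827.KerLoc.isMonHom_DSmap π
  have hUP : UniqueProds (Multiplicative M') := by
    have h1 : AddMonoid.FG M' := AddGroup.fg_iff_addMonoid_fg.1 inferInstance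
    have h2 : TwoUniqueSums M' := inferInstance
    infer_instance
  let x' : Multiplicative M' →* K := x.comp (AddMonoidHom.toMultiplicative ψ)
  have hx' : x'.comp (AddMonoidHom.toMultiplicative π) = x ^ n := by
    refine MonoidHom.ext fun m => ?_
    change x (Multiplicative.ofAdd (ψ (π m.toAdd))) = x m ^ n
    rw [hψ, ofAdd_nsmul, map_pow]
    rfl
  have h0 : (charPt x ≫ i) ^ n = charPt (x ^ n) ≫ i := by
    rw [TorusVal.charPt_pow]
    exact (TorusVal.pow_comp i (charPt x) n).symm
  have h1 := TorusVal.val_eq_one (K := K) (Red.DSmap (Spec (.of R)) π ≫ i) x' (y ^ n) (by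
    rw [TorusVal.comp_pow, hy, h0, ← hx', ← Category.assoc,
      Groth.Agent.Sga3.H827.KerLoc.charPt_DSmap]) (Multiplicative.ofAdd (π m.toAdd))
  have h2 : x' (Multiplicative.ofAdd (π m.toAdd)) = x m ^ n := congr($hx' m)
  rw [h2, map_pow] at h1
  exact (pow_eq_one_iff_of_nonneg zero_le' hn).1 h1

/-- A point over the fraction field of a subtorus which extends to an integral point of the group is an integral
point of the torus. -/
theorem exists_lift (i : Red.DS (Spec (.of R)) M ⟶ G) [IsMonHom i] [Mono i] [LocallyOfFiniteType G.hom]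
    [QuasiCompact G.hom] [IsSeparated G.hom] (x : pt R K ⟶ Red.DS (Spec (.of R)) M) (y : pt R R ⟶ G)
    (hy : ptMap (Algebra.ofId R K) ≫ y = x ≫ i) :
    ∃ t : pt R R ⟶ Red.DS (Spec (.of R)) M, t ≫ i = y := by
  obtain ⟨χ, rfl⟩ := exists_eq_charPt x
  have h1 : ∀ m, ∃ u : Rˣ, algebraMap R K u = χ m := fun m =>
    exists_unit_of_eq_one (val_eq_one i χ y hy m)
  choose u hu using h1
  have hinj := IsFractionRing.injective R K
  let χ' : Multiplicative M →* R :=
    { toFun := fun m => (u m : R)
      map_one' := hinj (by rw [hu, map_one, map_one])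
      map_mul' := fun m m' => hinj (by rw [map_mul, hu, hu, hu, map_mul]) }
  refine ⟨charPt χ', eq_of_ptMap (K := K) _ _ ?_⟩
  have h2 : ptMap (Algebra.ofId R K) ≫ charPt (C := R) χ' = charPt χ := by
    rw [ptMap_charPt]
    congr 1
    exact MonoidHom.ext fun m => hu m
  rw [hy, ← h2, Category.assoc]

end local_

variable {S : Scheme.{u}}

/-- Lifting of integral points. -/
theorem exists_lift_over {R : Type u} [CommRing R] [IsDomain R] [ValuationRing R] {K : Type u} [Field K] [Algebra R K]
    [IsFractionRing R K] {G : Over S} [GrpObj G] {M : Type} [AddCommGroup M] [AddGroup.FG M]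
    (i : Red.DS S M ⟶ G) [IsMonHom i] [Mono i] [IsSeparated G.hom] [LocallyOfFiniteType G.hom] [QuasiCompact G.hom]
    (s : Spec (.of R) ⟶ S) (x₀ : (Over.map s).obj (pt R K) ⟶ Red.DS S M) (y₀ : (Over.map s).obj (pt R R) ⟶ G)
    (hxy : (Over.map s).map (ptMap (Algebra.ofId R K)) ≫ y₀ = x₀ ≫ i) :
    ∃ l : (Over.map s).obj (pt R R) ⟶ Red.DS S M, l ≫ i = y₀ := by
  let e := RedIso.und (TorusAlgClosed.dsBcIso s M)
  have h1 : IsMonHom (e.inv ≫ (Over.pullback s).map i) := inferInstance
  have h2 : Mono (e.inv ≫ (Over.pullback s).map i) := inferInstance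
  have h3 : IsSeparated (Red.bc s G).hom := inferInstanceAs (IsSeparated (pullback.snd _ _))
  have h4 : LocallyOfFiniteType (Red.bc s G).hom := inferInstanceAs (LocallyOfFiniteType (pullback.snd _ _))
  have h5 : QuasiCompact (Red.bc s G).hom := inferInstanceAs (QuasiCompact (pullback.snd _ _))
  obtain ⟨t, ht⟩ := exists_lift (K := K) (e.inv ≫ (Over.pullback s).map i) (BcPts.bcEquiv s _ _ x₀ ≫ e.hom)
    (BcPts.bcEquiv s _ _ y₀) (by
      rw [Category.assoc, e.hom_inv_id_assoc, ← BcPts.bcEquiv_comp, ← hxy, BcPts.comp_bcEquiv])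
  refine ⟨(BcPts.bcEquiv s _ _).symm (t ≫ e.inv), ?_⟩
  apply (BcPts.bcEquiv s _ _).injective
  rw [BcPts.bcEquiv_comp, Equiv.apply_symm_apply, Category.assoc]
  exact ht

theorem universallyClosed_DS {G : Over S} [GrpObj G] {M : Type} [AddCommGroup M] [AddGroup.FG M]
    (i : Red.DS S M ⟶ G) [IsMonHom i] [Mono i] [IsSeparated G.hom] [LocallyOfFiniteType G.hom] [QuasiCompact G.hom]
    [QuasiCompact i.left] :
    UniversallyClosed i.left := by
  have hmono : Mono i.left := inferInstance
  refine UniversallyClosed.of_valuativeCriterion _ fun sq => ?_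
  obtain ⟨R, K, i₁, i₂, ⟨hw⟩⟩ := sq
  obtain ⟨l, hl⟩ := exists_lift_over (R := R) (K := K) i (i₂ ≫ G.hom)
    (Over.homMk i₁ (by
      change i₁ ≫ (Red.DS S M).hom = Spec.map (CommRingCat.ofHom (algebraMap R K)) ≫ i₂ ≫ G.hom
      rw [← Over.w i, ← Category.assoc, hw, Category.assoc]))
    (Over.homMk i₂ (by
      change i₂ ≫ G.hom = (pt R R).hom ≫ i₂ ≫ G.hom
      rw [pt_hom_self, Category.id_comp])) (by
      ext1
      exact hw.symm)
  have h1 : l.left ≫ i.left = i₂ := congrArg (fun f => f.left) hl
  refine ⟨⟨l.left, ?_, h1⟩⟩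
  rw [← cancel_mono i.left, Category.assoc, h1]
  exact hw.symm

lemma locallyOfFiniteType_DS (M : Type) [AddCommGroup M] [AddGroup.FG M] : LocallyOfFiniteType (Red.DS S M).hom := by
  have h1 : LocallyOfFiniteType (Red.diag (ULift.{u} ℤ) M).hom := by
    change LocallyOfFiniteType (Spec.map (CommRingCat.ofHom (algebraMap (ULift.{u} ℤ) (MonoidAlgebra (ULift.{u} ℤ) (Multiplicative M)))))
    rw [HasRingHomProperty.Spec_iff (P := @LocallyOfFiniteType)]
    have : Monoid.FG (Multiplicative M) := Group.fg_iff_monoid_fg.1 inferInstance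
    have : Algebra.FiniteType (ULift.{u} ℤ) (MonoidAlgebra (ULift.{u} ℤ) (Multiplicative M)) := inferInstance
    exact (RingHom.finiteType_algebraMap).2 this
  exact inferInstanceAs (LocallyOfFiniteType (pullback.snd _ _))

lemma isAffineHom_DS (M : Type) [AddCommGroup M] : IsAffineHom (Red.DS S M).hom :=
  MultLoc.isAffineHom (MultLoc.isMult_DS M)

/-- **A homomorphism `D_S(M) ⟶ G` which is a monomorphism, `M` finitely generated, `G` separated of finite type, is a
closed immersion.** -/
theorem isClosedImmersion_DS {G : Over S} [GrpObj G] {M : Type} [AddCommGroup M] [AddGroup.FG M]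
    (i : Red.DS S M ⟶ G) [IsMonHom i] [Mono i] [IsSeparated G.hom] [LocallyOfFiniteType G.hom] [QuasiCompact G.hom] :
    IsClosedImmersion i.left := by
  have hml : Mono i.left := inferInstance
  have h1 : IsAffineHom (Red.DS S M).hom := isAffineHom_DS M
  have h2 : LocallyOfFiniteType (Red.DS S M).hom := locallyOfFiniteType_DS M
  have h3 : QuasiCompact (i.left ≫ G.hom) := by rw [Over.w i]; infer_instance
  have h4 : LocallyOfFiniteType (i.left ≫ G.hom) := by rw [Over.w i]; infer_instance
  have h5 : QuasiCompact i.left := QuasiCompact.of_comp _ G.hom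
  have h6 : LocallyOfFiniteType i.left := locallyOfFiniteType_of_comp _ G.hom
  have h7 : UniversallyClosed i.left := universallyClosed_DS i
  rw [IsClosedImmersion.iff_isProper_and_mono]
  exact ⟨{}, hml⟩

/-- **A homomorphism from a group of multiplicative type and finite type to a separated group scheme of finite type
which is a monomorphism is a closed immersion.** -/
theorem isClosedImmersion {T G : Over S} [GrpObj T] [GrpObj G] (i : T ⟶ G) [IsMonHom i] [Mono i]
    (hT : SGA3x.IsMultTypeFT T) [IsSeparated G.hom] [LocallyOfFiniteType G.hom] [QuasiCompact G.hom] :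
    IsClosedImmersion i.left := by
  obtain ⟨S', f, hf, hs, hc, h⟩ := hT
  refine FpqcIso.prop_of_fpqc_cover (P := @IsClosedImmersion) f hc i fun s' => ?_
  obtain ⟨U, hU, M, _, hM, ⟨e⟩⟩ := h s'
  refine ⟨U, hU, ?_⟩
  let g := U.ι ≫ f
  have : IsSeparated (Red.bc g G).hom := inferInstanceAs (IsSeparated (pullback.snd _ _))
  have : LocallyOfFiniteType (Red.bc g G).hom := inferInstanceAs (LocallyOfFiniteType (pullback.snd _ _))
  have : QuasiCompact (Red.bc g G).hom := inferInstanceAs (QuasiCompact (pullback.snd _ _))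
  let i' : Red.DS (U : Scheme.{u}) M ⟶ Red.bc g G := (RedIso.und e).inv ≫ (Over.pullback g).map i
  have hi' : IsMonHom i' := inferInstanceAs (IsMonHom ((RedIso.und e).inv ≫ (Over.pullback g).map i))
  have hm' : Mono i' := inferInstanceAs (Mono ((RedIso.und e).inv ≫ (Over.pullback g).map i))
  have h8 : IsClosedImmersion i'.left := isClosedImmersion_DS i'
  have h9 : ((Over.pullback g).map i) = (RedIso.und e).hom ≫ i' := ((RedIso.und e).hom_inv_id_assoc _).symm
  have h10 : IsIso (RedIso.und e).hom.left := inferInstanceAs (IsIso ((Over.forget _).map (RedIso.und e).hom))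
  change IsClosedImmersion ((Over.pullback g).map i).left
  rw [h9, Over.comp_left]
  infer_instance

end K21.MonoClosed
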