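import Groth.Agent.SGA3x.K21.CentMult
import Groth.Agent.SGA3x.K21.LocAnd
import Groth.Agent.SGA3x.K21.MonoClosed
import Groth.Agent.SGA3x.K10.MTLoc

/-!
# Transporters of subgroups of multiplicative type

* `exists_smooth_transporter` : `G` smooth, separated and of finite type over `S`, `q₁ : Q₁ ⟶ G` a homomorphism from
  a group of multiplicative type, `q₂ : Q₂ ⟶ G` a subgroup of multiplicative type and of finite type; the transporter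
  `{g : g Q₁ g⁻¹ ⊆ Q₂}` is a closed subscheme of `G`, smooth over `S`.
-/

set_option autoImplicit false
universe u
open CategoryTheory MonoidalCategory CartesianMonoidalCategory MonObj GrpObj AlgebraicGeometry Limits

namespace K21.TransMult

open Groth.Agent.Sga3B Groth.Agent.Sga3B.CentRep Groth.Agent.Sga3B.CentSmooth Groth.Agent.Sga3B.CentLift
open Groth.Agent.Sga3B.InfConj Groth.Agent.Sga3B.InfConjFam Groth.Agent.Sga3B.DSPts Groth.Agent.Sga3B.DSRigid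

variable {S : Scheme.{u}} {G Q₁ Q₂ : Over S} [GrpObj G] [GrpObj Q₁] [GrpObj Q₂] (q₁ : Q₁ ⟶ G) (q₂ : Q₂ ⟶ G)

/-- The `T`-points of the transporter. -/
def transPts (T : Over S) : Set (T ⟶ G) :=
  {g | ∀ (T' : Over S) (x : T' ⟶ T) (h : T' ⟶ Q₁), ∃ h' : T' ⟶ Q₂, (x ≫ g) * (h ≫ q₁) * (x ≫ g)⁻¹ = h' ≫ q₂}

variable [IsMonHom q₁] [IsMonHom q₂]

/-- Over a local base conjugation into `Q₂` is given by a homomorphism of the character groups. -/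
lemma trans_step [Mono q₂] {M₁ M₂ : Type} [AddCommGroup M₁] [AddCommGroup M₂] {y : Over S} {R : Type u} [CommRing R]
    [IsLocalRing R] (x₀ : Spec (CommRingCat.of R) ⟶ S)
    (r : Over.mk x₀ ⟶ y) (e₁ : Red.DS S M₁ ⊗ y ⟶ Q₁) (he₁ : AutFam.IsHomFamily (Red.DS S M₁) Q₁ e₁)
    (e₂ : Red.DS S M₂ ⊗ y ⟶ Q₂) (he₂ : AutFam.IsIsoFamily (Red.DS S M₂) Q₂ e₂)
    (g₀ : Over.mk x₀ ⟶ G)
    (h : ∀ (T : Over S) (t : T ⟶ Over.mk x₀) (k : T ⟶ Q₁), ∃ k' : T ⟶ Q₂,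
      (t ≫ g₀) * (k ≫ q₁) * (t ≫ g₀)⁻¹ = k' ≫ q₂) :
    ∃ φ : M₂ →+ M₁, ∀ (T : Over S) (d : T ⟶ Red.DS S M₁) (t : T ⟶ Over.mk x₀),
      (t ≫ g₀) * ((lift d (t ≫ r) ≫ e₁) ≫ q₁) * (t ≫ g₀)⁻¹ =
        (lift (d ≫ Red.DSmap S φ) (t ≫ r) ≫ e₂) ≫ q₂ := by
  obtain ⟨he, ψ, hψ1, hψ2⟩ := he₂
  have hψ := isHomFamily_inverse he hψ1 hψ2
  obtain ⟨k, hk⟩ := h (Red.DS S M₁ ⊗ Over.mk x₀) (snd _ _) (lift (fst _ _) (snd _ _ ≫ r) ≫ e₁)
  have hk' : ∀ (T : Over S) (d : T ⟶ Red.DS S M₁) (t : T ⟶ Over.mk x₀),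
      (t ≫ g₀) * ((lift d (t ≫ r) ≫ e₁) ≫ q₁) * (t ≫ g₀)⁻¹ = (lift d t ≫ k) ≫ q₂ := by
    intro T d t
    have h1 := congrArg (fun f => lift d t ≫ f) hk
    simp only [MonObj.comp_mul, GrpObj.comp_inv, ← Category.assoc, comp_lift, lift_fst, lift_snd] at h1
    exact h1
  let θ : Red.DS S M₁ ⊗ Over.mk x₀ ⟶ Red.DS S M₂ := lift k (snd _ _ ≫ r) ≫ ψ
  have hθ' : ∀ (T : Over S) (d : T ⟶ Red.DS S M₁) (t : T ⟶ Over.mk x₀),
      lift d t ≫ θ = lift (lift d t ≫ k) (t ≫ r) ≫ ψ := by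
    intro T d t
    simp only [θ, ← Category.assoc, comp_lift, lift_snd]
  have hθ : AutFam.IsHomFamily (Red.DS S M₁) (Red.DS S M₂) θ := by
    intro T d₁ d₂ t
    rw [hθ', hθ', hθ', ← hψ]
    congr 2
    rw [← cancel_mono q₂, ← hk', he₁]
    rw [MonObj.mul_comp, MonObj.mul_comp, ← hk', ← hk']
    group
  obtain ⟨φ, hφ⟩ := exists_DSmap_family x₀ θ hθ
  refine ⟨φ, fun T d t => ?_⟩
  rw [hk', ← hφ T d t, hθ', hψ2]

variable {B : Type u} [CommRing B] [IsLocalRing B] (I : Ideal B) (hI : I * I = ⊥)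
  (x : Spec (CommRingCat.of B) ⟶ S) {M₁ M₂ : Type} [AddCommGroup M₁] [AddCommGroup M₂]
  (hQ₁ : Red.IsSplitTorusWith M₁ (Red.bc x Q₁)) (hQ₂ : Red.IsSplitTorusWith M₂ (Red.bc x Q₂)) [IsSeparated G.hom]

include hI hQ₁ hQ₂

/-- A point which transports the split group `Q₁` into `Q₂` modulo `I` can be corrected to a point
transporting `Q₁` into `Q₂`. -/
theorem trans_lift [Mono q₂] (g₁ : Over.mk x ⟶ G) (h₁ : redMap x I ≫ g₁ ∈ transPts q₁ q₂ _) :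
    ∃ w : Over.mk x ⟶ G, redMap x I ≫ w = 1 ∧ w⁻¹ * g₁ ∈ transPts q₁ q₂ _ := by
  obtain ⟨e₁, he1⟩ := exists_isIsoFamily x hQ₁
  obtain ⟨e₂, he20⟩ := exists_isIsoFamily x hQ₂
  have hIne : I ≠ ⊤ := by
    rintro rfl
    rw [Ideal.top_mul] at hI
    exact top_ne_bot hI
  have : Nontrivial (B ⧸ I) := Ideal.Quotient.nontrivial_iff.mpr hIne
  have : IsLocalRing (B ⧸ I) := IsLocalRing.of_surjective' (Ideal.Quotient.mk I) Ideal.Quotient.mk_surjective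
  let x₀ : Spec (CommRingCat.of (B ⧸ I)) ⟶ S := Spec.map (CommRingCat.ofHom (Ideal.Quotient.mk I)) ≫ x
  let r : Over.mk x₀ ⟶ Over.mk x := redMap x I
  let g₀ : Over.mk x₀ ⟶ G := r ≫ g₁
  obtain ⟨he₁, ψ₁, hψ11, hψ12⟩ := he1
  obtain ⟨φ, hφ⟩ := trans_step q₁ q₂ x₀ r e₁ he₁ e₂ he20 g₀ (fun T t k => h₁ T t k)
  obtain ⟨he₂, ψ₂, hψ21, hψ22⟩ := he20
  let a : Red.DS S M₁ ⊗ Over.mk x ⟶ G := (snd _ _ ≫ g₁) * (e₁ ≫ q₁) * (snd _ _ ≫ g₁)⁻¹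
  let b : Red.DS S M₁ ⊗ Over.mk x ⟶ G := (lift (fst _ _ ≫ Red.DSmap S φ) (snd _ _) ≫ e₂) ≫ q₂
  have ha' : ∀ (T : Over S) (d : T ⟶ Red.DS S M₁) (t : T ⟶ Over.mk x),
      lift d t ≫ a = (t ≫ g₁) * ((lift d t ≫ e₁) ≫ q₁) * (t ≫ g₁)⁻¹ := by
    intro T d t
    simp only [a, MonObj.comp_mul, GrpObj.comp_inv, lift_snd_assoc, Category.assoc]
  have hb' : ∀ (T : Over S) (d : T ⟶ Red.DS S M₁) (t : T ⟶ Over.mk x),
      lift d t ≫ b = (lift (d ≫ Red.DSmap S φ) t ≫ e₂) ≫ q₂ := by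
    intro T d t
    simp only [b, ← Category.assoc, comp_lift, lift_fst, lift_snd]
  have hDS : IsMonHom (Red.DSmap S φ) := Groth.Agent.Sga3.H827.KerLoc.isMonHom_DSmap φ
  have hb : AutFam.IsHomFamily (Red.DS S M₁) G b := by
    intro T d₁ d₂ t
    rw [hb' T (d₁ * d₂), hb' T d₁, hb' T d₂]
    have h2 : (d₁ * d₂) ≫ Red.DSmap S φ = (d₁ ≫ Red.DSmap S φ) * (d₂ ≫ Red.DSmap S φ) :=
      MonObj.mul_comp _ _ _
    rw [h2, he₂, MonObj.mul_comp]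
  have ha : AutFam.IsHomFamily (Red.DS S M₁) G a := by
    intro T d₁ d₂ t
    rw [ha', ha', ha', he₁, MonObj.mul_comp]
    group
  obtain ⟨w, hw1, hw2⟩ := infConj_family x G I hI (LocalLift.hasAffineUnitNhd_of_isLocalRing _) a b ha hb (by
    have h2 := hφ (Red.DS S M₁ ⊗ _) (fst _ _) (snd _ _)
    have h3 : (Red.DS S M₁ ◁ r) = lift (fst _ _) (snd _ _ ≫ r) := by
      apply CartesianMonoidalCategory.hom_ext <;> simp
    change (Red.DS S M₁ ◁ r) ≫ a = (Red.DS S M₁ ◁ r) ≫ b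
    rw [h3, ha', hb', ← h2, Category.assoc])
  have key : ∀ (T : Over S) (t : T ⟶ Over.mk x) (d : T ⟶ Red.DS S M₁),
      (t ≫ (w⁻¹ * g₁)) * ((lift d t ≫ e₁) ≫ q₁) * (t ≫ (w⁻¹ * g₁))⁻¹ =
        (lift (d ≫ Red.DSmap S φ) t ≫ e₂) ≫ q₂ := by
    intro T t d
    have h4 := hw2 T d t
    rw [ha', hb'] at h4
    have h5 := congrArg (fun z => (t ≫ w)⁻¹ * z * (t ≫ w)) h4
    rw [MonObj.comp_mul, GrpObj.comp_inv]
    convert! h5 using 1 <;> group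
  refine ⟨w, hw1, ?_⟩
  intro T t h
  refine ⟨lift ((lift h t ≫ ψ₁) ≫ Red.DSmap S φ) t ≫ e₂, ?_⟩
  rw [← key, hψ12]

omit [IsLocalRing B] hI hQ₁ hQ₂ in
/-- **Transporters of subgroups of multiplicative type.** -/
theorem exists_smooth_transporter [Smooth G.hom] [QuasiCompact G.hom] (hQ₁ : MultLoc.IsMult Q₁)
    (hQ₂ : SGA3x.IsMultTypeFT Q₂) [Mono q₂] :
    ∃ (C : Over S) (c : C ⟶ G), IsClosedImmersion c.left ∧ Smooth C.hom ∧ LocallyOfFinitePresentation c.left ∧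
      ∀ (X : Over S) (g : X ⟶ G), (∃ z : X ⟶ C, z ≫ c = g) ↔ g ∈ transPts q₁ q₂ X := by
  have h1 : IsClosedImmersion q₂.left := MonoClosed.isClosedImmersion q₂ hQ₂
  have h2 : LocallyOfFinitePresentation Q₂.hom := K10.MTLoc.locallyOfFinitePresentation hQ₂
  have h3 : LocallyOfFinitePresentation q₂.left := by
    have : LocallyOfFinitePresentation (q₂.left ≫ G.hom) := by rw [Over.w q₂]; exact h2
    exact Groth.Agent.Ega43.FPOfComp.locallyOfFinitePresentation_of_comp _ G.hom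
  obtain ⟨C, c, hc, huniv, hfp⟩ := ClosedCond.exists_transporter hQ₁ q₁ q₂
  have hfp' := hfp h3
  have hm : Mono c := Groth.Agent.Sga3C.ClosedSub.mono_of_left c
  have huniv' : ∀ (X : Over S) (g : X ⟶ G), (∃ a : X ⟶ C, a ≫ c = g) ↔ g ∈ transPts q₁ q₂ X := huniv
  refine ⟨C, c, hc, ?_, hfp', huniv'⟩
  obtain ⟨S', f, hf, hs, hcov, h⟩ := LocAnd.locally_and
    (P := fun S' g => ∃ (M : Type) (_ : AddCommGroup M), Nonempty (Grp.mk (Red.bc g Q₁) ≅ Grp.mk (Red.DS S' M)))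
    (Q := fun S' g => ∃ (M : Type) (_ : AddCommGroup M), Nonempty (Grp.mk (Red.bc g Q₂) ≅ Grp.mk (Red.DS S' M)))
    (fun S' X' p h ⟨M, i, hM⟩ => ⟨M, i, isSplit_bc p h hM⟩) (fun S' X' p h ⟨M, i, hM⟩ => ⟨M, i, isSplit_bc p h hM⟩)
    hQ₁ (MultLoc.isMult_of_isMultTypeFT hQ₂)
  refine smooth_of_lift c (fun T => transPts q₁ q₂ T) huniv' f hcov fun s' => ?_
  obtain ⟨U, hU, ⟨M₁, _, hM₁⟩, ⟨M₂, _, hM₂⟩⟩ := h s'
  refine ⟨U, hU, fun B _ _ I hI x β hx g₁ hg₁ => ?_⟩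
  subst hx
  exact trans_lift q₁ q₂ I hI _ (isSplit_bc (U.ι ≫ f) β hM₁) (isSplit_bc (U.ι ≫ f) β hM₂) g₁ hg₁

end K21.TransMult
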