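import Groth.Agent.SGA3x.K21.MultFun
import Groth.Agent.RedSub.H647.SubPt
import Groth.Agent.Redsub.H649.ConjPts
import Groth.Prelude.Def_Mor2

/-!
# The functor of subgroups of multiplicative type of a given finite type is representable
-/

set_option autoImplicit false
universe u
open CategoryTheory MonoidalCategory CartesianMonoidalCategory MonObj GrpObj AlgebraicGeometry Limits

namespace K21.MultRep

open Groth.Agent Groth.Agent.Sga3B Groth.Agent.Sga3B.MT Groth.Agent.Sga3B.Parab Groth.Agent.Redsub.H649.ConjPts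
open K204.FinMTFam (Idx Gp isFinite_DS idx_eq exists_idx)
open K204.SubRep (Same)
open MTType

variable {S : Scheme.{u}}

/-- The finite types of a group with finite fibres. -/
theorem exists_ty_idx {H : Over S} [GrpObj H] (hH : SGA3x.IsMultTypeFT H)
    (hHf : ∀ s : S, IsFinite (H.hom.fiberToSpecResidueField s)) (s : S) : ∃ i : Idx, Ty H (Gp i) s := by
  obtain ⟨N, _, hN, h⟩ := exists_ty hH s
  let t : Spec (CommRingCat.of (AlgebraicClosure (S.residueField s))) := default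
  have he := h.geom (Red.geomPt s) t (geomPt_apply s t)
  have h1 : IsFinite (Red.bc (S.fromSpecResidueField s) H).hom := hHf s
  let a : Spec (CommRingCat.of (AlgebraicClosure (S.residueField s))) ⟶ Spec (S.residueField s) :=
    Spec.map (CommRingCat.ofHom (algebraMap (S.residueField s) (AlgebraicClosure (S.residueField s))))
  have h2 : IsFinite (Red.bc a (Red.bc (S.fromSpecResidueField s) H)).hom :=
    MorphismProperty.pullback_snd (P := @IsFinite) _ _ h1
  have h3 : IsFinite (Red.bc (Red.geomPt s) H).hom :=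
    TorusAlgClosed.prop_of_grp_iso (P := @IsFinite) (BcIso.bcCompIso a (S.fromSpecResidueField s) H) h2
  have hf := K6.HomLoc.finite_of_isFinite he h3
  obtain ⟨i, ⟨ε⟩⟩ := exists_idx N
  exact ⟨i, h.congr ε⟩

/-- A group which is étale-locally `D(Γ)`, `Γ` finite, is finite. -/
theorem isFinite_of_ty {H : Over S} [GrpObj H] (h : ∀ s, ∃ i : Idx, Ty H (Gp i) s) : IsFinite H.hom := by
  choose i V v hv hs he using h
  have hcov : EtHom.IsCov v := ⟨fun s => by have := hv s; infer_instance, fun s => by have := hv s; infer_instance,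
    fun s => ⟨s, hs s⟩⟩
  have hd : MorphismProperty.DescendsAlong @IsFinite
      (@Surjective ⊓ @Flat ⊓ @QuasiCompact : MorphismProperty Scheme.{u}) := Groth.Agent.S0084.result
  have h8 : IsFinite (toUnit H).left := by
    refine EtHom.of_cover @IsFinite hcov (toUnit H) fun s => ?_
    obtain ⟨e⟩ := he s
    have h9 : IsFinite (Red.bc (v s) H).hom := TorusAlgClosed.prop_of_grp_iso (P := @IsFinite) e (isFinite_DS _ _)
    have h10 : ((Over.pullback (v s)).map (toUnit H)).left ≫ (Red.bc (v s) (𝟙_ (Over S))).hom =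
      (Red.bc (v s) H).hom := Over.w _
    have h11 : IsIso (Red.bc (v s) (𝟙_ (Over S))).hom := by
      change IsIso (pullback.snd (𝟙 S) (v s))
      infer_instance
    have h12 : ((Over.pullback (v s)).map (toUnit H)).left =
        (Red.bc (v s) H).hom ≫ inv (Red.bc (v s) (𝟙_ (Over S))).hom := by
      rw [← h10, Category.assoc, IsIso.hom_inv_id, Category.comp_id]
    rw [h12]
    infer_instance
  have h13 : (toUnit H).left = H.hom := by
    have := Over.w (toUnit H)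
    rw [← this]
    exact (Category.comp_id _).symm
  rwa [h13] at h8

lemma bcSub_isMonHom_mono {G : Over S} [GrpObj G] {S₁ S₂ : Scheme.{u}} {f : S₁ ⟶ S} (v : S₂ ⟶ S₁) {K : Over S₁} [GrpObj K]
    (k : K ⟶ Red.bc f G) [IsMonHom k] [Mono k] : IsMonHom (bcSub v k) ∧ Mono (bcSub v k) := by
  constructor
  · rw [bcSub, ← K204.FinMTFam.und_bcCompIso_symm_hom]
    have : IsMonHom (BcIso.bcCompIso v f G).symm.hom.hom.hom := inferInstance
    infer_instance
  · have : IsIso ((Over.pullbackComp v f).inv.app G) := inferInstance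
    have h3 : Mono ((Over.pullback v).map k) := inferInstance
    rw [bcSub]
    infer_instance

lemma pt_bcSub' {G : Over S} {S₁ S₂ : Scheme.{u}} {f : S₁ ⟶ S} (q : S₂ ⟶ S₁) {K : Over S₁}
    (h : K ⟶ Red.bc f G) {Z : Scheme.{u}} (y : Z ⟶ S₂) (γ : Z ⟶ G.left) :
    Pt (bcSub q h) y γ ↔ Pt h (y ≫ q) γ :=
  Groth.Agent.RedSub.H647.SubPt.pt_bcSub q h y γ

/-- Subgroups with the same points are isomorphic as groups. -/
lemma exists_grp_iso_of_pt {G : Over S} [GrpObj G] {S' : Scheme.{u}} {f : S' ⟶ S} {H H' : Over S'} [GrpObj H] [GrpObj H']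
    (h : H ⟶ Red.bc f G) (h' : H' ⟶ Red.bc f G) [IsMonHom h] [IsMonHom h'] [Mono h] [Mono h']
    (e : ∀ (X : Scheme.{u}) (y : X ⟶ S') (γ : X ⟶ G.left), Pt h y γ ↔ Pt h' y γ) :
    Nonempty (Grp.mk H ≅ Grp.mk H') := by
  obtain ⟨i, hi⟩ := Groth.Agent.RedSub.H647.SubPt.exists_iso_of_pt h h' e
  have h1 : IsMonHom i.hom := by
    have : IsMonHom (i.hom ≫ h') := by rw [hi]; infer_instance
    exact Sga3C.SubGrp.isMonHom_of_comp_mono i.hom h'
  exact ⟨Grp.mkIso' i⟩

theorem main (G H : Over S) [GrpObj G] [GrpObj H] (hG : LocallyOfFinitePresentation G.hom) (hGa : IsAffineHom G.hom)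
    (hH : SGA3x.IsMultTypeFT H) (hHf : ∀ s : S, IsFinite (H.hom.fiberToSpecResidueField s)) :
    ∃ (M : Over S) (Hu : Over M.left) (_ : GrpObj Hu) (hu : Hu ⟶ Red.bc M.hom G) (_ : IsMonHom hu) (_ : Mono hu),
      IsAffineHom M.hom ∧ LocallyOfFinitePresentation M.hom ∧ SGA3x.IsMultTypeFT Hu ∧
      (∀ m : ↥M.left, Nonempty (Grp.mk (Red.geomFibre m Hu) ≅ Grp.mk (Red.bc (Red.geomPt m ≫ M.hom) H))) ∧
      ∀ (S' : Scheme.{u}) (f : S' ⟶ S) (H' : Over S') [GrpObj H'] (h' : H' ⟶ Red.bc f G) [IsMonHom h'] [Mono h'],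
        SGA3x.IsMultTypeFT H' →
        (∀ s' : S', Nonempty (Grp.mk (Red.geomFibre s' H') ≅ Grp.mk (Red.bc (Red.geomPt s' ≫ f) H))) →
        ∃! g : S' ⟶ M.left, g ≫ M.hom = f ∧ RedSub.SamePoints G f h' M hu g := by
  obtain ⟨M, K, gK, k, -, k2, k3, hKm, hKf, huniv, hMfp, haff⟩ := MultFun.main G
  have hkm : Mono k := Sga3C.ClosedSub.mono_of_left k
  let Z : M.left.Opens := ⨆ i : Idx, tyOpens K (Gp i) ⊓ M.hom ⁻¹ᵁ tyOpens H (Gp i)
  have hZ : ∀ m : M.left, m ∈ Z ↔ ∃ i : Idx, Ty K (Gp i) m ∧ Ty H (Gp i) (M.hom m) := by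
    intro m
    rw [TopologicalSpace.Opens.mem_iSup]
    rfl
  let M' : Over S := Over.mk (Z.ι ≫ M.hom)
  obtain ⟨hu1, hu2⟩ := bcSub_isMonHom_mono (f := M.hom) Z.ι k
  refine ⟨M', Red.bc Z.ι K, inferInstance, bcSub Z.ι k, hu1, hu2, ?_, ?_, K10.MTLoc.bc _ hKm, fun m => ?_,
    fun S' f H' _ h' _ _ hH' hfib => ?_⟩
  · refine isAffineHom_of_forall_exists_isAffineOpen _ fun s => ?_
    obtain ⟨i, hi⟩ := exists_ty_idx hH hHf s
    obtain ⟨W, hW, hsW, hWi⟩ := exists_isAffineOpen_mem_and_subset (X := S) (x := s) (U := tyOpens H (Gp i)) hi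
    refine ⟨W, hsW, hW, ?_⟩
    rw [← Z.ι.isAffineOpen_iff_of_isOpenImmersion]
    have h1 : Z.ι ''ᵁ (Z.ι ≫ M.hom) ⁻¹ᵁ W = (tyOpens K (Gp i)).ι ''ᵁ ((tyOpens K (Gp i)).ι ≫ M.hom) ⁻¹ᵁ W := by
      ext m
      have e : ∀ Z' : M.left.Opens, m ∈ (Z'.ι ''ᵁ (Z'.ι ≫ M.hom) ⁻¹ᵁ W) ↔ m ∈ Z' ∧ M.hom m ∈ W := by
        intro Z'
        constructor
        · rintro ⟨z, hz, rfl⟩
          exact ⟨z.2, by simpa using hz⟩
        · rintro ⟨h2, h3⟩
          exact ⟨⟨m, h2⟩, by simpa using h3, rfl⟩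
      change m ∈ (Z.ι ''ᵁ (Z.ι ≫ M.hom) ⁻¹ᵁ W) ↔ m ∈ ((tyOpens K (Gp i)).ι ''ᵁ ((tyOpens K (Gp i)).ι ≫ M.hom) ⁻¹ᵁ W)
      rw [e, e]
      refine and_congr_left fun hmW => ?_
      rw [hZ, mem_tyOpens]
      constructor
      · rintro ⟨j, hj1, hj2⟩
        obtain ⟨ε⟩ := hj2.unique (hWi hmW : Ty H (Gp i) (M.hom m))
        obtain rfl : j = i := idx_eq ⟨ε⟩
        exact hj1
      · intro h2
        exact ⟨i, h2, hWi hmW⟩
    change IsAffineOpen (Z.ι ''ᵁ (Z.ι ≫ M.hom) ⁻¹ᵁ W)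
    rw [h1]
    have := haff i
    exact (hW.preimage _).image_of_isOpenImmersion _
  · exact inferInstanceAs (LocallyOfFinitePresentation (Z.ι ≫ M.hom))
  · obtain ⟨i, h1, h2⟩ := (hZ (Z.ι m)).1 m.2
    let t : Spec (CommRingCat.of (AlgebraicClosure ((Z : Scheme.{u}).residueField m))) := default
    obtain ⟨e₁⟩ := (h1.bc Z.ι).geom (Red.geomPt m) t (geomPt_apply m t)
    obtain ⟨e₂⟩ := h2.geom (Red.geomPt m ≫ M'.hom) t (by
      rw [Scheme.Hom.comp_apply, geomPt_apply m t]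
      exact Scheme.Hom.comp_apply _ _ _)
    exact ⟨e₁ ≪≫ e₂.symm⟩
  · have hty : ∀ s', ∃ i : Idx, Ty H' (Gp i) s' ∧ Ty H (Gp i) (f s') := by
      intro s'
      obtain ⟨i, hi⟩ := exists_ty_idx hH hHf (f s')
      let t : Spec (CommRingCat.of (AlgebraicClosure (S'.residueField s'))) := default
      obtain ⟨e₁⟩ := hfib s'
      obtain ⟨e₂⟩ := hi.geom (Red.geomPt s' ≫ f) t (by rw [Scheme.Hom.comp_apply, geomPt_apply s' t])
      exact ⟨i, ty_of_geom hH' (Red.geomPt s') t (geomPt_apply s' t) ⟨e₁ ≪≫ e₂⟩, hi⟩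
    have hfin : IsFinite H'.hom := isFinite_of_ty fun s' => by
      obtain ⟨i, hi, -⟩ := hty s'
      exact ⟨i, hi⟩
    obtain ⟨v, ⟨hv1, hv2⟩, hv3⟩ := huniv S' f H' h' inferInstance inferInstance hH' hfin
    have hrange : ∀ s', v s' ∈ Z := by
      intro s'
      obtain ⟨i, h1, h2⟩ := hty s'
      rw [hZ]
      subst hv1
      refine ⟨i, ?_, by rw [← Scheme.Hom.comp_apply]; exact h2⟩
      obtain ⟨hb1, hb2⟩ := bcSub_isMonHom_mono (f := M.hom) v k
      obtain ⟨e⟩ := exists_grp_iso_of_pt h' (bcSub v k) (fun X y γ => by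
        rw [pt_bcSub']
        have := hv2 X y γ
        rwa [Category.comp_id] at this)
      exact (ty_bc_iff v hKm).1 (h1.iso e)
    let g : S' ⟶ (Z : Scheme.{u}) := IsOpenImmersion.lift Z.ι v (by
      rw [Scheme.Opens.range_ι]
      rintro _ ⟨s', rfl⟩
      exact hrange s')
    have hg : g ≫ Z.ι = v := IsOpenImmersion.lift_fac _ _ _
    refine ⟨g, ⟨?_, ?_⟩, ?_⟩
    · change g ≫ Z.ι ≫ M.hom = f
      rw [← Category.assoc, hg, hv1]
    · intro X y γ
      change Pt h' y γ ↔ Pt (bcSub Z.ι k) (y ≫ g) γ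
      rw [pt_bcSub', Category.assoc, hg]
      have := hv2 X y γ
      rwa [Category.comp_id] at this
    · rintro g' ⟨hg1, hg2⟩
      have h5 : g' ≫ Z.ι = v := hv3 _ ⟨by rw [Category.assoc]; exact hg1, fun X y γ => by
        have h6 : Pt h' y γ ↔ Pt (bcSub Z.ι k) (y ≫ g') γ := hg2 X y γ
        rw [pt_bcSub', Category.assoc] at h6
        rwa [Category.comp_id]⟩
      rw [← cancel_mono Z.ι, h5, hg]

end K21.MultRep
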