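import Groth.Agent.SGA3x.K21.Image
import Groth.Agent.S5275

/-!
# The locus where a homomorphism from a group of multiplicative type is faithfully flat
-/

set_option autoImplicit false
universe u
open CategoryTheory MonoidalCategory CartesianMonoidalCategory MonObj GrpObj AlgebraicGeometry Limits

namespace K21.FFLocus

open Groth.Agent Groth.Agent.Sga3.H784

variable {S : Scheme.{u}} {H Q Q' : Over S}

lemma isIso_of_ff {U : Scheme.{u}} (q : U ⟶ S) (f' : H ⟶ Q') (j : Q' ⟶ Q) [IsClosedImmersion j.left] [Flat f'.left]
    [Surjective f'.left] (h : Flat ((Over.pullback q).map (f' ≫ j)).left ∧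
      Surjective ((Over.pullback q).map (f' ≫ j)).left) : IsIso ((Over.pullback q).map j).left := by
  obtain ⟨h1, h2⟩ := h
  have h3 : IsClosedImmersion ((Over.pullback q).map j).left :=
    MorphismProperty.of_isPullback (P := @IsClosedImmersion) (Sga3.H798.FpqcIso.isPullback_map_left q j) inferInstance
  have h4 : Flat ((Over.pullback q).map f').left :=
    MorphismProperty.of_isPullback (P := @Flat) (Sga3.H798.FpqcIso.isPullback_map_left q f') inferInstance
  have h5 : Surjective ((Over.pullback q).map f').left :=
    MorphismProperty.of_isPullback (P := @Surjective) (Sga3.H798.FpqcIso.isPullback_map_left q f') inferInstance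
  have := Image.dominant_of_cover ((Over.pullback q).map f')
  have := Image.dominant_of_cover ((Over.pullback q).map (f' ≫ j))
  have h6 : IsClosedImmersion (Over.Hom.left (𝟙 ((Over.pullback q).obj Q))) :=
    inferInstanceAs (IsClosedImmersion (𝟙 ((Over.pullback q).obj Q).left))
  obtain ⟨e, he, -⟩ := Image.exists_iso ((Over.pullback q).map j) (𝟙 _) ((Over.pullback q).map f')
    ((Over.pullback q).map (f' ≫ j)) (by rw [Functor.map_comp, Category.comp_id])
  rw [Category.comp_id] at he
  rw [← he]
  exact inferInstanceAs (IsIso ((Over.forget _).map e.hom))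

lemma ff_iff {U : Scheme.{u}} (q : U ⟶ S) (f' : H ⟶ Q') (j : Q' ⟶ Q) [IsClosedImmersion j.left] [Flat f'.left]
    [Surjective f'.left] : (Flat ((Over.pullback q).map (f' ≫ j)).left ∧
      Surjective ((Over.pullback q).map (f' ≫ j)).left) ↔ IsIso ((Over.pullback q).map j).left := by
  refine ⟨isIso_of_ff q f' j, fun h => ?_⟩
  have h4 : Flat ((Over.pullback q).map f').left :=
    MorphismProperty.of_isPullback (P := @Flat) (Sga3.H798.FpqcIso.isPullback_map_left q f') inferInstance
  have h5 : Surjective ((Over.pullback q).map f').left :=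
    MorphismProperty.of_isPullback (P := @Surjective) (Sga3.H798.FpqcIso.isPullback_map_left q f') inferInstance
  rw [Functor.map_comp, Over.comp_left]
  exact ⟨inferInstance, inferInstance⟩

theorem exists_clopen [GrpObj H] [GrpObj Q] (hH : MultLoc.IsMult H) (hQ : SGA3x.IsMultTypeFT Q) (f : H ⟶ Q)
    [IsMonHom f] : ∃ U : S.Opens, IsClosed (U : Set S) ∧
      (∀ s : S, s ∈ U ↔ (Flat ((Over.pullback (S.fromSpecResidueField s)).map f).left ∧
        Surjective ((Over.pullback (S.fromSpecResidueField s)).map f).left)) ∧
      (Flat ((Over.pullback U.ι).map f).left ∧ Surjective ((Over.pullback U.ι).map f).left) := by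
  have := K10.MTLoc.isAffineHom hQ
  have := K10.MTLoc.locallyOfFinitePresentation hQ
  obtain ⟨Q', _, j, f', h1, h2, h3, h4, h5, h6, rfl⟩ := Image.exists_image hH f
  obtain ⟨U, hU, hU', hU''⟩ := S5275.result Q' Q h4 hQ j
  exact ⟨U, hU, fun s => (hU' s).trans (ff_iff _ f' j).symm, (ff_iff _ f' j).2 hU''⟩

end K21.FFLocus
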