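import Groth.Agent.SGA3x.K21.DSAdapt
import Groth.Agent.SGA3x.K21.MonoClosed
import Groth.Agent.Sga3.H827.ChartQ
import Groth.Agent.Sga3C.SchemImage
import Groth.Agent.Sga3C.ClosedSub
import Groth.Agent.Sga3C.FlatGeneric

/-!
# Images of homomorphisms from groups of multiplicative type of arbitrary type

* `exists_image` : a homomorphism `f : H ⟶ G`, `H` of multiplicative type (of arbitrary type), `G` separated of finite
  type over `S`, factors as a faithfully flat homomorphism followed by a closed immersion of a subgroup of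
  multiplicative type and finite type;
* `exists_iso` : uniqueness of the image.
-/

set_option autoImplicit false
universe u
open CategoryTheory MonoidalCategory CartesianMonoidalCategory MonObj GrpObj AlgebraicGeometry Limits

namespace K21.Image

open Groth.Agent Groth.Agent.Sga3.H784 Groth.Agent.Sga3.H827 Groth.Agent.Sga3.H828.DiagChart
  Groth.Agent.Sga3.H828.DiagChart.Chart
open Groth.Agent.Sga3B Groth.Agent.Sga3B.DSPts KerChart KerData

variable {S : Scheme.{u}}

section uniq

/-- **Uniqueness of the image** -/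
theorem exists_iso {H Q₁ Q₂ G : Over S} (j₁ : Q₁ ⟶ G) (j₂ : Q₂ ⟶ G) (f₁ : H ⟶ Q₁) (f₂ : H ⟶ Q₂)
    [IsClosedImmersion j₁.left] [IsClosedImmersion j₂.left] [IsSchemeTheoreticallyDominant f₁.left]
    [IsSchemeTheoreticallyDominant f₂.left] (h : f₁ ≫ j₁ = f₂ ≫ j₂) :
    ∃ e : Q₁ ≅ Q₂, e.hom ≫ j₂ = j₁ ∧ f₁ ≫ e.hom = f₂ := by
  have m₁ : Mono j₁ := Sga3C.ClosedSub.mono_of_left j₁
  have m₂ : Mono j₂ := Sga3C.ClosedSub.mono_of_left j₂
  obtain ⟨u, hu⟩ := Sga3C.SchemImage.exists_lift_over f₁ j₁ j₂ f₂ h.symm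
  obtain ⟨v, hv⟩ := Sga3C.SchemImage.exists_lift_over f₂ j₂ j₁ f₁ h
  refine ⟨⟨u, v, ?_, ?_⟩, hu, ?_⟩
  · rw [← cancel_mono j₁, Category.assoc, hv, hu, Category.id_comp]
  · rw [← cancel_mono j₂, Category.assoc, hu, hv, Category.id_comp]
  · change f₁ ≫ u = f₂
    rw [← cancel_mono j₂, Category.assoc, hu, h]

lemma dominant_of_cover {X Y : Over S} (p : X ⟶ Y) [Flat p.left] [Surjective p.left] :
    IsSchemeTheoreticallyDominant p.left :=
  Sga3C.FlatGeneric.isSchemeTheoreticallyDominant_of_flat_surjective _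

end uniq

section fact

variable {T G : Over S} [GrpObj T] [GrpObj G] {h : T ⟶ G} {M : Type} [AddCommGroup M] {V : Scheme.{u}} {v : V ⟶ S}
  {c : Chart T (Over.mk v) M} {N : AddSubgroup M}

/-- **The image in an adapted chart.** -/
theorem exists_fact [IsMonHom h] [IsSeparated G.hom] [LocallyOfFiniteType G.hom] [QuasiCompact G.hom] (hfg : N.FG)
    (hN : Adapted h c N) :
    ∃ (p : Red.bc v T ⟶ Red.DS V N) (j : Red.DS V N ⟶ Red.bc v G), IsMonHom p ∧ IsMonHom j ∧ Surjective p.left ∧
      Flat p.left ∧ QuasiCompact p.left ∧ IsClosedImmersion j.left ∧ p ≫ j = (Over.pullback v).map h := by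
  obtain ⟨i, hi⟩ := ChartQ.exists_iso c
  have hii : IsIso i.inv.hom.hom.left := inferInstanceAs (IsIso ((Over.forget V).map ((Grp.forget _).map i.inv)))
  obtain ⟨h1, h2, h3, h4⟩ := DSFact.cover_subtype (S := V) N
  have h5 : i.inv.hom.hom ≫ i.hom.hom.hom = 𝟙 _ := congr(($(i.inv_hom_id)).hom.hom)
  have h6 : i.hom.hom.hom ≫ i.inv.hom.hom = 𝟙 _ := congr(($(i.hom_inv_id)).hom.hom)
  let p : Red.bc v T ⟶ Red.DS V N := i.inv.hom.hom ≫ Red.DSmap V N.subtype
  have hp1 : IsMonHom p := inferInstance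
  have hp2 : Surjective p.left := inferInstanceAs (Surjective (i.inv.hom.hom.left ≫ (Red.DSmap V N.subtype).left))
  have hp3 : Flat p.left := inferInstanceAs (Flat (i.inv.hom.hom.left ≫ (Red.DSmap V N.subtype).left))
  have hp4 : QuasiCompact p.left := inferInstanceAs (QuasiCompact (i.inv.hom.hom.left ≫ (Red.DSmap V N.subtype).left))
  have key : ∀ (X : Over V) (a : X ⟶ Red.bc v T), a ≫ p = 1 ↔ a ≫ (Over.pullback v).map h = 1 := by
    intro X a
    have h7 : (a ≫ i.inv.hom.hom) ≫ i.hom.hom.hom = a := by rw [Category.assoc, h5, Category.comp_id]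
    rw [hi] at h7
    rw [← h7, bcEquiv_comp, map_eq_one_iff _ (MulEquiv.injective _), hN _ (taut v X), MulEquiv.apply_symm_apply,
      ← hi, Category.assoc]
    have h8 : i.hom.hom.hom ≫ p = Red.DSmap V N.subtype := by
      change i.hom.hom.hom ≫ i.inv.hom.hom ≫ Red.DSmap V N.subtype = _
      rw [← Category.assoc, h6, Category.id_comp]
    rw [h8, DSFact.comp_DSmap_subtype_eq_one_iff]
  obtain ⟨j, hj, hpj⟩ := DSFact.exists_factor_of_ker p ((Over.pullback v).map h) (fun X a => (key X a).1)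
  have hm : Mono j := DSFact.mono_of_ker p j (fun X a ha => by
    rw [hpj] at ha
    exact (key X a).2 ha)
  have : IsSeparated (Red.bc v G).hom := inferInstanceAs (IsSeparated (Limits.pullback.snd _ _))
  have : LocallyOfFiniteType (Red.bc v G).hom := inferInstanceAs (LocallyOfFiniteType (Limits.pullback.snd _ _))
  have : QuasiCompact (Red.bc v G).hom := inferInstanceAs (QuasiCompact (Limits.pullback.snd _ _))
  have : AddGroup.FG N := (AddGroup.fg_iff_addSubgroup_fg N).2 hfg
  exact ⟨p, j, hp1, hj, hp2, hp3, hp4, MonoClosed.isClosedImmersion_DS j, hpj⟩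

end fact

section image

variable {H G : Over S} (f : H ⟶ G)

/-- the schematic image of `f` -/
noncomputable def im : Over S := Over.mk (f.left.imageι ≫ G.hom)

/-- the inclusion of the schematic image -/
noncomputable def imι : im f ⟶ G := Over.homMk f.left.imageι

/-- the projection to the schematic image -/
noncomputable def toIm : H ⟶ im f := Over.homMk f.left.toImage (by
  change f.left.toImage ≫ f.left.imageι ≫ G.hom = _
  rw [Scheme.Hom.toImage_imageι_assoc, Over.w])

@[reassoc (attr := simp)]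
lemma toIm_imι : toIm f ≫ imι f = f := by
  ext1
  exact Scheme.Hom.toImage_imageι _

instance isClosedImmersion_imι : IsClosedImmersion (imι f).left :=
  inferInstanceAs (IsClosedImmersion f.left.imageι)

instance dominant_toIm : IsSchemeTheoreticallyDominant (toIm f).left :=
  Sga3C.SchemImage.dominant_toImage _

instance mono_imι : Mono (imι f) := Sga3C.ClosedSub.mono_of_left (imι f)

lemma quasiCompact_toIm [QuasiCompact f.left] : QuasiCompact (toIm f).left := by
  have : QuasiCompact ((toIm f).left ≫ (imι f).left) := by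
    rw [← Over.comp_left, toIm_imι]
    infer_instance
  exact QuasiCompact.of_comp _ (imι f).left

/-- Comparison of the base change of the image with an image over the new base. -/
theorem exists_iso_bc [QuasiCompact f.left] {U : Scheme.{u}} (q : U ⟶ S) [Flat q] {Q : Over U} (p : Red.bc q H ⟶ Q)
    (j : Q ⟶ Red.bc q G) [Surjective p.left] [Flat p.left] [IsClosedImmersion j.left]
    (w : p ≫ j = (Over.pullback q).map f) :
    ∃ e : Q ≅ Red.bc q (im f), e.hom ≫ (Over.pullback q).map (imι f) = j ∧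
      p ≫ e.hom = (Over.pullback q).map (toIm f) := by
  have := quasiCompact_toIm f
  have h1 : IsSchemeTheoreticallyDominant p.left := dominant_of_cover p
  have h2 : IsSchemeTheoreticallyDominant ((Over.pullback q).map (toIm f)).left := by
    have h3 := Sga3.H798.FpqcIso.isPullback_map_left q (toIm f)
    have h4 : Flat (pullback.fst (im f).hom q) := inferInstance
    exact .of_isPullback h3
  have h3 : IsClosedImmersion ((Over.pullback q).map (imι f)).left :=
    MorphismProperty.of_isPullback (P := @IsClosedImmersion) (Sga3.H798.FpqcIso.isPullback_map_left q (imι f))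
      inferInstance
  exact exists_iso j ((Over.pullback q).map (imι f)) p ((Over.pullback q).map (toIm f)) (by
    rw [w, ← Functor.map_comp, toIm_imι])

/-- the image is a subgroup if the projection is a covering -/
theorem exists_grpObj [GrpObj H] [GrpObj G] [IsMonHom f] [Flat (toIm f).left] [Surjective (toIm f).left] :
    ∃ _ : GrpObj (im f), IsMonHom (imι f) := by
  refine Sga3C.ClosedSub.exists_grpObj_of_mono (imι f) ⟨η[H] ≫ toIm f, ?_⟩ ?_ ?_
  · rw [Category.assoc, toIm_imι, IsMonHom.one_hom]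
  · have h1 : Surjective (toIm f ⊗ₘ toIm f).left ∧ Flat (toIm f ⊗ₘ toIm f).left := by
      rw [tensorHom_def, Over.comp_left]
      have e1 := Sga3C.SchemImage.isPullback_whiskerRight_left (toIm f) H
      have e2 := Sga3C.SchemImage.isPullback_whiskerLeft_left (toIm f) (im f)
      have a1 : Surjective (toIm f ▷ H).left := MorphismProperty.of_isPullback (P := @Surjective) e1.flip inferInstance
      have a2 : Surjective (im f ◁ toIm f).left := MorphismProperty.of_isPullback (P := @Surjective) e2.flip inferInstance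
      have a3 : Flat (toIm f ▷ H).left := MorphismProperty.of_isPullback (P := @Flat) e1.flip inferInstance
      have a4 : Flat (im f ◁ toIm f).left := MorphismProperty.of_isPullback (P := @Flat) e2.flip inferInstance
      exact ⟨inferInstance, inferInstance⟩
    have := h1.1
    have := h1.2
    have := dominant_of_cover (toIm f ⊗ₘ toIm f)
    refine Sga3C.SchemImage.exists_lift_over (toIm f ⊗ₘ toIm f) _ (imι f) (μ[H] ≫ toIm f) ?_
    rw [Category.assoc, toIm_imι, IsMonHom.mul_hom, ← Category.assoc, MonoidalCategory.tensorHom_comp_tensorHom, toIm_imι]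
  · refine Sga3C.SchemImage.exists_lift_over (toIm f) _ (imι f) (ι[H] ≫ toIm f) ?_
    rw [Category.assoc, toIm_imι, ← Category.assoc, toIm_imι]
    exact GrpObj.inv_hom f

end image

/-- **Images of homomorphisms from groups of multiplicative type.** -/
theorem exists_image {H G : Over S} [GrpObj H] [GrpObj G] (hH : MultLoc.IsMult H) [IsSeparated G.hom]
    [QuasiCompact G.hom] [LocallyOfFiniteType G.hom] (f : H ⟶ G) [IsMonHom f] :
    ∃ (Q : Over S) (_ : GrpObj Q) (j : Q ⟶ G) (f' : H ⟶ Q), IsMonHom j ∧ IsMonHom f' ∧ IsClosedImmersion j.left ∧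
      SGA3x.IsMultTypeFT Q ∧ Flat f'.left ∧ Surjective f'.left ∧ f' ≫ j = f := by
  have hHa : IsAffineHom H.hom := MultLoc.isAffineHom hH
  have hqc : QuasiCompact f.left := by
    have : QuasiCompact (f.left ≫ G.hom) := by rw [Over.w f]; infer_instance
    exact QuasiCompact.of_comp _ G.hom
  obtain ⟨S', q, hq1, hq2, hq3, hq4⟩ := hH
  -- the local structure
  have key : ∀ s' : S', ∃ U : S'.Opens, s' ∈ U ∧ ∃ (N : Type) (_ : AddCommGroup N), AddGroup.FG N ∧
      ∃ (p : Red.bc (U.ι ≫ q) H ⟶ Red.DS (U : Scheme.{u}) N) (j : Red.DS (U : Scheme.{u}) N ⟶ Red.bc (U.ι ≫ q) G),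
        IsMonHom p ∧ IsMonHom j ∧ Surjective p.left ∧
        Flat p.left ∧ QuasiCompact p.left ∧ IsClosedImmersion j.left ∧ p ≫ j = (Over.pullback (U.ι ≫ q)).map f := by
    intro s'
    obtain ⟨U, hU, M, _, ⟨e⟩⟩ := hq4 s'
    let c : Chart H (Over.mk (U.ι ≫ q)) M := Chart.ofIso _ e
    obtain ⟨V₀, hV, N, hfg, hN⟩ := DSAdapt.exists_adOn f c (⟨s', hU⟩ : U)
    let V : (U : Scheme.{u}).Opens := V₀
    let W : S'.Opens := U.ι ''ᵁ V
    have hWU : W ≤ U := U.ι_image_le V
    let r : (W : Scheme.{u}) ⟶ U := S'.homOfLE hWU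
    have hr : r ≫ U.ι = W.ι := S'.homOfLE_ι hWU
    let b : Over.mk (W.ι ≫ q) ⟶ Over.mk (U.ι ≫ q) := Over.homMk r (by
      change r ≫ U.ι ≫ q = W.ι ≫ q
      rw [← Category.assoc, hr])
    have hN' : Adapted f (c.restrict b) N := fun X t x => by
      refine hN X (t ≫ b) ?_ x
      rintro _ ⟨z, rfl⟩
      let w : (W : Scheme.{u}) := t.left z
      obtain ⟨v, hv, hv'⟩ : w.1 ∈ U.ι '' (V : Set (U : Scheme.{u})) := w.2
      have h1 : U.ι (r w) = w.1 := by
        rw [← Scheme.Hom.comp_apply, hr]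
        rfl
      have h2 : (t ≫ b).left z = v := U.ι.isOpenEmbedding.injective (h1.trans hv'.symm)
      rw [h2]
      exact hv
    obtain ⟨p, j, h⟩ := exists_fact hfg hN'
    exact ⟨W, ⟨⟨s', hU⟩, hV, rfl⟩, N, inferInstance, (AddGroup.fg_iff_addSubgroup_fg N).2 hfg, p, j, h⟩
  -- local comparison with the schematic image
  have key2 : ∀ s' : S', ∃ U : S'.Opens, s' ∈ U ∧ ∃ (N : Type) (_ : AddCommGroup N), AddGroup.FG N ∧
      ∃ (p : Red.bc (U.ι ≫ q) H ⟶ Red.DS (U : Scheme.{u}) N) (j : Red.DS (U : Scheme.{u}) N ⟶ Red.bc (U.ι ≫ q) G)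
        (e : Red.DS (U : Scheme.{u}) N ≅ Red.bc (U.ι ≫ q) (im f)),
        IsMonHom j ∧ Surjective p.left ∧ Flat p.left ∧ e.hom ≫ (Over.pullback (U.ι ≫ q)).map (imι f) = j ∧
          p ≫ e.hom = (Over.pullback (U.ι ≫ q)).map (toIm f) := by
    intro s'
    obtain ⟨U, hU, N, _, hfg, p, j, h1, h2, h3, h4, h5, h6, h7⟩ := key s'
    obtain ⟨e, he, he'⟩ := exists_iso_bc f (U.ι ≫ q) p j h7
    exact ⟨U, hU, N, inferInstance, hfg, p, j, e, h2, h3, h4, he, he'⟩
  have hflat : Flat (toIm f).left := by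
    have := Groth.Agent.Sga3.H804.EtFam.flat_descends.{u}
    refine Sga3.H798.FpqcIso.prop_of_fpqc_cover (P := @Flat) q hq3 (toIm f) fun s' => ?_
    obtain ⟨U, hU, N, _, hfg, p, j, e, h2, h3, h4, h5, h6⟩ := key2 s'
    refine ⟨U, hU, ?_⟩
    have : IsIso e.hom.left := inferInstanceAs (IsIso ((Over.forget _).map e.hom))
    rw [← h6, Over.comp_left]
    infer_instance
  have hsurj : Surjective (toIm f).left := by
    refine Sga3.H798.FpqcIso.prop_of_fpqc_cover (P := @Surjective) q hq3 (toIm f) fun s' => ?_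
    obtain ⟨U, hU, N, _, hfg, p, j, e, h2, h3, h4, h5, h6⟩ := key2 s'
    refine ⟨U, hU, ?_⟩
    have : IsIso e.hom.left := inferInstanceAs (IsIso ((Over.forget _).map e.hom))
    rw [← h6, Over.comp_left]
    infer_instance
  obtain ⟨hg, hmon⟩ := exists_grpObj f
  have hmon' : IsMonHom (toIm f) := by
    have h1 : IsMonHom (toIm f ≫ imι f) := by rw [toIm_imι]; infer_instance
    exact Sga3C.SubGrp.isMonHom_of_comp_mono (toIm f) (imι f)
  refine ⟨im f, hg, imι f, toIm f, hmon, hmon', inferInstance, ?_, hflat, hsurj, toIm_imι f⟩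
  refine ⟨S', q, hq1, hq2, hq3, fun s' => ?_⟩
  obtain ⟨U, hU, N, _, hfg, p, j, e, h2, h3, h4, h5, h6⟩ := key2 s'
  refine ⟨U, hU, N, inferInstance, hfg, ?_⟩
  have h7 : IsMonHom e.hom := by
    have h8 : IsMonHom (e.hom ≫ (Over.pullback (U.ι ≫ q)).map (imι f)) := by rw [h5]; exact h2
    exact Sga3C.SubGrp.isMonHom_of_comp_mono e.hom ((Over.pullback (U.ι ≫ q)).map (imι f))
  exact ⟨(Grp.mkIso' e).symm⟩

end K21.Image
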