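import Groth.Agent.SGA3x.K21.ClosedCond
import Groth.Agent.Sga3B.CentSmooth

/-!
# Centralizers of homomorphisms from groups of multiplicative type

* `exists_smooth_centralizer` : `G` smooth and separated, `H` of multiplicative type (of arbitrary type), `u : H ⟶ G`
  a homomorphism: the centralizer of `u` is representable by a closed smooth subgroup scheme.
-/

set_option autoImplicit false
universe u
open CategoryTheory MonoidalCategory CartesianMonoidalCategory MonObj GrpObj AlgebraicGeometry Limits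

namespace K21.CentMult

open Groth.Agent.Sga3B Groth.Agent.Sga3B.CentRep Groth.Agent.Sga3B.CentSmooth Groth.Agent.Sga3B.CentLift

variable {S : Scheme.{u}} {H G : Over S} [GrpObj H] [GrpObj G]

/-- smoothness of the centralizer, in terms of points -/
theorem smooth_centralizer (hH : MultLoc.IsMult H) [Smooth G.hom] [IsSeparated G.hom] (u : H ⟶ G) [IsMonHom u]
    {Z : Over S} (z : Z ⟶ G) [Mono z] [LocallyOfFinitePresentation z.left]
    (hz : ∀ (X : Over S) (g : X ⟶ G), (∃ a : X ⟶ Z, a ≫ z = g) ↔ g ∈ centPts u X) : Smooth Z.hom := by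
  obtain ⟨S', f, hf, hs, hc, h⟩ := hH
  refine smooth_of_lift z (fun T => centPts u T) hz f hc fun s' => ?_
  obtain ⟨U, hU, M, _, hM⟩ := h s'
  refine ⟨U, hU, fun B _ _ I hI x β hx g₁ hg₁ => ?_⟩
  subst hx
  exact cent_lift u I hI _ (isSplit_bc (U.ι ≫ f) β hM) g₁ hg₁

/-- The centralizer of a homomorphism from a group of multiplicative type. -/
theorem exists_smooth_centralizer (hH : MultLoc.IsMult H) [Smooth G.hom] [IsSeparated G.hom] (u : H ⟶ G) [IsMonHom u] :
    ∃ (Z : Over S) (_ : GrpObj Z) (z : Z ⟶ G), Red.IsCentralizerOf u z ∧ IsClosedImmersion z.left ∧ Smooth Z.hom ∧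
      LocallyOfFinitePresentation z.left := by
  obtain ⟨Z, z, hz, huniv, hfp⟩ := ClosedCond.exists_centralizer hH u
  have hm : Mono z := Groth.Agent.Sga3C.ClosedSub.mono_of_left z
  have hfp' := hfp inferInstance
  have huniv' : ∀ (X : Over S) (g : X ⟶ G), (∃ a : X ⟶ Z, a ≫ z = g) ↔ g ∈ centPts u X := huniv
  obtain ⟨hg, hmon⟩ := exists_grpObj z (fun T => centPts u T) huniv'
  exact ⟨Z, hg, z, ⟨hmon, hm, huniv⟩, hz, smooth_centralizer hH u z huniv', hfp'⟩

end K21.CentMult
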