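import Groth.Agent.SGA3x.K21.ClosedCond
import Groth.Prelude.Def_AutFam

/-!
# `Hom(Q, H) → Hom(Q, G)` is a closed immersion for `H ⟶ G` a closed immersion, `Q` of multiplicative type
-/

set_option autoImplicit false
universe u
open CategoryTheory MonoidalCategory CartesianMonoidalCategory MonObj GrpObj AlgebraicGeometry Limits

namespace K21.HomImm

open MultLoc ClosedCond

variable {S : Scheme.{u}}

/-- `Hom(Q, H) → Hom(Q, G)` is a closed immersion (of finite presentation if `H ⟶ G` is) when `H ⟶ G` is a closed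
immersion and `Q` is of multiplicative type (of any type). -/
theorem isClosedImmersion (Q H G : Over S) [GrpObj Q] [GrpObj H] [GrpObj G] (hQ : IsMult Q)
    (k : H ⟶ G) [IsMonHom k] (hk : IsClosedImmersion k.left)
    (AH : Over S) (υH : Q ⊗ AH ⟶ H) (hAH : AutFam.RepresentsHom Q H AH υH)
    (AG : Over S) (υG : Q ⊗ AG ⟶ G) (hAG : AutFam.RepresentsHom Q G AG υG)
    (φ : AH ⟶ AG) (hφ : (Q ◁ φ) ≫ υG = υH ≫ k) :
    IsClosedImmersion φ.left ∧ (LocallyOfFinitePresentation k.left → LocallyOfFinitePresentation φ.left) := by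
  have hkm : Mono k := Over.mono_of_mono_left k
  obtain ⟨Z, z, hz, huniv, hfp⟩ := exists_closed_map (X := AG) (Q := Q) hQ (lift (snd AG Q) (fst AG Q) ≫ υG) k
  have hzm : Mono z := Over.mono_of_mono_left z
  have huniv' : ∀ (T : Over S) (g : T ⟶ AG), (∃ a : T ⟶ Z, a ≫ z = g) ↔
        ∀ (T' : Over S) (x : T' ⟶ T) (h : T' ⟶ Q), ∃ b : T' ⟶ H, b ≫ k = lift h (x ≫ g) ≫ υG := by
    intro T g
    rw [huniv]
    have e : ∀ (T' : Over S) (x : T' ⟶ T) (h : T' ⟶ Q),
        lift (x ≫ g) h ≫ lift (snd AG Q) (fst AG Q) ≫ υG = lift h (x ≫ g) ≫ υG := by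
      intro T' x h
      rw [← Category.assoc, comp_lift, lift_snd, lift_fst]
    simp only [e]
  -- the map `AH ⟶ Z`
  obtain ⟨a, ha⟩ := (huniv' AH φ).2 (fun T' x h => ⟨lift h x ≫ υH, by
    rw [Category.assoc, ← hφ, ← Category.assoc, lift_whiskerLeft]⟩)
  -- the map `Z ⟶ AH`
  obtain ⟨θ, hθ⟩ := (huniv' Z z).1 ⟨𝟙 _, Category.id_comp _⟩ (Q ⊗ Z) (snd Q Z) (fst Q Z)
  have hθ' : ∀ (T : Over S) (h : T ⟶ Q) (t : T ⟶ Z), lift h t ≫ θ ≫ k = lift h (t ≫ z) ≫ υG := by
    intro T h t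
    rw [hθ, ← Category.assoc, comp_lift, lift_fst, ← Category.assoc, lift_snd]
  have hθh : AutFam.IsHomFamily Q H θ := by
    intro X g₁ g₂ t
    rw [← cancel_mono k, MonObj.mul_comp, Category.assoc, Category.assoc, Category.assoc, hθ', hθ', hθ', hAG.1]
  obtain ⟨b, hb, -⟩ := hAH.2 Z θ hθh
  have h3 : (Q ◁ z) ≫ υG = θ ≫ k := by
    rw [hθ]
    congr 1
  have hbφ : b ≫ φ = z := by
    have h1 : AutFam.IsHomFamily Q G (θ ≫ k) := by
      intro X g₁ g₂ t
      rw [← Category.assoc, ← Category.assoc, ← Category.assoc, hθh, MonObj.mul_comp]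
    obtain ⟨c, -, hc⟩ := hAG.2 Z (θ ≫ k) h1
    have h2 : (Q ◁ (b ≫ φ)) ≫ υG = θ ≫ k := by
      rw [MonoidalCategory.whiskerLeft_comp, Category.assoc, hφ, ← Category.assoc, hb]
    rw [hc _ h2, hc _ h3]
  have hab : a ≫ b = 𝟙 _ := by
    obtain ⟨c, -, hc⟩ := hAH.2 AH υH hAH.1
    have h2 : (Q ◁ (a ≫ b)) ≫ υH = υH := by
      rw [← cancel_mono k, MonoidalCategory.whiskerLeft_comp, Category.assoc, Category.assoc,
        ← Category.assoc (Q ◁ b), hb, ← h3, ← hφ, ← ha, MonoidalCategory.whiskerLeft_comp, Category.assoc]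
    rw [hc _ h2, hc (𝟙 _) (by simp)]
  have hba : b ≫ a = 𝟙 _ := by
    rw [← cancel_mono z, Category.assoc, ha, hbφ, Category.id_comp]
  have hia : IsIso a := ⟨b, hab, hba⟩
  have hia' : IsIso a.left := inferInstanceAs (IsIso ((Over.forget S).map a))
  have e : φ.left = a.left ≫ z.left := by rw [← ha]; rfl
  rw [e]
  refine ⟨inferInstance, fun h => ?_⟩
  have := hfp h
  infer_instance

end K21.HomImm
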