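import Groth.Agent.SGA3x.K21.MultLoc
import Groth.Agent.S4101
import Groth.Agent.Ega43.FPOfComp

/-!
# Closed conditions along a group of multiplicative type

* `exists_closed` : a closed condition on `X ⊗ Q` which has to hold universally along `Q`, with `Q` of multiplicative
  type (any type), is represented by a closed subscheme of `X` (of finite presentation if the condition is).
* `exists_closed_map` : version with a map `X ⊗ Q ⟶ Y` and a closed subscheme of `Y`.
* `exists_factor_iff` : a morphism `u : X ⊗ Q ⟶ Y`, restricted to the closed subscheme.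
* `exists_inter` : intersections of closed subschemes.
-/

set_option autoImplicit false
universe u
open CategoryTheory MonoidalCategory CartesianMonoidalCategory MonObj GrpObj AlgebraicGeometry Limits

namespace K21.ClosedCond

open MultLoc

variable {S : Scheme.{u}}

/-- `X ×_S Q → X` is essentially free. -/
theorem isEssentiallyFree_fst (X : Over S) {Q : Over S} [GrpObj Q] (hQ : IsMult Q) :
    SGA3x.IsEssentiallyFree (fst X Q).left := by
  have h1 : SGA3x.IsEssentiallyFree (pullback.snd Q.hom X.hom) := MultLoc.isEssentiallyFree (isMult_bc X.hom hQ)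
  have h2 : (fst X Q).left = (pullbackSymmetry _ _).hom ≫ pullback.snd Q.hom X.hom := by
    rw [pullbackSymmetry_hom_comp_snd]; rfl
  rw [h2]
  intro s
  obtain ⟨U, hs, hU, S', hS', g, hg1, hg2, hV⟩ := h1 s
  refine ⟨U, hs, hU, S', hS', g, hg1, hg2, fun x => ?_⟩
  let e : pullback ((pullbackSymmetry X.hom Q.hom).hom ≫ pullback.snd Q.hom X.hom) (g ≫ U.ι) ≅
      pullback (pullback.snd Q.hom X.hom) (g ≫ U.ι) :=
    asIso (pullback.map _ _ _ _ (pullbackSymmetry X.hom Q.hom).hom (𝟙 _) (𝟙 _) (by simp) (by simp))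
  have he : e.hom ≫ pullback.snd _ _ = pullback.snd _ _ := by
    simp only [e, asIso_hom]
    exact (pullback.lift_snd _ _ _).trans (Category.comp_id _)
  obtain ⟨V, hxV, hVa, hVp⟩ := hV (e.hom x)
  refine ⟨e.hom ⁻¹ᵁ V, hxV, hVa.preimage_of_isIso e.hom, ?_⟩
  change EssFree.PR _ at hVp
  change EssFree.PR _
  have h3 : (e.hom ⁻¹ᵁ V).ι ≫ pullback.snd ((pullbackSymmetry X.hom Q.hom).hom ≫ pullback.snd Q.hom X.hom) (g ≫ U.ι) =
      (e.hom ∣_ V) ≫ V.ι ≫ pullback.snd (pullback.snd Q.hom X.hom) (g ≫ U.ι) := by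
    rw [← he, morphismRestrict_ι_assoc]
  rw [h3, Scheme.Hom.comp_appTop, CommRingCat.hom_comp]
  refine EssFree.PR.comp hVp (EssFree.PR.of_bijective ?_)
  have h4 : IsIso (e.hom ∣_ V).appTop := inferInstanceAs (IsIso ((e.hom ∣_ V).app ⊤))
  exact ConcreteCategory.bijective_of_isIso (e.hom ∣_ V).appTop

/-- A closed condition on `X ⊗ Q` imposed along all of `Q` is represented by a closed subscheme. -/
theorem exists_closed (X Q : Over S) [GrpObj Q] (hQ : IsMult Q) {W : Over S}
    (w : W ⟶ X ⊗ Q) [IsClosedImmersion w.left] :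
    ∃ (Z : Over S) (z : Z ⟶ X), IsClosedImmersion z.left ∧
      (∀ (T : Over S) (g : T ⟶ X), (∃ a : T ⟶ Z, a ≫ z = g) ↔
        ∀ (T' : Over S) (x : T' ⟶ T) (h : T' ⟶ Q), ∃ b : T' ⟶ W, b ≫ w = lift (x ≫ g) h) ∧
      (LocallyOfFinitePresentation w.left → LocallyOfFinitePresentation z.left) := by
  have h0 : IsAffineHom Q.hom := isAffineHom hQ
  have h1 : QuasiCompact (fst X Q).left := inferInstanceAs (QuasiCompact (pullback.fst X.hom Q.hom))
  obtain ⟨Z, t, ht, huniv, hfp⟩ :=
    Groth.Agent.S4101.result X.left (X ⊗ Q).left W.left (fst X Q).left (isEssentiallyFree_fst X hQ) w.left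
  refine ⟨Over.mk (t ≫ X.hom), Over.homMk t rfl, ht, ?_, hfp h1⟩
  intro T g
  have h3 : (∃ a : T ⟶ Over.mk (t ≫ X.hom), a ≫ Over.homMk t rfl = g) ↔
      ∃ a' : T.left ⟶ Z, a' ≫ t = g.left := by
    constructor
    · rintro ⟨a, rfl⟩
      exact ⟨a.left, rfl⟩
    · rintro ⟨a', ha'⟩
      refine ⟨Over.homMk a' ?_, ?_⟩
      · change a' ≫ t ≫ X.hom = _
        rw [← Category.assoc, ha', Over.w]
      · ext1; exact ha'
  rw [h3, huniv]
  constructor
  · intro hiso T' x h
    have e1 : (lift (x ≫ g) h).left ≫ (fst X Q).left = x.left ≫ g.left := by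
      rw [← Over.comp_left, lift_fst, Over.comp_left]
    refine ⟨Over.homMk (pullback.lift (lift (x ≫ g) h).left x.left e1 ≫
      inv (pullback.snd w.left (pullback.fst (fst X Q).left g.left)) ≫ pullback.fst _ _) ?_, ?_⟩
    · rw [← Over.w w, Category.assoc, Category.assoc, pullback.condition_assoc, IsIso.inv_hom_id_assoc,
        pullback.lift_fst_assoc, Over.w]
    · apply Over.OverMorphism.ext
      rw [Over.comp_left]
      change (pullback.lift (lift (x ≫ g) h).left x.left e1 ≫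
        inv (pullback.snd w.left (pullback.fst (fst X Q).left g.left)) ≫ pullback.fst _ _) ≫ w.left = _
      rw [Category.assoc, Category.assoc, pullback.condition, IsIso.inv_hom_id_assoc, pullback.lift_fst]
  · intro H
    let T' : Over S := Over.mk (pullback.snd (fst X Q).left g.left ≫ T.hom)
    let x : T' ⟶ T := Over.homMk (pullback.snd (fst X Q).left g.left) rfl
    let p : T' ⟶ X ⊗ Q := Over.homMk (pullback.fst (fst X Q).left g.left) (by
      change _ = pullback.snd (fst X Q).left g.left ≫ T.hom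
      rw [← Over.w (fst X Q), pullback.condition_assoc, Over.w g])
    obtain ⟨b, hb⟩ := H T' x (p ≫ snd X Q)
    have hp : lift (x ≫ g) (p ≫ snd X Q) = p := by
      apply CartesianMonoidalCategory.hom_ext
      · rw [lift_fst]
        apply Over.OverMorphism.ext
        exact pullback.condition.symm
      · rw [lift_snd]
    rw [hp] at hb
    have hb' : b.left ≫ w.left = pullback.fst (fst X Q).left g.left := congrArg CommaMorphism.left hb
    have hm : Mono (pullback.snd w.left (pullback.fst (fst X Q).left g.left)) := inferInstance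
    have hs : IsSplitEpi (pullback.snd w.left (pullback.fst (fst X Q).left g.left)) :=
      ⟨⟨⟨pullback.lift b.left (𝟙 _) (by rw [hb', Category.id_comp]), pullback.lift_snd _ _ _⟩⟩⟩
    exact isIso_of_mono_of_isSplitEpi _

/-- The left component of a base change in `Over S` of a closed immersion (lfp). -/
lemma isPullback_left {A B C D : Over S} {a : A ⟶ B} {b : A ⟶ C} {c : B ⟶ D} {d : C ⟶ D}
    (h : IsPullback a b c d) : IsPullback a.left b.left c.left d.left :=
  h.map (Over.forget S)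

/-- Version of `exists_closed` with a map into `Y` and a closed subscheme of `Y`. -/
theorem exists_closed_map {X Q Y H : Over S} [GrpObj Q] (hQ : IsMult Q)
    (c : X ⊗ Q ⟶ Y) (i : H ⟶ Y) [IsClosedImmersion i.left] :
    ∃ (Z : Over S) (z : Z ⟶ X), IsClosedImmersion z.left ∧
      (∀ (T : Over S) (g : T ⟶ X), (∃ a : T ⟶ Z, a ≫ z = g) ↔
        ∀ (T' : Over S) (x : T' ⟶ T) (h : T' ⟶ Q), ∃ b : T' ⟶ H, b ≫ i = lift (x ≫ g) h ≫ c) ∧
      (LocallyOfFinitePresentation i.left → LocallyOfFinitePresentation z.left) := by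
  have H1 := isPullback_left (IsPullback.of_hasPullback c i)
  have H2 : IsClosedImmersion (pullback.fst c i).left := MorphismProperty.of_isPullback H1.flip inferInstance
  obtain ⟨Z, z, hz, huniv, hfp⟩ := exists_closed X Q hQ (pullback.fst c i)
  refine ⟨Z, z, hz, fun T g => ?_, fun h => hfp (MorphismProperty.of_isPullback H1.flip h)⟩
  rw [huniv]
  refine forall_congr' fun T' => forall_congr' fun x => forall_congr' fun h => ?_
  constructor
  · rintro ⟨b, hb⟩
    exact ⟨b ≫ pullback.snd c i, by rw [Category.assoc, ← pullback.condition, ← Category.assoc, hb]⟩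
  · rintro ⟨b, hb⟩
    exact ⟨pullback.lift (lift (x ≫ g) h) b hb.symm, pullback.lift_fst _ _ _⟩

/-- Intersections of closed subobjects. -/
lemma exists_inter {X Z₁ Z₂ : Over S} (z₁ : Z₁ ⟶ X) (z₂ : Z₂ ⟶ X) [IsClosedImmersion z₁.left]
    [IsClosedImmersion z₂.left] :
    ∃ (Z : Over S) (z : Z ⟶ X), IsClosedImmersion z.left ∧
      (∀ (T : Over S) (g : T ⟶ X), (∃ a : T ⟶ Z, a ≫ z = g) ↔
        (∃ a : T ⟶ Z₁, a ≫ z₁ = g) ∧ (∃ a : T ⟶ Z₂, a ≫ z₂ = g)) ∧
      (LocallyOfFinitePresentation z₁.left → LocallyOfFinitePresentation z₂.left →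
        LocallyOfFinitePresentation z.left) := by
  have H1 := isPullback_left (IsPullback.of_hasPullback z₁ z₂)
  have H2 : IsClosedImmersion (pullback.fst z₁ z₂).left := MorphismProperty.of_isPullback H1.flip inferInstance
  refine ⟨pullback z₁ z₂, pullback.fst z₁ z₂ ≫ z₁, ?_, ?_, ?_⟩
  · rw [Over.comp_left]; infer_instance
  · intro T g
    constructor
    · rintro ⟨a, rfl⟩
      exact ⟨⟨a ≫ pullback.fst _ _, by rw [Category.assoc]⟩, ⟨a ≫ pullback.snd _ _, by
        rw [Category.assoc, pullback.condition]⟩⟩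
    · rintro ⟨⟨a, ha⟩, ⟨b, hb⟩⟩
      exact ⟨pullback.lift a b (ha.trans hb.symm), by rw [pullback.lift_fst_assoc, ha]⟩
  · intro h1 h2
    have : LocallyOfFinitePresentation (pullback.fst z₁ z₂).left := MorphismProperty.of_isPullback H1.flip h2
    rw [Over.comp_left]; infer_instance

/-- The unit section of a separated group scheme is a closed immersion. -/
lemma isClosedImmersion_one (G : Over S) [GrpObj G] [IsSeparated G.hom] : IsClosedImmersion η[G].left := by
  have h2 : η[G].left ≫ G.hom = 𝟙 S := Over.w η[G]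
  have : IsClosedImmersion (η[G].left ≫ G.hom) := by
    rw [h2]; exact (inferInstance : IsClosedImmersion (𝟙 S))
  exact IsClosedImmersion.of_comp _ G.hom

lemma locallyOfFinitePresentation_one (G : Over S) [GrpObj G] [LocallyOfFiniteType G.hom] :
    LocallyOfFinitePresentation η[G].left := by
  have h2 : η[G].left ≫ G.hom = 𝟙 S := Over.w η[G]
  have : LocallyOfFinitePresentation (η[G].left ≫ G.hom) := by
    rw [h2]; exact (inferInstance : LocallyOfFinitePresentation (𝟙 S))
  exact Groth.Agent.Ega43.FPOfComp.locallyOfFinitePresentation_of_comp _ G.hom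

/-- The centralizer of a homomorphism from a group of multiplicative type to a separated group: a closed subscheme. -/
theorem exists_centralizer {G Q : Over S} [GrpObj G] [GrpObj Q] [IsSeparated G.hom] (hQ : IsMult Q) (q : Q ⟶ G) :
    ∃ (Z : Over S) (z : Z ⟶ G), IsClosedImmersion z.left ∧
      (∀ (T : Over S) (g : T ⟶ G), (∃ a : T ⟶ Z, a ≫ z = g) ↔
        ∀ (T' : Over S) (x : T' ⟶ T) (h : T' ⟶ Q), (x ≫ g) * (h ≫ q) = (h ≫ q) * (x ≫ g)) ∧
      (LocallyOfFiniteType G.hom → LocallyOfFinitePresentation z.left) := by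
  have h1 := isClosedImmersion_one G
  obtain ⟨Z, z, hz, huniv, hfp⟩ := exists_closed_map (X := G) (Q := Q) hQ
    (fst G Q * (snd G Q ≫ q) * (fst G Q)⁻¹ * (snd G Q ≫ q)⁻¹) η[G]
  refine ⟨Z, z, hz, fun T g => ?_, fun h => hfp (locallyOfFinitePresentation_one G)⟩
  rw [huniv]
  refine forall_congr' fun T' => forall_congr' fun x => forall_congr' fun h => ?_
  have e : lift (x ≫ g) h ≫ (fst G Q * (snd G Q ≫ q) * (fst G Q)⁻¹ * (snd G Q ≫ q)⁻¹) =
      (x ≫ g) * (h ≫ q) * (x ≫ g)⁻¹ * (h ≫ q)⁻¹ := by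
    simp only [MonObj.comp_mul, GrpObj.comp_inv, lift_fst, lift_snd_assoc]
  rw [e]
  constructor
  · rintro ⟨b, hb⟩
    have e2 : b ≫ η[G] = 1 := by rw [one_eq_one, MonObj.comp_one]
    rw [e2, eq_comm, mul_inv_eq_one, mul_inv_eq_iff_eq_mul] at hb
    exact hb
  · intro h
    refine ⟨toUnit _, ?_⟩
    have e2 : toUnit T' ≫ η[G] = 1 := by rw [one_eq_one, MonObj.comp_one]
    rw [e2, eq_comm, mul_inv_eq_one, mul_inv_eq_iff_eq_mul]
    exact h

/-- Transporter of a homomorphism `q : Q ⟶ G`, `Q` of multiplicative type, into a closed subscheme of `G`: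
points `g` with `g q(h) g⁻¹ ∈ Y` for all points `h`. -/
theorem exists_transporter {G Q Y : Over S} [GrpObj G] [GrpObj Q] (hQ : IsMult Q) (q : Q ⟶ G) (y : Y ⟶ G)
    [IsClosedImmersion y.left] :
    ∃ (Z : Over S) (z : Z ⟶ G), IsClosedImmersion z.left ∧
      (∀ (T : Over S) (g : T ⟶ G), (∃ a : T ⟶ Z, a ≫ z = g) ↔
        ∀ (T' : Over S) (x : T' ⟶ T) (h : T' ⟶ Q), ∃ b : T' ⟶ Y, (x ≫ g) * (h ≫ q) * (x ≫ g)⁻¹ = b ≫ y) ∧
      (LocallyOfFinitePresentation y.left → LocallyOfFinitePresentation z.left) := by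
  obtain ⟨Z, z, hz, huniv, hfp⟩ := exists_closed_map (X := G) (Q := Q) hQ
    (fst G Q * (snd G Q ≫ q) * (fst G Q)⁻¹) y
  refine ⟨Z, z, hz, fun T g => ?_, hfp⟩
  rw [huniv]
  refine forall_congr' fun T' => forall_congr' fun x => forall_congr' fun h => ?_
  have e : lift (x ≫ g) h ≫ (fst G Q * (snd G Q ≫ q) * (fst G Q)⁻¹) =
      (x ≫ g) * (h ≫ q) * (x ≫ g)⁻¹ := by
    simp only [MonObj.comp_mul, GrpObj.comp_inv, lift_fst, lift_snd_assoc]
  rw [e]
  exact exists_congr fun _ => eq_comm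

/-- Transporter of one homomorphism `Q ⟶ G` to another one, `Q` of multiplicative type, `G` separated. -/
theorem exists_homTransporter {G Q : Over S} [GrpObj G] [GrpObj Q] [IsSeparated G.hom] (hQ : IsMult Q)
    (q₁ q₂ : Q ⟶ G) :
    ∃ (Z : Over S) (z : Z ⟶ G), IsClosedImmersion z.left ∧
      (∀ (T : Over S) (g : T ⟶ G), (∃ a : T ⟶ Z, a ≫ z = g) ↔
        ∀ (T' : Over S) (x : T' ⟶ T) (h : T' ⟶ Q), (x ≫ g) * (h ≫ q₁) * (x ≫ g)⁻¹ = h ≫ q₂) ∧
      (LocallyOfFiniteType G.hom → LocallyOfFinitePresentation z.left) := by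
  have h1 := isClosedImmersion_one G
  obtain ⟨Z, z, hz, huniv, hfp⟩ := exists_closed_map (X := G) (Q := Q) hQ
    (fst G Q * (snd G Q ≫ q₁) * (fst G Q)⁻¹ * (snd G Q ≫ q₂)⁻¹) η[G]
  refine ⟨Z, z, hz, fun T g => ?_, fun h => hfp (locallyOfFinitePresentation_one G)⟩
  rw [huniv]
  refine forall_congr' fun T' => forall_congr' fun x => forall_congr' fun h => ?_
  have e : lift (x ≫ g) h ≫ (fst G Q * (snd G Q ≫ q₁) * (fst G Q)⁻¹ * (snd G Q ≫ q₂)⁻¹) =
      (x ≫ g) * (h ≫ q₁) * (x ≫ g)⁻¹ * (h ≫ q₂)⁻¹ := by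
    simp only [MonObj.comp_mul, GrpObj.comp_inv, lift_fst, lift_snd_assoc]
  rw [e]
  constructor
  · rintro ⟨b, hb⟩
    have e2 : b ≫ η[G] = 1 := by rw [one_eq_one, MonObj.comp_one]
    rw [e2, eq_comm, mul_inv_eq_one] at hb
    exact hb
  · intro h
    refine ⟨toUnit _, ?_⟩
    have e2 : toUnit T' ≫ η[G] = 1 := by rw [one_eq_one, MonObj.comp_one]
    rw [e2, eq_comm, mul_inv_eq_one]
    exact h

end K21.ClosedCond
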