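import Groth.Agent.SGA3x.K21.Image
import Groth.Agent.SGA3x.K21.DSIso
import Groth.Agent.Sga3B.MaxTorNear900

/-!
# Images: local structure; products; commutativity

* `mul_comm` : groups of multiplicative type are commutative;
* `prodChart`, `isMult_tensor` : products of groups of multiplicative type;
* `exists_split_nhd` : the image of a homomorphism from a group which is Zariski-locally diagonalisable is
  Zariski-locally diagonalisable.
-/

set_option autoImplicit false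
universe u
open CategoryTheory MonoidalCategory CartesianMonoidalCategory MonObj GrpObj AlgebraicGeometry Limits

namespace K21.ImageLoc

open Groth.Agent Groth.Agent.Sga3.H784 Groth.Agent.Sga3.H827 Groth.Agent.Sga3.H828.DiagChart
  Groth.Agent.Sga3.H828.DiagChart.Chart
open Groth.Agent.Sga3B Groth.Agent.Sga3B.DSPts KerChart KerData Groth.Agent.Sga3B.MaxTorNear900

variable {S : Scheme.{u}}

/-- Equality of morphisms is local for coverings. -/
lemma eq_of_cover {S' : Scheme.{u}} (f : S' ⟶ S) [Flat f] [Surjective f] {X Y : Over S} (a b : X ⟶ Y)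
    (h : ∀ s' : S', ∃ U : S'.Opens, s' ∈ U ∧ (Over.pullback U.ι).map ((Over.pullback f).map a) =
      (Over.pullback U.ι).map ((Over.pullback f).map b)) : a = b :=
  eq_of_bc f a b (eq_of_local _ _ h)

/-- Groups of multiplicative type are commutative. -/
theorem mul_comm {H : Over S} [GrpObj H] (h : MultLoc.IsMult H) (X : Over S) (x y : X ⟶ H) : x * y = y * x := by
  obtain ⟨S', f, _, _, -, hf⟩ := h
  refine eq_of_cover f _ _ fun s' => ?_
  obtain ⟨U, hU, r, _, ⟨e⟩⟩ := hf s'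
  refine ⟨U, hU, ?_⟩
  rw [Functor.map_mul, Functor.map_mul, Functor.map_mul, Functor.map_mul]
  exact mul_comm_of_iso (BcIso.bcCompIso U.ι f H).symm
    (fun X x y => mul_comm_of_iso e (fun X x y => Par.CanRig.ds_mul_comm x y) X x y) _ _ _

section prod

variable {H₁ H₂ B : Over S} [GrpObj H₁] [GrpObj H₂] {M₁ M₂ : Type} [AddCommGroup M₁] [AddCommGroup M₂]

/-- the chart of a product -/
noncomputable def prodChart (c₁ : Chart H₁ B M₁) (c₂ : Chart H₂ B M₂) : Chart (H₁ ⊗ H₂) B (M₁ × M₂) where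
  chr {T} t :=
    { toFun := fun x => ((c₁.chr t (x ≫ fst H₁ H₂)).comp (AddMonoidHom.toMultiplicative (AddMonoidHom.fst M₁ M₂))) *
        ((c₂.chr t (x ≫ snd H₁ H₂)).comp (AddMonoidHom.toMultiplicative (AddMonoidHom.snd M₁ M₂)))
      invFun := fun χ => lift ((c₁.chr t).symm (χ.comp (AddMonoidHom.toMultiplicative (AddMonoidHom.inl M₁ M₂))))
        ((c₂.chr t).symm (χ.comp (AddMonoidHom.toMultiplicative (AddMonoidHom.inr M₁ M₂))))
      left_inv := fun x => by
        apply CartesianMonoidalCategory.hom_ext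
        · rw [lift_fst]
          apply (c₁.chr t).injective
          rw [MulEquiv.apply_symm_apply]
          refine MonoidHom.ext fun m => ?_
          change c₁.chr t (x ≫ fst H₁ H₂) m * c₂.chr t (x ≫ snd H₁ H₂) 1 = _
          rw [map_one, _root_.mul_one]
        · rw [lift_snd]
          apply (c₂.chr t).injective
          rw [MulEquiv.apply_symm_apply]
          refine MonoidHom.ext fun m => ?_
          change c₁.chr t (x ≫ fst H₁ H₂) 1 * c₂.chr t (x ≫ snd H₁ H₂) m = _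
          rw [map_one, _root_.one_mul]
      right_inv := fun χ => by
        beta_reduce
        rw [lift_fst, lift_snd, MulEquiv.apply_symm_apply, MulEquiv.apply_symm_apply]
        refine MonoidHom.ext fun m => ?_
        change χ (Multiplicative.ofAdd (m.toAdd.1, 0)) * χ (Multiplicative.ofAdd (0, m.toAdd.2)) = χ m
        rw [← map_mul, ← ofAdd_add, Prod.mk_add_mk, add_zero, zero_add]
        rfl
      map_mul' := fun x y => by
        have h1 := MonObj.mul_comp x y (fst H₁ H₂)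
        have h2 := MonObj.mul_comp x y (snd H₁ H₂)
        rw [h1, h2, map_mul, map_mul]
        refine MonoidHom.ext fun m => ?_
        exact mul_mul_mul_comm _ _ _ _ }
  chr_comp {T T'} g t x := by
    have h1 := c₁.chr_comp g t (x ≫ fst H₁ H₂)
    have h2 := c₂.chr_comp g t (x ≫ snd H₁ H₂)
    rw [← Category.assoc] at h1 h2
    refine MonoidHom.ext fun m => ?_
    change c₁.chr (g ≫ t) ((g ≫ x) ≫ fst H₁ H₂) _ * c₂.chr (g ≫ t) ((g ≫ x) ≫ snd H₁ H₂) _ =
      g.left.appTop.hom (c₁.chr t (x ≫ fst H₁ H₂) _ * c₂.chr t (x ≫ snd H₁ H₂) _)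
    rw [h1, h2, map_mul]
    rfl

lemma nonempty_tensor {U : Scheme.{u}} (q : U ⟶ S) (h₁ : Nonempty (Grp.mk (Red.bc q H₁) ≅ Grp.mk (Red.DS U M₁)))
    (h₂ : Nonempty (Grp.mk (Red.bc q H₂) ≅ Grp.mk (Red.DS U M₂))) :
    Nonempty (Grp.mk (Red.bc q (H₁ ⊗ H₂)) ≅ Grp.mk (Red.DS U (M₁ × M₂))) := by
  obtain ⟨e₁⟩ := h₁
  obtain ⟨e₂⟩ := h₂
  exact Chart.toIso q (prodChart (Chart.ofIso q e₁) (Chart.ofIso q e₂))

end prod

section loc

variable {H G : Over S} [GrpObj H] [GrpObj G] {M : Type} [AddCommGroup M]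

/-- Restriction of a chart to a neighbourhood adapted to a homomorphism. -/
theorem exists_adapted_nhd {S' : Scheme.{u}} (q : S' ⟶ S) (U : S'.Opens) (c : Chart H (Over.mk (U.ι ≫ q)) M)
    [IsSeparated G.hom] [LocallyOfFiniteType G.hom] (f : H ⟶ G) [IsMonHom f] (s' : S') (hU : s' ∈ U) :
    ∃ W : S'.Opens, s' ∈ W ∧ W ≤ U ∧ ∃ (N : AddSubgroup M) (c' : Chart H (Over.mk (W.ι ≫ q)) M), N.FG ∧
      Adapted f c' N := by
  obtain ⟨V₀, hV, N, hfg, hN⟩ := DSAdapt.exists_adOn f c (⟨s', hU⟩ : U)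
  let V : (U : Scheme.{u}).Opens := V₀
  let W : S'.Opens := U.ι ''ᵁ V
  have hWU : W ≤ U := U.ι_image_le V
  let r : (W : Scheme.{u}) ⟶ U := S'.homOfLE hWU
  have hr : r ≫ U.ι = W.ι := S'.homOfLE_ι hWU
  let b : Over.mk (W.ι ≫ q) ⟶ Over.mk (U.ι ≫ q) := Over.homMk r (by
    change r ≫ U.ι ≫ q = W.ι ≫ q
    rw [← Category.assoc, hr])
  refine ⟨W, ⟨⟨s', hU⟩, hV, rfl⟩, hWU, N, c.restrict b, hfg, fun X t x => ?_⟩
  refine hN X (t ≫ b) ?_ x
  rintro _ ⟨z, rfl⟩
  let w : (W : Scheme.{u}) := t.left z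
  obtain ⟨v, hv, hv'⟩ : w.1 ∈ U.ι '' (V : Set (U : Scheme.{u})) := w.2
  have h1 : U.ι (r w) = w.1 := by
    rw [← Scheme.Hom.comp_apply, hr]
    rfl
  have h2 : (t ≫ b).left z = v := U.ι.isOpenEmbedding.injective (h1.trans hv'.symm)
  rw [h2]
  exact hv

/-- Local structure of the image, for a chart over a flat `S`-scheme. -/
theorem nonempty_of_adapted {V : Scheme.{u}} (q : V ⟶ S) [Flat q] {N : AddSubgroup M} (hfg : N.FG)
    {c : Chart H (Over.mk q) M} {f : H ⟶ G} [IsMonHom f] [IsSeparated G.hom] [QuasiCompact G.hom]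
    [LocallyOfFiniteType G.hom] (hN : Adapted f c N) {Q : Over S} [GrpObj Q] (f' : H ⟶ Q) (j : Q ⟶ G) [IsMonHom j]
    [Flat f'.left] [Surjective f'.left] [QuasiCompact f'.left] [IsClosedImmersion j.left] (w : f' ≫ j = f) :
    Nonempty (Grp.mk (Red.bc q Q) ≅ Grp.mk (Red.DS V N)) := by
  obtain ⟨p, j', h1, h2, h3, h4, h5, h6, h7⟩ := Image.exists_fact hfg hN
  obtain ⟨k1, k2, k3⟩ := DSAdapt.cover_bc q f'
  have := Image.dominant_of_cover ((Over.pullback q).map f')
  have := Image.dominant_of_cover p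
  have h8 : IsClosedImmersion ((Over.pullback q).map j).left :=
    MorphismProperty.of_isPullback (P := @IsClosedImmersion) (Sga3.H798.FpqcIso.isPullback_map_left q j) inferInstance
  obtain ⟨e, he, -⟩ := Image.exists_iso ((Over.pullback q).map j) j' ((Over.pullback q).map f') p
    (by rw [← Functor.map_comp, w, h7])
  have hj' : Mono j' := Sga3C.ClosedSub.mono_of_left j'
  have h9 : IsMonHom e.hom := by
    have : IsMonHom (e.hom ≫ j') := by rw [he]; infer_instance
    exact Sga3C.SubGrp.isMonHom_of_comp_mono e.hom j'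
  exact ⟨Grp.mkIso' e⟩

/-- **The image is Zariski-locally diagonalisable** if the source is so. -/
theorem exists_split_nhd {f : H ⟶ G} [IsMonHom f] [IsSeparated G.hom] [QuasiCompact G.hom]
    [LocallyOfFiniteType G.hom] {Q : Over S} [GrpObj Q] (f' : H ⟶ Q) (j : Q ⟶ G) [IsMonHom j]
    [Flat f'.left] [Surjective f'.left] [QuasiCompact f'.left] [IsClosedImmersion j.left] (w : f' ≫ j = f)
    (U : S.Opens) (s : S) (hs : s ∈ U) (e : Nonempty (Grp.mk (Red.bc U.ι H) ≅ Grp.mk (Red.DS (U : Scheme.{u}) M))) :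
    ∃ W : S.Opens, s ∈ W ∧ W ≤ U ∧ ∃ N : AddSubgroup M, N.FG ∧
      Nonempty (Grp.mk (Red.bc W.ι Q) ≅ Grp.mk (Red.DS (W : Scheme.{u}) N)) := by
  obtain ⟨e⟩ := e
  let c : Chart H (Over.mk (U.ι ≫ 𝟙 S)) M := Chart.ofIso _ (BcIso.bcCongrIso (Category.comp_id _) H ≪≫ e)
  obtain ⟨W, hsW, hWU, N, c', hfg, hN⟩ := exists_adapted_nhd (𝟙 S) U c f s hs
  obtain ⟨i⟩ := nonempty_of_adapted (W.ι ≫ 𝟙 S) hfg hN f' j w
  exact ⟨W, hsW, hWU, N, hfg, ⟨(BcIso.bcCongrIso (Category.comp_id _) Q).symm ≪≫ i⟩⟩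

end loc

end K21.ImageLoc
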