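import Groth.Agent.SGA3x.K21.KerLocal
import Groth.Agent.SGA3x.K12.CentNhd
import Groth.Agent.Sga3B.TorusEtLoc920

/-!
# Kernels which are central at a point: the neighbourhood

* `good_of_tor`: the kernel is central of multiplicative type étale-locally near `s` if it is central at `s` and `G` has a
  split self-centralizing torus;
* `exists_nhd`: the kernel is central of multiplicative type over an open neighbourhood, for groups of unipotent rank zero.
-/

set_option autoImplicit false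
universe u
open CategoryTheory MonoidalCategory CartesianMonoidalCategory MonObj GrpObj AlgebraicGeometry Limits

namespace K21.KerNbd

open Groth.Agent Groth.Agent.Sga3B Groth.Agent.Sga3B.KerGrp Groth.Agent.Sga3B.MaxTorBc636
open Groth.Agent.SGA3x.K5.Clopen K12.Central K21.KerNS K21.KerTorus K21.KerLocal

variable {S S' : Scheme.{u}}

/-- **The local statement** in the presence of a split self-centralizing torus. -/
theorem good_of_tor {G H T K : Over S} [GrpObj G] [GrpObj H] [GrpObj T] [GrpObj K] {u : G ⟶ H} [IsMonHom u]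
    {k : K ⟶ G} [IsMonHom k] [Mono k] {i : T ⟶ G} {r : ℕ} [Smooth G.hom]
    (hconn : ∀ s : S, _root_.IsConnected (G.hom.base ⁻¹' {s})) [LocallyOfFiniteType H.hom]
    (hi : TorHyp i r) (hk : IsKer k u) (s : S)
    (hc : Cen k (Over.mk (S.fromSpecResidueField s))) : Good k s := by
  let e : S ⟶ H.left := Sga3.H778.NeutralPts.unitSec H
  obtain ⟨_, ⟨W₀, hW₀, rfl⟩, hsW₀, -⟩ :=
    H.left.isBasis_affineOpens.exists_subset_of_mem_open (Set.mem_univ (e s)) isOpen_univ
  let U : S.Opens := e ⁻¹ᵁ W₀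
  let s' : U := ⟨s, hsW₀⟩
  let a : (Red.bc U.ι H).left ⟶ H.left := pullback.fst H.hom U.ι
  let W : (Red.bc U.ι H).left.Opens := a ⁻¹ᵁ W₀
  have hW : ∀ s : U, (η[Red.bc U.ι H] : 𝟙_ (Over (U : Scheme.{u})) ⟶ Red.bc U.ι H).left s ∈ W := by
    intro x
    have h5 : Sga3.H778.NeutralPts.unitSec (Red.bc U.ι H) ≫ a = U.ι ≫ e := Sga3.H806.ApproxConn.unit_bc U.ι H
    have h6 : a (Sga3.H778.NeutralPts.unitSec (Red.bc U.ι H) x) = e (U.ι x) := by
      rw [← Scheme.Hom.comp_apply, h5, Scheme.Hom.comp_apply]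
    exact (congrArg (· ∈ W₀) h6).mpr x.2
  have hWs : IsSeparated (W.ι ≫ (Red.bc U.ι H).hom) := by
    have h1 : (W₀ : Scheme.{u}).IsSeparated := by
      have : IsAffine W₀ := hW₀
      infer_instance
    have h2 : Mono (a ∣_ W₀) := by
      have : Mono a := inferInstanceAs (Mono (pullback.fst H.hom U.ι))
      exact inferInstance
    have h3 : IsSeparated ((a ∣_ W₀) ≫ terminal.from (W₀ : Scheme.{u})) := inferInstance
    have h4 : (a ∣_ W₀) ≫ terminal.from (W₀ : Scheme.{u}) =
        (W.ι ≫ (Red.bc U.ι H).hom) ≫ terminal.from (U : Scheme.{u}) := terminal.hom_ext _ _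
    have h5 : IsSeparated ((W.ι ≫ (Red.bc U.ι H).hom) ≫ terminal.from (U : Scheme.{u})) := by rw [← h4]; exact h3
    exact IsSeparated.of_comp _ (terminal.from (U : Scheme.{u}))
  have h1 : LocallyOfFiniteType (Red.bc U.ι H).hom := inferInstanceAs (LocallyOfFiniteType (pullback.snd _ _))
  have h2 : Smooth (Red.bc U.ι G).hom := inferInstanceAs (Smooth (pullback.snd _ _))
  exact Good.of_bc U.ι s' (good_of_W (G := Red.bc U.ι G) (H := Red.bc U.ι H) (T := Red.bc U.ι T)
    (K := Red.bc U.ι K) (u := (Over.pullback U.ι).map u) (k := (Over.pullback U.ι).map k)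
    (i := (Over.pullback U.ι).map i) (r := r) (Sga3.H819.CentKer.isConnected_bc U.ι G hconn) W hW (hi.bc U.ι)
    (hk.bc U.ι) s' (cen_bc U.ι s' hc))

/-- **The local statement** for groups of unipotent rank zero. -/
theorem good_of_urz {G H K : Over S} [GrpObj G] [GrpObj H] [GrpObj K] {u : G ⟶ H} [IsMonHom u]
    {k : K ⟶ G} [IsMonHom k] [Mono k] [Smooth G.hom]
    (hconn : ∀ s : S, _root_.IsConnected (G.hom.base ⁻¹' {s})) (hu0 : SGA3x.UnipotentRankZero G)
    (hmt : SGA3x.HasMaxTorusEtaleLocally G) [LocallyOfFiniteType H.hom]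
    (hk : IsKer k u) (s : S) (hc : Cen k (Over.mk (S.fromSpecResidueField s))) : Good k s := by
  obtain ⟨hsep, hqc⟩ := K10.URZ.sep_qc G hconn
  obtain ⟨S', f, hf, hf', T, _, i, hi⟩ := hmt
  obtain ⟨s', rfl⟩ := hf'.1 s
  obtain ⟨B, _, v, r, hv, ⟨b, rfl⟩, hr⟩ := TorusEtLoc920.exists_etale_split T hi.2.2.1 s'
  have hself : SelfC i := K10.URZ.selfC f hu0 hi
  have i1 : IsMonHom i := hi.1
  have i2 : Mono i := hi.2.1
  have h1 : LocallyOfFiniteType (Red.bc f H).hom := inferInstanceAs (LocallyOfFiniteType (pullback.snd _ _))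
  have h2 : Smooth (Red.bc f G).hom := inferInstanceAs (Smooth (pullback.snd _ _))
  have h3 : LocallyOfFiniteType (Red.bc v (Red.bc f H)).hom := inferInstanceAs (LocallyOfFiniteType (pullback.snd _ _))
  have h4 : Smooth (Red.bc v (Red.bc f G)).hom := inferInstanceAs (Smooth (pullback.snd _ _))
  have hconn' := Sga3.H819.CentKer.isConnected_bc f G hconn
  refine Good.of_bc f (v b) (Good.of_bc v b ?_)
  exact good_of_tor (G := Red.bc v (Red.bc f G)) (H := Red.bc v (Red.bc f H)) (T := Red.bc v T)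
    (K := Red.bc v (Red.bc f K)) (u := (Over.pullback v).map ((Over.pullback f).map u))
    (k := (Over.pullback v).map ((Over.pullback f).map k))
    (i := (Over.pullback v).map i) (r := r) (Sga3.H819.CentKer.isConnected_bc v (Red.bc f G) hconn')
    ⟨inferInstance, inferInstance, selfC_bc v hself, hr⟩ ((hk.bc f).bc v) b (cen_bc v b (cen_bc f (v b) hc))

/-- From étale neighbourhoods to open neighbourhoods. -/
theorem Good.exists_open {G K : Over S} [GrpObj G] [GrpObj K] {k : K ⟶ G} {s : S} (h : Good k s) :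
    ∃ U : S.Opens, s ∈ U ∧ Cen k (Over.mk U.ι) ∧ SGA3x.IsMultTypeFT (Red.bc U.ι K) := by
  obtain ⟨V, v, h1, hs, h2, h3⟩ := h
  obtain ⟨U, w, hU, h4, h5⟩ := K12.CentNhd.exists_range v
  have hw : w.left ≫ U.ι = v := Over.w w
  refine ⟨U, by change s ∈ (U : Set S); rw [hU]; exact hs, Cen.of_surjective w h2, ?_⟩
  refine K10.MTLoc.of_etale fun x => ⟨V, w.left, h4, h5.1 x, ?_⟩
  refine K10.MTLoc.of_iso (BcIso.bcCompIso w.left U.ι K) ?_
  rw [hw]
  exact h3

end K21.KerNbd
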