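import Groth.Agent.SGA3x.K21.KerNS
import Groth.Agent.SGA3x.K10.SolvAff
import Groth.Agent.Books.AntiAffine
import Groth.Agent.S3278
import Groth.Agent.S0115
import Groth.Agent.S4124
import Groth.Agent.S4144
import Groth.Agent.Sga3.H832.EtFpqc

/-!
# Quotients by central kernels are immersed

`G` smooth over `S` with affine connected fibres of unipotent rank zero, `u : G ⟶ H` a homomorphism with central kernel
`K`, `Q` the quotient `G/K`: the homomorphism `m : Q ⟶ H` induced by `u` is an immersion.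

* `isAffine_fibre`: the fibres of a quotient of a group scheme with affine fibres are affine;
* `isImmersion`: the main statement.
-/

set_option autoImplicit false
universe u
open CategoryTheory MonoidalCategory CartesianMonoidalCategory MonObj GrpObj AlgebraicGeometry Limits

namespace K21.QuotImm

open Groth.Agent Groth.Agent.Sga3B Groth.Agent.Sga3B.KerGrp Groth.Agent.Sga3.H739.Fpqc K21.KerNS

variable {S : Scheme.{u}}

/-- Points with the same image under `q` have the same image under `q'` if `q'` kills the kernel of `q`. -/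
theorem comp_eq {G Q Q' N : Over S} [GrpObj G] [GrpObj Q] [GrpObj Q'] (q : G ⟶ Q) [IsMonHom q] (q' : G ⟶ Q')
    [IsMonHom q'] (i : N ⟶ G) (h : ∀ (X : Over S) (x : X ⟶ G), x ≫ q = 1 → ∃ y : X ⟶ N, y ≫ i = x)
    (h' : ∀ (X : Over S) (y : X ⟶ N), (y ≫ i) ≫ q' = 1) {X : Over S} (x y : X ⟶ G) (hxy : x ≫ q = y ≫ q) :
    x ≫ q' = y ≫ q' := by
  obtain ⟨n, hn⟩ := h X (x⁻¹ * y) (by rw [MonObj.mul_comp, GrpObj.inv_comp, hxy, inv_mul_cancel])
  have h1 := h' X n
  rw [hn, MonObj.mul_comp, GrpObj.inv_comp, inv_mul_eq_one] at h1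
  exact h1

/-- The quotient of an affine algebraic group by its kernel is affine. -/
theorem isAffine_of_field {F : Type u} [Field F] {G Q : Over (Spec (CommRingCat.of F))} [GrpObj G] [GrpObj Q]
    [IsAffine G.left] [LocallyOfFiniteType G.hom] [LocallyOfFiniteType Q.hom] (q : G ⟶ Q) [IsMonHom q] (hq : Cov q) :
    IsAffine Q.left := by
  have hsep : IsSeparated Q.hom := Groth.Agent.Books.AntiAffine.isSeparated_hom Q
  obtain ⟨_, hi⟩ := exists_grpObj q
  have hN : AlgGrp.IsNormalHom (kerι q) := by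
    intro T g n
    obtain ⟨y, hy⟩ := Sga3B.KerGrp.exists_lift q (g * (n ≫ kerι q) * g⁻¹) (by
      rw [MonObj.mul_comp, MonObj.mul_comp, Category.assoc, kerι_comp, MonObj.comp_one,
        _root_.mul_one, GrpObj.inv_comp, mul_inv_cancel])
    exact ⟨y, hy.symm⟩
  obtain ⟨Q₀, _, q₀, hq₀, hQaff, hQft, hqfl, hqs, hqK⟩ := S3278.result F G (kerObj q) (kerι q) hN
  have hqK' : IsPullback (kerι q) (toUnit (kerObj q)) q₀ η[Q₀] := hqK
  have hcov₀ : Cov q₀ := ⟨hqfl, hqs, inferInstance⟩
  obtain ⟨a, ha⟩ := hq.exists_desc q₀ fun {T} x y hxy =>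
    comp_eq q q₀ (kerι q) (fun X x hx => Sga3B.KerGrp.exists_lift q x hx)
      (fun X y => by
        rw [Category.assoc, hqK'.w, ← Category.assoc, toUnit_unique (y ≫ toUnit (kerObj q)) (toUnit X),
          ← Hom.one_def]) x y hxy
  obtain ⟨b, hb⟩ := hcov₀.exists_desc q fun {T} x y hxy =>
    comp_eq q₀ q (kerι q) (fun X x hx => ⟨hqK'.lift x (toUnit X) (by rw [hx, Hom.one_def]), hqK'.lift_fst _ _ _⟩)
      (fun X y => by rw [Category.assoc, kerι_comp, MonObj.comp_one]) x y hxy
  have h1 : a ≫ b = 𝟙 Q := hq.cancel (by rw [← Category.assoc, ha, hb, Category.comp_id])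
  have h2 : b ≫ a = 𝟙 Q₀ := hcov₀.cancel (by rw [← Category.assoc, hb, ha, Category.comp_id])
  have h3 : IsIso a := ⟨b, h1, h2⟩
  have h4 : IsIso a.left := inferInstanceAs (IsIso ((Over.forget _).map a))
  exact IsAffine.of_isIso a.left

/-- The fibres of a quotient of a group scheme with affine fibres are affine. -/
theorem isAffine_fibre {G Q : Over S} [GrpObj G] [GrpObj Q] [LocallyOfFiniteType G.hom] [LocallyOfFiniteType Q.hom]
    (haff : ∀ s : S, IsAffine (pullback G.hom (S.fromSpecResidueField s))) (q : G ⟶ Q) [IsMonHom q] (hq : Cov q)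
    (s : S) : IsAffine (pullback Q.hom (S.fromSpecResidueField s)) := by
  let f := S.fromSpecResidueField s
  have h1 : IsAffine (Red.bc f G).left := haff s
  have h2 : LocallyOfFiniteType (Red.bc f G).hom := inferInstanceAs (LocallyOfFiniteType (pullback.snd _ _))
  have h3 : LocallyOfFiniteType (Red.bc f Q).hom := inferInstanceAs (LocallyOfFiniteType (pullback.snd _ _))
  have h4 : Cov ((Over.pullback f).map q : Red.bc f G ⟶ Red.bc f Q) := by
    have := hq.flat
    have := hq.surj
    have := hq.qc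
    exact ⟨MorphismProperty.of_isPullback (P := @Flat) (Sga3.H798.FpqcIso.isPullback_map_left f q) inferInstance,
      MorphismProperty.of_isPullback (P := @Surjective) (Sga3.H798.FpqcIso.isPullback_map_left f q) inferInstance,
      MorphismProperty.of_isPullback (P := @QuasiCompact) (Sga3.H798.FpqcIso.isPullback_map_left f q) inferInstance⟩
  exact isAffine_of_field (F := S.residueField s) (G := Red.bc f G) (Q := Red.bc f Q) ((Over.pullback f).map q) h4

/-- **The homomorphism induced on the quotient by the central kernel is an immersion.** -/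
theorem isImmersion {G H K Q : Over S} [GrpObj G] [GrpObj H] [GrpObj K] [GrpObj Q] [Smooth G.hom]
    (haff : ∀ s : S, IsAffine (pullback G.hom (S.fromSpecResidueField s)))
    (hconn : ∀ s : S, _root_.IsConnected (G.hom.base ⁻¹' {s})) (hu0 : SGA3x.UnipotentRankZero G)
    [LocallyOfFiniteType H.hom]
    (hH : (LocallyOfFinitePresentation H.hom ∧ QuasiCompact H.hom ∧ QuasiSeparated H.hom) ∨ IsLocallyNoetherian S)
    {u : G ⟶ H} [IsMonHom u] {k : K ⟶ G} (hk : IsKer k u)
    (hc : ∀ (X : Over S) (g : X ⟶ G) (x : X ⟶ K), g * (x ≫ k) = (x ≫ k) * g)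
    {q : G ⟶ Q} [IsMonHom q] {m : Q ⟶ H} (hq : RedSub.IsQuotient k q) (hm : q ≫ m = u) : IsImmersion m.left := by
  obtain ⟨hsep, hqc⟩ := K10.URZ.sep_qc G hconn
  obtain ⟨q1, q2, q3, hpb⟩ := hq
  -- the quotient is smooth with connected fibres
  have hQ1 : Smooth Q.hom := by
    have : Smooth (q.left ≫ Q.hom) := by rw [Over.w]; infer_instance
    exact S0115.result q.left Q.hom
  have hQconn : ∀ s : S, _root_.IsConnected (Q.hom.base ⁻¹' {s}) := by
    intro s
    have h1 : Q.hom.base ⁻¹' {s} = q.left.base '' (G.hom.base ⁻¹' {s}) := by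
      ext y
      constructor
      · intro hy
        obtain ⟨x, rfl⟩ := q.left.surjective y
        refine ⟨x, ?_, rfl⟩
        rw [← Over.w q]
        exact hy
      · rintro ⟨x, hx, rfl⟩
        rw [← Over.w q] at hx
        exact hx
    rw [h1]
    exact (hconn s).image _ q.left.continuous.continuousOn
  obtain ⟨hQs, hQc⟩ := K10.URZ.sep_qc Q hQconn
  have hcov : Cov q := by
    refine ⟨q2, q1, ?_⟩
    have : QuasiCompact (q.left ≫ Q.hom) := by rw [Over.w]; infer_instance
    exact QuasiCompact.of_comp q.left Q.hom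
  -- the kernel of `q`
  have hker : ∀ (X : Over S) (x : X ⟶ G), x ≫ q = 1 → ∃ y : X ⟶ K, y ≫ k = x := by
    intro X x hx
    have h1 : (1 : X ⟶ G) ≫ q = x ≫ q := by rw [MonObj.one_comp, hx]
    let z := hpb.lift 1 x h1
    have h2 : z ≫ fst G K = 1 := hpb.lift_fst _ _ _
    have h3 : z ≫ ((G ◁ k) ≫ μ[G]) = x := hpb.lift_snd _ _ _
    refine ⟨z ≫ snd G K, ?_⟩
    have h4 : z = lift (z ≫ fst G K) (z ≫ snd G K) := by
      apply CartesianMonoidalCategory.hom_ext <;> simp
    have h5 : z ≫ ((G ◁ k) ≫ μ[G]) = (z ≫ fst G K) * ((z ≫ snd G K) ≫ k) := by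
      conv_lhs => rw [h4]
      rw [← Category.assoc, lift_whiskerLeft]
      rfl
    rw [← h3, h5, h2, _root_.one_mul]
  have hker' : ∀ (X : Over S) (y : X ⟶ K), (y ≫ k) ≫ q = 1 := by
    intro X y
    have h1 : lift (1 : X ⟶ G) y ≫ ((G ◁ k) ≫ μ[G]) = y ≫ k := by
      rw [← Category.assoc, lift_whiskerLeft]
      change (1 : X ⟶ G) * (y ≫ k) = y ≫ k
      rw [_root_.one_mul]
    rw [← h1, Category.assoc, ← hpb.w, lift_fst_assoc, MonObj.one_comp]
  have hcen : ∀ (X : Over S) (z g : X ⟶ G), z ≫ q = 1 → z * g = g * z := by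
    intro X z g hz
    obtain ⟨y, rfl⟩ := hker X z hz
    exact (hc X g y).symm
  -- `m` is a monomorphic homomorphism
  have hm1 : IsMonHom m := by
    refine Groth.Agent.Sga3B.IsoFam.isMonHom_of_mul _ fun X x y => ?_
    obtain ⟨X₁, t₁, x₁, ht₁, hx₁⟩ := hcov.exists_local x
    obtain ⟨X₂, t₂, y₂, ht₂, hy₂⟩ := hcov.exists_local (t₁ ≫ y)
    refine (ht₂.comp ht₁).cancel ?_
    have hx₂ : (t₂ ≫ x₁) ≫ q = (t₂ ≫ t₁) ≫ x := by rw [Category.assoc, hx₁, Category.assoc]
    have hy₂' : y₂ ≫ q = (t₂ ≫ t₁) ≫ y := by rw [hy₂, Category.assoc]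
    rw [← Category.assoc, MonObj.comp_mul, MonObj.comp_mul, ← hx₂, ← hy₂', ← MonObj.mul_comp, Category.assoc,
      ← Category.assoc (t₂ ≫ t₁) x m, ← Category.assoc (t₂ ≫ t₁) y m, ← hx₂, ← hy₂', Category.assoc, Category.assoc,
      Category.assoc, hm, MonObj.mul_comp, Category.assoc]
  have hm2 : Mono m := by
    refine Sga3.H784.FlatDesc.mono_of_ker m fun X x hx => ?_
    obtain ⟨X₁, t₁, x₁, ht₁, hx₁⟩ := hcov.exists_local x
    refine ht₁.cancel ?_
    obtain ⟨y, hy⟩ := (hk X₁ x₁).mpr (by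
      rw [← hm, ← Category.assoc, hx₁, Category.assoc, hx, MonObj.comp_one])
    rw [← hx₁, ← hy, hker', MonObj.comp_one]
  -- conclusion
  have hQu : SGA3x.UnipotentRankZero Q := K10.SolvAff.unipotentRankZero_quotient hu0 q hcen
  have hQaff := isAffine_fibre haff q hcov
  have hT := Sga3.H832.EtFpqc.hasMaxTorusFpqcLocally_of_etale (S4124.result S Q hQaff hQconn hQu).1
  exact S4144.result S Q H hQu hT hQconn hH m

end K21.QuotImm
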