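import Groth.Agent.SGA3x.K21.UrzRigid
import Groth.Agent.Sga3.H819.CentKer
import Groth.Agent.Sga3.H806.ApproxConn
import Groth.Agent.Sga3.H767.FamRing
import Groth.Agent.SGA3x.K12.CentApprox

/-!
# Central homomorphisms from groups with dense conjugates of tori, near a point

`y : Spec K ⟶ S` a point with values in a field such that the conjugates of every maximal torus of `G_y` are dense
(`ConjDense`), `G` smooth with connected fibres, `u v : G ⟶ H` homomorphisms which agree over `y`, where `u` is central.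

* `exists_nhd_noeth`: `u` and `v` agree near `y` if the base is locally noetherian;
* `exists_nhd_fp`: likewise if the base is affine and `H` is of finite presentation.
-/

set_option autoImplicit false
universe u
open CategoryTheory MonoidalCategory CartesianMonoidalCategory MonObj GrpObj AlgebraicGeometry Limits TensorProduct

namespace K21.UrzNhd

open Groth.Agent Groth.Agent.Sga3B Groth.Agent.Sga3B.BcPts Groth.Agent.Sga3B.MaxTorBc636 ConjDom
  Groth.Agent.SGA3x.K5.Clopen K12.Central K12.CentEq K12.CentFam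
open Groth.Agent.Sga3B.IsoFam (unfam comp_unfam isMonHom_unfam isHomFamily_fam)
open Groth.Agent.Sga3.H767.FamLim Groth.Agent.Sga3.H767.FamRing

/-- The spectrum of a larger field over the residue field. -/
theorem exists_residue {S : Scheme.{u}} {K : Type u} [Field K] (y : Spec (CommRingCat.of K) ⟶ S) :
    ∃ t : Over.mk y ⟶ Over.mk (S.fromSpecResidueField (y (IsLocalRing.closedPoint K))),
      Flat t.left ∧ Surjective t.left := by
  let s := y (IsLocalRing.closedPoint K)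
  let φ : S.residueField s ⟶ CommRingCat.of K := S.descResidueField (Scheme.stalkClosedPointTo y)
  refine ⟨Over.homMk (Spec.map φ) (Scheme.descResidueField_stalkClosedPointTo_fromSpecResidueField K S y), ?_, ?_⟩
  · change Flat (Spec.map φ)
    rw [Flat.SpecMap_iff]
    let _ : Algebra (S.residueField s) K := φ.hom.toAlgebra
    change Module.Flat (S.residueField s) K
    infer_instance
  · have h1 : Subsingleton (Spec (S.residueField s)) := inferInstanceAs (Subsingleton (PrimeSpectrum (S.residueField s)))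
    have h2 : Nonempty (Spec (CommRingCat.of K)) := inferInstanceAs (Nonempty (PrimeSpectrum K))
    exact ⟨fun y => ⟨h2.some, h1.elim _ _⟩⟩

theorem exists_nhd_noeth {S : Scheme.{u}} [IsLocallyNoetherian S] {G H : Over S} [GrpObj G] [GrpObj H] [Smooth G.hom]
    [QuasiCompact G.hom] [QuasiSeparated G.hom] (hconn : ∀ s : S, _root_.IsConnected (G.hom.base ⁻¹' {s}))
    (u v : G ⟶ H) [IsMonHom u] [IsMonHom v] {K : Type u} [Field K]
    (y : Spec (CommRingCat.of K) ⟶ S) (hQ : ConjDense (Red.bc y G))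
    (hE : Eqz u v (Over.mk y)) (hc : Cen u (Over.mk y)) :
    ∃ U : S.Opens, y (IsLocalRing.closedPoint K) ∈ U ∧ Eqz u v (Over.mk U.ι) := by
  obtain ⟨t, ht, ht'⟩ := exists_residue y
  have hE' := eqz_of_surjective t hE
  have hc' := Cen.of_surjective t hc
  let e : S ⟶ G.left := Groth.Agent.Sga3.H778.NeutralPts.unitSec G
  have he : e ≫ G.hom = 𝟙 S := Groth.Agent.Sga3.H778.NeutralPts.unitSec_hom G
  have he' : ∀ s, G.hom (e s) = s := fun s => by
    rw [← Scheme.Hom.comp_apply, he]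
    rfl
  obtain ⟨O, hO, hOe⟩ := K21.UrzRigid.exists_open_noeth u v (e (y (IsLocalRing.closedPoint K))) _ (he' _) y rfl hQ hE' hc'
  refine ⟨e ⁻¹ᵁ O, hO, ?_⟩
  let U := e ⁻¹ᵁ O
  rw [eqz_mk_iff]
  have hG1 : Smooth (Red.bc U.ι G).hom := inferInstanceAs (Smooth (pullback.snd _ _))
  refine K21.UrzRigid.eq_of_open (fun s => Groth.Agent.Sga3.H819.CentKer.isConnected_bc U.ι G hconn s) _ _
    ((pullback.fst G.hom U.ι) ⁻¹ᵁ O) (fun s => ?_) ?_
  · refine ⟨Groth.Agent.Sga3.H778.NeutralPts.unitSec (Red.bc U.ι G) s, ?_,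
      Groth.Agent.Sga3.H778.NeutralPts.hom_unitSec _ s⟩
    change pullback.fst G.hom U.ι (Groth.Agent.Sga3.H778.NeutralPts.unitSec (Red.bc U.ι G) s) ∈ O
    rw [← Scheme.Hom.comp_apply, Groth.Agent.Sga3.H806.ApproxConn.unit_bc, Scheme.Hom.comp_apply]
    exact s.2
  · let W : (Red.bc U.ι G).left.Opens := (pullback.fst G.hom U.ι) ⁻¹ᵁ O
    let f : (W : Scheme.{u}) ⟶ (O : Scheme.{u}) := IsOpenImmersion.lift O.ι (W.ι ≫ pullback.fst G.hom U.ι) (by
      rw [Scheme.Opens.range_ι]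
      rintro _ ⟨z, rfl⟩
      exact z.2)
    have hf : f ≫ O.ι = W.ι ≫ pullback.fst G.hom U.ι := IsOpenImmersion.lift_fac _ _ _
    let X' : Over (U : Scheme.{u}) := Over.mk (W.ι ≫ (Red.bc U.ι G).hom)
    let w : X' ⟶ Red.bc U.ι G := Over.homMk W.ι rfl
    have h1 : w ≫ (Over.pullback U.ι).map u = w ≫ (Over.pullback U.ι).map v := by
      apply (bcEquiv U.ι X' H).symm.injective
      rw [bcEquiv_symm_comp, bcEquiv_symm_comp]
      ext1
      rw [Over.comp_left, Over.comp_left, Groth.Agent.Sga3.H806.LawCmp.bcEquiv_symm_left]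
      change (W.ι ≫ pullback.fst G.hom U.ι) ≫ u.left = (W.ι ≫ pullback.fst G.hom U.ι) ≫ v.left
      rw [← hf, Category.assoc, Category.assoc, hOe]
    exact congrArg (fun f => Over.Hom.left f) h1

/-- **Families**, over a noetherian parameter ring. -/
theorem exists_nhd_fam {A W : Type u} [CommRing A] [CommRing W] [IsNoetherianRing W] [Algebra A W]
    {Z G : Over (Spec (CommRingCat.of A))} [GrpObj Z] [GrpObj G] [Smooth Z.hom] [QuasiCompact Z.hom]
    [QuasiSeparated Z.hom] (hconn : ∀ s, _root_.IsConnected (Z.hom.base ⁻¹' {s}))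
    (χ χ' : Z ⊗ sp A W ⟶ G) (h : AutFam.IsHomFamily Z G χ) (h' : AutFam.IsHomFamily Z G χ') {K : Type u} [Field K]
    (y : Spec (CommRingCat.of K) ⟶ Spec (CommRingCat.of W))
    (hQ : ConjDense (Red.bc y (Red.bc (sp A W).hom Z)))
    (hE : AgrAt χ χ' (Over.homMk y rfl : Over.mk (y ≫ (sp A W).hom) ⟶ sp A W))
    (hc : CenAt χ (Over.homMk y rfl : Over.mk (y ≫ (sp A W).hom) ⟶ sp A W)) :
    ∃ U : (Spec (CommRingCat.of W)).Opens, y (IsLocalRing.closedPoint K) ∈ U ∧
      AgrAt χ χ' (Over.homMk U.ι rfl : Over.mk (U.ι ≫ (sp A W).hom) ⟶ sp A W) := by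
  let q : Spec (CommRingCat.of W) ⟶ Spec (CommRingCat.of A) := (sp A W).hom
  have h1 : IsMonHom (unfam χ) := isMonHom_unfam h
  have h2 : IsMonHom (unfam χ') := isMonHom_unfam h'
  rw [← eqz_unfam_iff] at hE
  rw [← cen_unfam_iff] at hc
  have hG1 : Smooth (Red.bc q Z).hom := inferInstanceAs (Smooth (pullback.snd _ _))
  have hG2 : QuasiCompact (Red.bc q Z).hom := inferInstanceAs (QuasiCompact (pullback.snd _ _))
  have hG3 : QuasiSeparated (Red.bc q Z).hom := inferInstanceAs (QuasiSeparated (pullback.snd _ _))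
  obtain ⟨U, hU, hU'⟩ := exists_nhd_noeth (G := Red.bc q Z) (H := Red.bc q G)
    (fun s => Groth.Agent.Sga3.H819.CentKer.isConnected_bc q Z hconn s) (unfam χ) (unfam χ') y hQ hE hc
  refine ⟨U, hU, ?_⟩
  rw [← eqz_unfam_iff]
  exact hU'

/-- **Approximation** of a pair of group schemes. -/
theorem exists_noetherian_pair {R : Type u} [CommRing R] (G H : Over (Spec (CommRingCat.of R))) [GrpObj G] [GrpObj H]
    [Smooth G.hom] [QuasiCompact G.hom] [QuasiSeparated G.hom] (hconn : ∀ s, _root_.IsConnected (G.hom ⁻¹' {s}))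
    [LocallyOfFinitePresentation H.hom] [QuasiCompact H.hom] [QuasiSeparated H.hom] :
    ∃ (R₀ : Subalgebra ℤ R) (G₀ H₀ : Over (Spec (CommRingCat.of R₀))) (_ : GrpObj G₀) (_ : GrpObj H₀), R₀.FG ∧
      Smooth G₀.hom ∧ QuasiCompact G₀.hom ∧ QuasiSeparated G₀.hom ∧ (∀ s, _root_.IsConnected (G₀.hom ⁻¹' {s})) ∧
      LocallyOfFinitePresentation H₀.hom ∧ QuasiCompact H₀.hom ∧ QuasiSeparated H₀.hom ∧
      Nonempty (Grp.mk (Red.bc (Spec.map (CommRingCat.ofHom R₀.val.toRingHom)) G₀) ≅ Grp.mk G) ∧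
      Nonempty (Grp.mk (Red.bc (Spec.map (CommRingCat.ofHom R₀.val.toRingHom)) H₀) ≅ Grp.mk H) := by
  obtain ⟨R₁, G₁, _, hR₁, hG₁, hG₂, hG₃, hG₄, ⟨e₁⟩⟩ := Sga3.H806.ApproxConn.exists_noetherian_conn G hconn
  obtain ⟨R₂, H₂, _, hR₂, hH₁, hH₂, hH₃, ⟨e₂⟩⟩ := Sga3.H806.ApproxProp.exists_noetherian H
  let R₀ : Subalgebra ℤ R := R₁ ⊔ R₂
  let a₁ : R₁ →ₐ[ℤ] R₀ := Subalgebra.inclusion le_sup_left
  let a₂ : R₂ →ₐ[ℤ] R₀ := Subalgebra.inclusion le_sup_right
  let q₁ : Spec (CommRingCat.of R₀) ⟶ Spec (CommRingCat.of R₁) := Spec.map (CommRingCat.ofHom a₁.toRingHom)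
  let q₂ : Spec (CommRingCat.of R₀) ⟶ Spec (CommRingCat.of R₂) := Spec.map (CommRingCat.ofHom a₂.toRingHom)
  have h1 : Spec.map (CommRingCat.ofHom R₀.val.toRingHom) ≫ q₁ = Spec.map (CommRingCat.ofHom R₁.val.toRingHom) := by
    rw [← Spec.map_comp]
    rfl
  have h2 : Spec.map (CommRingCat.ofHom R₀.val.toRingHom) ≫ q₂ = Spec.map (CommRingCat.ofHom R₂.val.toRingHom) := by
    rw [← Spec.map_comp]
    rfl
  refine ⟨R₀, Red.bc q₁ G₁, Red.bc q₂ H₂, inferInstance, inferInstance, hR₁.sup hR₂,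
    inferInstanceAs (Smooth (pullback.snd _ _)), inferInstanceAs (QuasiCompact (pullback.snd _ _)),
    inferInstanceAs (QuasiSeparated (pullback.snd _ _)), Groth.Agent.Sga3.H819.CentKer.isConnected_bc q₁ G₁ hG₄,
    inferInstanceAs (LocallyOfFinitePresentation (pullback.snd _ _)), inferInstanceAs (QuasiCompact (pullback.snd _ _)),
    inferInstanceAs (QuasiSeparated (pullback.snd _ _)), ⟨?_⟩, ⟨?_⟩⟩
  · exact (BcIso.bcCompIso _ q₁ G₁).symm ≪≫ BcIso.bcCongrIso h1 G₁ ≪≫ e₁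
  · exact (BcIso.bcCompIso _ q₂ H₂).symm ≪≫ BcIso.bcCongrIso h2 H₂ ≪≫ e₂

/-- **Groups of finite presentation** over an affine base. -/
theorem exists_nhd_fp {R : Type u} [CommRing R] {G H : Over (Spec (CommRingCat.of R))} [GrpObj G] [GrpObj H]
    [Smooth G.hom] [QuasiCompact G.hom] [QuasiSeparated G.hom] (hconn : ∀ s, _root_.IsConnected (G.hom.base ⁻¹' {s}))
    [LocallyOfFinitePresentation H.hom] [QuasiCompact H.hom] [QuasiSeparated H.hom]
    (u v : G ⟶ H) [IsMonHom u] [IsMonHom v] {K : Type u} [Field K]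
    (y : Spec (CommRingCat.of K) ⟶ Spec (CommRingCat.of R)) (hQ : ConjDense (Red.bc y G))
    (hE : Eqz u v (Over.mk y)) (hc : Cen u (Over.mk y)) :
    ∃ U : (Spec (CommRingCat.of R)).Opens, y (IsLocalRing.closedPoint K) ∈ U ∧ Eqz u v (Over.mk U.ι) := by
  obtain ⟨R₀, Z, G₀, _, _, hR₀, hZ1, hZ2, hZ3, hZ4, hG1, hG2, hG3, ⟨e⟩, ⟨e'⟩⟩ := exists_noetherian_pair G H hconn
  let q₀ : Spec (CommRingCat.of R) ⟶ Spec (CommRingCat.of R₀) := Spec.map (CommRingCat.ofHom R₀.val.toRingHom)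
  let d : Red.bc q₀ Z ⟶ G := e.hom.hom.hom
  let ε : H ⟶ Red.bc q₀ G₀ := e'.inv.hom.hom
  have hd : IsMonHom d := inferInstance
  have hd' : IsIso d := inferInstanceAs (IsIso ((Grp.forget _).map e.hom))
  have hε : IsMonHom ε := inferInstance
  have hε' : IsIso ε := inferInstanceAs (IsIso ((Grp.forget _).map e'.inv))
  let φ : Red.bc q₀ Z ⟶ Red.bc q₀ G₀ := d ≫ u ≫ ε
  let ψ : Red.bc q₀ Z ⟶ Red.bc q₀ G₀ := d ≫ v ≫ ε
  have hφ : IsMonHom φ := inferInstance
  have hψ : IsMonHom ψ := inferInstance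
  let χ : Z ⊗ sp R₀ R ⟶ G₀ := fam φ
  let χ' : Z ⊗ sp R₀ R ⟶ G₀ := fam ψ
  have hχ : AutFam.IsHomFamily Z G₀ χ := isHomFamily_fam φ
  have hχ' : AutFam.IsHomFamily Z G₀ χ' := isHomFamily_fam ψ
  obtain ⟨W₁, _, _, b₁, ω₁, hW₁, hω₁, e₁⟩ := exists_finitePresentation χ hχ
  obtain ⟨W₂, _, _, b₂, ω₂, hW₂, hω₂, e₂⟩ := exists_finitePresentation χ' hχ'
  let W := W₁ ⊗[R₀] W₂
  have hW : IsNoetherianRing W := by
    have h1 : Algebra.FiniteType ℤ R₀ := R₀.fg_iff_finiteType.mp hR₀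
    have h2 : IsNoetherianRing R₀ := Algebra.FiniteType.isNoetherianRing ℤ R₀
    have h3 : Algebra.FiniteType W₁ W := Algebra.FiniteType.baseChange W₁
    have h4 : Algebra.FiniteType R₀ W := Algebra.FiniteType.trans (S := W₁) inferInstance h3
    exact Algebra.FiniteType.isNoetherianRing R₀ W
  let b : W →ₐ[R₀] R := Algebra.TensorProduct.lift b₁ b₂ (fun _ _ => Commute.all _ _)
  let ω : Z ⊗ sp R₀ W ⟶ G₀ := Z ◁ spMap (Algebra.TensorProduct.includeLeft : W₁ →ₐ[R₀] W) ≫ ω₁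
  let ω' : Z ⊗ sp R₀ W ⟶ G₀ := Z ◁ spMap (Algebra.TensorProduct.includeRight : W₂ →ₐ[R₀] W) ≫ ω₂
  have hω : AutFam.IsHomFamily Z G₀ ω := isHomFamily_whisker _ hω₁ _
  have hω' : AutFam.IsHomFamily Z G₀ ω' := isHomFamily_whisker _ hω₂ _
  have he : Z ◁ spMap b ≫ ω = χ := by
    change Z ◁ spMap b ≫ Z ◁ spMap _ ≫ ω₁ = χ
    rw [← whiskerLeft_comp_assoc, spMap_comp, Algebra.TensorProduct.lift_comp_includeLeft, e₁]
  have he' : Z ◁ spMap b ≫ ω' = χ' := by
    change Z ◁ spMap b ≫ Z ◁ spMap _ ≫ ω₂ = χ'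
    have h1 : b.comp Algebra.TensorProduct.includeRight = b₂ := by
      refine AlgHom.ext fun w => ?_
      exact (Algebra.TensorProduct.lift_tmul b₁ b₂ (fun _ _ => Commute.all _ _) 1 w).trans
        (by rw [map_one, _root_.one_mul])
    rw [← whiskerLeft_comp_assoc, spMap_comp, h1, e₂]
  -- agreement and centrality at the point
  let β : Spec (CommRingCat.of R) ⟶ Spec (CommRingCat.of W) := (spMap b).left
  have hβ : β ≫ (sp R₀ W).hom = q₀ := Over.w (spMap b)
  let y' : Spec (CommRingCat.of K) ⟶ Spec (CommRingCat.of W) := y ≫ β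
  let tp : Over.mk (y ≫ (sp R₀ R).hom) ⟶ sp R₀ R := Over.homMk y rfl
  let tP : Over.mk (y' ≫ (sp R₀ W).hom) ⟶ sp R₀ W := Over.homMk y' rfl
  let s : Over.mk (y' ≫ (sp R₀ W).hom) ⟶ Over.mk (y ≫ (sp R₀ R).hom) := Over.homMk (𝟙 _) (by
    change 𝟙 _ ≫ y ≫ q₀ = (y ≫ β) ≫ (sp R₀ W).hom
    rw [Category.id_comp, Category.assoc, hβ])
  have hs : tP = s ≫ tp ≫ spMap b := by
    ext1
    exact (Category.id_comp _).symm
  have hE1 : AgrAt χ χ' tp := by
    rw [← eqz_unfam_iff]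
    change Eqz (unfam (T := Over.mk q₀) (fam φ)) (unfam (T := Over.mk q₀) (fam ψ)) (Over.mk tp.left)
    rw [unfam_fam, unfam_fam]
    exact hE.conj d ε
  have hc1 : CenAt χ tp := by
    rw [← cen_unfam_iff]
    change Cen (G := Red.bc q₀ G₀) (unfam (T := Over.mk q₀) (fam φ)) (Over.mk tp.left)
    rw [unfam_fam]
    exact Cen.pre (Cen.post hc ε) d
  rw [← he, ← he', agrAt_whisker] at hE1
  rw [← he, cenAt_whisker] at hc1
  have hE2 : AgrAt ω ω' tP := by
    rw [hs]
    exact AgrAt.comp hE1 s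
  have hc2 : CenAt ω tP := by
    rw [hs]
    exact CenAt.comp hc1 s
  have hQ' : ConjDense (Red.bc y' (Red.bc (sp R₀ W).hom Z)) := by
    refine ConjDense.of_iso ?_ hQ
    exact BcIso.bcMapIso y (e.symm ≪≫ BcIso.bcCongrIso hβ.symm Z ≪≫ BcIso.bcCompIso β (sp R₀ W).hom Z) ≪≫
      (BcIso.bcCompIso y β (Red.bc (sp R₀ W).hom Z)).symm
  obtain ⟨U, hU, hUU⟩ := exists_nhd_fam hZ4 ω ω' hω hω' y' hQ' hE2 hc2
  refine ⟨β ⁻¹ᵁ U, hU, ?_⟩
  let V : (Spec (CommRingCat.of R)).Opens := β ⁻¹ᵁ U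
  let tf : Over.mk (U.ι ≫ (sp R₀ W).hom) ⟶ sp R₀ W := Over.homMk U.ι rfl
  let tb : Over.mk (V.ι ≫ (sp R₀ R).hom) ⟶ sp R₀ R := Over.homMk V.ι rfl
  let gam : (V : Scheme.{u}) ⟶ (U : Scheme.{u}) := IsOpenImmersion.lift U.ι (V.ι ≫ β) (by
    rw [Scheme.Opens.range_ι]
    rintro _ ⟨z, rfl⟩
    exact z.2)
  have hγ : gam ≫ U.ι = V.ι ≫ β := IsOpenImmersion.lift_fac _ _ _
  let r : Over.mk (V.ι ≫ (sp R₀ R).hom) ⟶ Over.mk (U.ι ≫ (sp R₀ W).hom) := Over.homMk gam (by
    change gam ≫ U.ι ≫ (sp R₀ W).hom = V.ι ≫ q₀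
    rw [← Category.assoc, hγ, Category.assoc, hβ])
  have hr : r ≫ tf = tb ≫ spMap b := by
    ext1
    exact hγ
  have h1 : AgrAt χ χ' tb := by
    rw [← he, ← he', agrAt_whisker, ← hr]
    exact AgrAt.comp hUU r
  rw [← eqz_unfam_iff] at h1
  change Eqz (unfam (T := Over.mk q₀) (fam φ)) (unfam (T := Over.mk q₀) (fam ψ)) (Over.mk tb.left) at h1
  rw [unfam_fam, unfam_fam] at h1
  exact Eqz.of_conj (asIso d).symm (asIso ε) h1

/-- **Central homomorphisms near a point.** -/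
theorem exists_nhd {S : Scheme.{u}} {G H : Over S} [GrpObj G] [GrpObj H] [Smooth G.hom] [QuasiCompact G.hom]
    [QuasiSeparated G.hom] (hconn : ∀ s, _root_.IsConnected (G.hom.base ⁻¹' {s}))
    (hH : (LocallyOfFinitePresentation H.hom ∧ QuasiCompact H.hom ∧ QuasiSeparated H.hom) ∨ IsLocallyNoetherian S)
    (u v : G ⟶ H) [IsMonHom u] [IsMonHom v] {K : Type u} [Field K]
    (y : Spec (CommRingCat.of K) ⟶ S) (hQ : ConjDense (Red.bc y G))
    (hE : Eqz u v (Over.mk y)) (hc : Cen u (Over.mk y)) :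
    ∃ U : S.Opens, y (IsLocalRing.closedPoint K) ∈ U ∧ Eqz u v (Over.mk U.ι) := by
  obtain ⟨h1, h2, h3⟩ | h := hH
  · obtain ⟨R, j, hj, hy, -⟩ := Scheme.exists_affine_mem_range_and_range_subset
      (x := y (IsLocalRing.closedPoint K)) (U := ⊤) trivial
    have hy' : Set.range y ⊆ Set.range j := by
      rintro _ ⟨z, rfl⟩
      have h4 : Subsingleton (Spec (CommRingCat.of K)) := inferInstanceAs (Subsingleton (PrimeSpectrum K))
      rw [h4.elim z (IsLocalRing.closedPoint K)]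
      exact hy
    let y' : Spec (CommRingCat.of K) ⟶ Spec (CommRingCat.of R) := IsOpenImmersion.lift j y hy'
    have hyj : y' ≫ j = y := IsOpenImmersion.lift_fac _ _ _
    have hG1 : Smooth (Red.bc j G).hom := inferInstanceAs (Smooth (pullback.snd _ _))
    have hG2 : QuasiCompact (Red.bc j G).hom := inferInstanceAs (QuasiCompact (pullback.snd _ _))
    have hG3 : QuasiSeparated (Red.bc j G).hom := inferInstanceAs (QuasiSeparated (pullback.snd _ _))
    have hH1 : LocallyOfFinitePresentation (Red.bc j H).hom :=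
      inferInstanceAs (LocallyOfFinitePresentation (pullback.snd _ _))
    have hH2 : QuasiCompact (Red.bc j H).hom := inferInstanceAs (QuasiCompact (pullback.snd _ _))
    have hH3 : QuasiSeparated (Red.bc j H).hom := inferInstanceAs (QuasiSeparated (pullback.snd _ _))
    have hQ' : ConjDense (Red.bc y' (Red.bc j G)) :=
      ConjDense.of_iso (BcIso.bcCongrIso hyj.symm G ≪≫ BcIso.bcCompIso y' j G) hQ
    let t : (Over.map j).obj (Over.mk y') ⟶ Over.mk y := Over.homMk (𝟙 _) (by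
      change 𝟙 _ ≫ y = y' ≫ j
      rw [hyj, Category.id_comp])
    obtain ⟨U, hU, hUU⟩ := exists_nhd_fp (R := R)
      (fun s => Groth.Agent.Sga3.H819.CentKer.isConnected_bc j G hconn s)
      ((Over.pullback j).map u) ((Over.pullback j).map v) y' hQ' (Eqz.map _ (hE.comp t)) (Cen.map _ (hc.comp t))
    refine ⟨j ''ᵁ U, ⟨_, hU, ?_⟩, ?_⟩
    · exact (Scheme.Hom.comp_apply y' j (IsLocalRing.closedPoint K)).symm.trans (by rw [hyj])
    · have h4 : Eqz u v (Over.mk (U.ι ≫ j)) :=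
        Eqz.of_map j (Over.homMk (V := Over.mk j) (U := Over.mk (U.ι ≫ j)) U.ι rfl) hUU
      have h5 : Set.range (j ''ᵁ U).ι ⊆ Set.range (U.ι ≫ j) := by
        rw [Scheme.Opens.range_ι]
        rintro _ ⟨z, hz, rfl⟩
        exact ⟨⟨z, hz⟩, rfl⟩
      let r : Over.mk (j ''ᵁ U).ι ⟶ Over.mk (U.ι ≫ j) :=
        Over.homMk (IsOpenImmersion.lift (U.ι ≫ j) (j ''ᵁ U).ι h5) (IsOpenImmersion.lift_fac _ _ _)
      exact h4.comp r
  · exact exists_nhd_noeth hconn u v y hQ hE hc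

/-- The geometric fibre. -/
theorem conjDense_geomFibre {S : Scheme.{u}} {G : Over S} [GrpObj G] [Smooth G.hom]
    (hconn : ∀ s, _root_.IsConnected (G.hom.base ⁻¹' {s})) (s : S)
    (haff : IsAffine (pullback G.hom (S.fromSpecResidueField s)))
    (hu0 : ∀ (T : Over (Spec (CommRingCat.of (AlgebraicClosure (S.residueField s))))) [GrpObj T]
      (i : T ⟶ Red.geomFibre s G), Red.IsMaximalTorus i → Red.IsCentralizerOf i i) :
    ConjDense (Red.geomFibre s G) := by
  intro T _ i hi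
  have h1 : IsMonHom i := hi.1
  have h2 : Mono i := hi.2.1
  have h3 : SelfC i := fun X g hg => ((hu0 T i hi).2.2 X g).mpr hg
  have h4 : Smooth (Red.geomFibre s G).hom := inferInstanceAs (Smooth (pullback.snd G.hom (Red.geomPt s)))
  have h5 : ConnectedSpace (Red.geomFibre s G).left := by
    have h6 := Groth.Agent.Sga3.H819.CentKer.isConnected_bc (Red.geomPt s) G hconn (IsLocalRing.closedPoint _)
    have h7 : Subsingleton (Spec (CommRingCat.of (AlgebraicClosure (S.residueField s)))) :=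
      inferInstanceAs (Subsingleton (PrimeSpectrum (AlgebraicClosure (S.residueField s))))
    refine connectedSpace_iff_univ.mpr ?_
    convert h6
    exact (Set.eq_univ_of_forall fun z => h7.elim _ _).symm
  have h6 : IsAffine (Red.geomFibre s G).left := by
    let a : Spec (CommRingCat.of (AlgebraicClosure (S.residueField s))) ⟶ Spec (S.residueField s) :=
      Spec.map (CommRingCat.ofHom (algebraMap (S.residueField s) (AlgebraicClosure (S.residueField s))))
    have h7 : IsAffine (Red.bc (S.fromSpecResidueField s) G).left := haff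
    have h8 : IsAffine (Red.bc a (Red.bc (S.fromSpecResidueField s) G)).left :=
      inferInstanceAs (IsAffine (pullback (Red.bc (S.fromSpecResidueField s) G).hom a))
    let e : Red.geomFibre s G ≅ Red.bc a (Red.bc (S.fromSpecResidueField s) G) :=
      (Grp.forget _).mapIso (BcIso.bcCompIso a (S.fromSpecResidueField s) G)
    have h9 : IsIso e.hom.left := inferInstanceAs (IsIso ((Over.forget _).map e.hom))
    exact IsAffine.of_isIso e.hom.left
  exact dominant_of_isAlgClosed _ i hi.2.2.1 h3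

end K21.UrzNhd
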