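import Groth.Agent.SGA3x.K10.MTLoc
import Groth.Agent.SGA3x.K21.DSIso
import Groth.Agent.Sga3B.BorLoc613
import Mathlib.AlgebraicGeometry.AlgClosed.Basic

/-!
# The type of a group of multiplicative type and of finite type at a point

`Ty T N s` : étale-locally near `s`, the group `T` is `D(N)`.
-/

set_option autoImplicit false
universe u
open CategoryTheory MonoidalCategory CartesianMonoidalCategory MonObj GrpObj AlgebraicGeometry Limits

namespace K21.MTType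

open Groth.Agent Groth.Agent.Sga3B Groth.Agent.Sga3B.DSPts

variable {S : Scheme.{u}}

/-- Geometric points lift through étale maps. -/
theorem exists_lift_geom {V : Scheme.{u}} (v : V ⟶ S) [Etale v] {Ω : Type u} [Field Ω] [IsAlgClosed Ω]
    (x : Spec (CommRingCat.of Ω) ⟶ S) (t : Spec (CommRingCat.of Ω)) (h : x t ∈ Set.range v) :
    ∃ g : Spec (CommRingCat.of Ω) ⟶ V, g ≫ v = x := by
  obtain ⟨y, hy⟩ := h
  obtain ⟨p₀, -⟩ := Scheme.Pullback.exists_preimage_pullback (f := v) (g := x) y t hy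
  have : JacobsonSpace ↥(pullback v x) := LocallyOfFiniteType.jacobsonSpace (pullback.snd v x)
  have hne : (closedPoints ↥(pullback v x)).Nonempty := by
    have h1 := JacobsonSpace.closure_inter_closedPoints_eq_closure (X := ↥(pullback v x)) (S := Set.univ)
      isOpen_univ.isLocallyClosed
    rw [Set.univ_inter, closure_univ] at h1
    by_contra hc
    rw [Set.not_nonempty_iff_eq_empty] at hc
    rw [hc, closure_empty] at h1
    have h2 : p₀ ∈ (∅ : Set ↥(pullback v x)) := h1 ▸ Set.mem_univ _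
    exact h2
  obtain ⟨p, hp⟩ := hne
  refine ⟨pointOfClosedPoint (pullback.snd v x) p hp ≫ pullback.fst v x, ?_⟩
  rw [Category.assoc, pullback.condition, pointOfClosedPoint_comp_assoc]

/-- `T` is `D(N)` étale-locally near `s`. -/
def Ty (T : Over S) [GrpObj T] (N : Type) [AddCommGroup N] (s : S) : Prop :=
  ∃ (V : Scheme.{u}) (v : V ⟶ S), Etale v ∧ s ∈ Set.range v ∧ Nonempty (Grp.mk (Red.bc v T) ≅ Grp.mk (Red.DS V N))

variable {T T' : Over S} [GrpObj T] [GrpObj T'] {N N' : Type} [AddCommGroup N] [AddCommGroup N']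

/-- the open set of the points of type `N` -/
def tyOpens (T : Over S) [GrpObj T] (N : Type) [AddCommGroup N] : S.Opens :=
  ⟨{s | Ty T N s}, isOpen_iff_forall_mem_open.2 fun _ ⟨V, v, hv, hs, he⟩ =>
    ⟨Set.range v, fun _ h => ⟨V, v, hv, h, he⟩, v.isOpenMap.isOpen_range, hs⟩⟩

lemma mem_tyOpens {s : S} : s ∈ tyOpens T N ↔ Ty T N s := Iff.rfl

lemma Ty.iso {s : S} (h : Ty T N s) (e : Grp.mk T ≅ Grp.mk T') : Ty T' N s := by
  obtain ⟨V, v, hv, hs, ⟨i⟩⟩ := h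
  exact ⟨V, v, hv, hs, ⟨(BcIso.bcMapIso v e).symm ≪≫ i⟩⟩

lemma Ty.congr {s : S} (h : Ty T N s) (e : N ≃+ N') : Ty T N' s := by
  obtain ⟨V, v, hv, hs, ⟨i⟩⟩ := h
  obtain ⟨j, -⟩ := DSIso.exists_iso (S := V) e
  exact ⟨V, v, hv, hs, ⟨i ≪≫ j.symm⟩⟩

lemma Ty.bc {S' : Scheme.{u}} (f : S' ⟶ S) {s' : S'} (h : Ty T N (f s')) : Ty (Red.bc f T) N s' := by
  obtain ⟨V, v, hv, ⟨y, hy⟩, ⟨i⟩⟩ := h
  obtain ⟨z, -, hz⟩ := Scheme.Pullback.exists_preimage_pullback (f := v) (g := f) y s' hy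
  refine ⟨pullback v f, pullback.snd v f, inferInstance, ⟨z, hz⟩, ⟨?_⟩⟩
  exact (BcIso.bcCompIso (pullback.snd v f) f T).symm ≪≫ BcIso.bcCongrIso pullback.condition.symm T ≪≫
    BcIso.bcCompIso (pullback.fst v f) v T ≪≫ BcIso.bcMapIso (pullback.fst v f) i ≪≫
    TorusAlgClosed.dsBcIso (pullback.fst v f) N

lemma Ty.of_bc_open {S' : Scheme.{u}} (f : S' ⟶ S) [Etale f] {s' : S'} (h : Ty (Red.bc f T) N s') : Ty T N (f s') := by
  obtain ⟨V, v, hv, ⟨y, hy⟩, ⟨i⟩⟩ := h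
  exact ⟨V, v ≫ f, inferInstance, ⟨y, by rw [Scheme.Hom.comp_apply, hy]⟩, ⟨BcIso.bcCompIso v f T ≪≫ i⟩⟩

/-- the geometric fibres -/
lemma Ty.geom {s : S} (h : Ty T N s) {Ω : Type u} [Field Ω] [IsAlgClosed Ω] (x : Spec (CommRingCat.of Ω) ⟶ S)
    (t : Spec (CommRingCat.of Ω)) (hx : x t = s) :
    Nonempty (Grp.mk (Red.bc x T) ≅ Grp.mk (Red.DS (Spec (CommRingCat.of Ω)) N)) := by
  obtain ⟨V, v, hv, hs, ⟨i⟩⟩ := h
  obtain ⟨g, rfl⟩ := exists_lift_geom v x t (by rw [hx]; exact hs)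
  exact ⟨BcIso.bcCompIso g v T ≪≫ BcIso.bcMapIso g i ≪≫ TorusAlgClosed.dsBcIso g N⟩

lemma exists_equiv_of_iso {X : Scheme.{u}} (x : X) [Module.Finite ℤ N] [Module.Finite ℤ N']
    (e : Grp.mk (Red.DS X N) ≅ Grp.mk (Red.DS X N')) : Nonempty (N ≃+ N') := by
  obtain ⟨-, -, ε, -⟩ := BorLoc613.exists_near_iso e x
  exact ⟨ε.symm⟩

lemma exists_ty (hT : SGA3x.IsMultTypeFT T) (s : S) :
    ∃ (N : Type) (_ : AddCommGroup N), Module.Finite ℤ N ∧ Ty T N s := by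
  obtain ⟨B, _, v, N, _, hv, hs, hN, he⟩ := K10.MTLoc.exists_etale_split hT s
  exact ⟨N, inferInstance, Module.Finite.iff_addGroup_fg.mpr hN, _, v, hv, hs, he⟩

lemma geomPt_apply (s : S) (t : Spec (CommRingCat.of (AlgebraicClosure (S.residueField s)))) : Red.geomPt s t = s := by
  change (Spec.map _ ≫ S.fromSpecResidueField s) t = s
  rw [Scheme.Hom.comp_apply]
  have h1 := Set.mem_range_self (f := S.fromSpecResidueField s) (Spec.map (CommRingCat.ofHom (algebraMap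
    (S.residueField s) (AlgebraicClosure (S.residueField s)))) t)
  rw [Scheme.range_fromSpecResidueField] at h1
  exact h1

/-- uniqueness of the type -/
lemma Ty.unique {s : S} (h : Ty T N s) (h' : Ty T N' s) [Module.Finite ℤ N] [Module.Finite ℤ N'] : Nonempty (N ≃+ N') := by
  let t : Spec (CommRingCat.of (AlgebraicClosure (S.residueField s))) := default
  obtain ⟨e⟩ := h.geom (Red.geomPt s) t (geomPt_apply s t)
  obtain ⟨e'⟩ := h'.geom (Red.geomPt s) t (geomPt_apply s t)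
  exact exists_equiv_of_iso t (e.symm ≪≫ e')

/-- the type is determined by a geometric fibre. -/
lemma ty_of_geom (hT : SGA3x.IsMultTypeFT T) [Module.Finite ℤ N] {Ω : Type u} [Field Ω] [IsAlgClosed Ω]
    (x : Spec (CommRingCat.of Ω) ⟶ S) (t : Spec (CommRingCat.of Ω)) {s : S} (hx : x t = s)
    (e : Nonempty (Grp.mk (Red.bc x T) ≅ Grp.mk (Red.DS (Spec (CommRingCat.of Ω)) N))) : Ty T N s := by
  obtain ⟨N₁, _, hN₁, h₁⟩ := exists_ty hT s
  obtain ⟨e₁⟩ := h₁.geom x t hx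
  obtain ⟨e⟩ := e
  obtain ⟨ε⟩ := exists_equiv_of_iso t (e₁.symm ≪≫ e)
  exact h₁.congr ε

lemma ty_bc_iff {S' : Scheme.{u}} (f : S' ⟶ S) (hT : SGA3x.IsMultTypeFT T) [Module.Finite ℤ N] {s' : S'} :
    Ty (Red.bc f T) N s' ↔ Ty T N (f s') := by
  refine ⟨fun h => ?_, Ty.bc f⟩
  obtain ⟨N₁, _, hN₁, h₁⟩ := exists_ty hT (f s')
  obtain ⟨ε⟩ := (h₁.bc f).unique h
  exact h₁.congr ε

end K21.MTType
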