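import Groth.Agent.S0537
import Groth.Agent.S0540
import Groth.Agent.S9407
import Groth.Agent.Proet.FacInd
import Groth.Agent.Proet.IndEtale
import Groth.Agent.Pi1C.IndEtaleWE
import Groth.Agent.CalgC.IndEtale
import Groth.Agent.Hensel.HenselPerm
import Mathlib.RingTheory.Etale.StandardEtale
import Mathlib.RingTheory.Flat.FaithfullyFlat.Basic

/-!
# Strict localizations of a Noetherian ring, and étale neighbourhoods

* `exists_sh`: the strict henselization of a Noetherian ring at a prime: Noetherian, flat, ind-étale
  and reduced if the ring is.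
* `exists_shrink`: an étale algebra `W` over `A` with a map to a flat Noetherian local algebra `R`
  can be shrunk so that all its minimal primes come from `R`.
-/

set_option autoImplicit false
universe u

open IsLocalRing TensorProduct

namespace K21.ShNhd

open Groth.Agent.Proet.FacM Groth.Agent.Proet.FacInd
open Groth.Agent

/-- A reduced ring has reduced ind-étale algebras. -/
theorem isReduced_of_isIndEtale {A B : Type u} [CommRing A] [CommRing B] [Algebra A B]
    [IsReduced A] (h : EtPBC.IsIndEtale A B) : IsReduced B := by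
  have key : ∀ b : B, b ^ 2 = 0 → b = 0 := by
    intro b hb
    let Z : Type u := Polynomial A ⧸ Ideal.span {(Polynomial.X ^ 2 : Polynomial A)}
    have hZ : Algebra.FinitePresentation A Z :=
      Algebra.FinitePresentation.quotient ⟨{Polynomial.X ^ 2}, by simp⟩
    let g : Z →ₐ[A] B := Ideal.Quotient.liftₐ _ (Polynomial.aeval b) (by
      intro a ha
      rw [Ideal.mem_span_singleton] at ha
      obtain ⟨c, rfl⟩ := ha
      rw [map_mul, map_pow, Polynomial.aeval_X, hb, zero_mul])
    obtain ⟨W, _, _, u, v, hW, huv⟩ :=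
      (Proet.IndEtale.isIndEtale_iff_factor A B).1 h Z hZ g
    have hred : IsReduced W := S9407.result A W
    let z : Z := Ideal.Quotient.mk _ Polynomial.X
    have hz : z ^ 2 = 0 := by
      rw [← map_pow]
      exact Ideal.Quotient.eq_zero_iff_mem.2 (Ideal.mem_span_singleton_self _)
    have h1 : u z = 0 := by
      have h2 : (u z) ^ 2 = 0 := by rw [← map_pow, hz, map_zero]
      exact pow_eq_zero_iff (two_ne_zero) |>.1 h2
    have h3 : g z = b := by
      change Polynomial.aeval b Polynomial.X = b
      exact Polynomial.aeval_X b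
    rw [← h3, ← huv, AlgHom.comp_apply, h1, map_zero]
  refine ⟨fun b hb => ?_⟩
  obtain ⟨n, hn⟩ := hb
  induction n using Nat.strong_induction_on generalizing b with
  | _ n ih =>
    rcases Nat.lt_or_ge 1 n with h1 | h1
    · -- replace `b ^ n = 0` by a smaller exponent
      obtain ⟨m, hm⟩ : ∃ m, m = (n + 1) / 2 := ⟨_, rfl⟩
      have hlt : m < n := by omega
      have hge : n ≤ m * 2 := by omega
      have h2 : (b ^ m) ^ 2 = 0 := by
        rw [← pow_mul]
        exact pow_eq_zero_of_le hge hn
      exact ih m hlt b (key _ h2)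
    · have h2 : b ^ 1 = 0 := pow_eq_zero_of_le h1 hn
      rwa [pow_one] at h2

/-- An ind-étale algebra is flat. -/
theorem flat_of_isIndEtale {A B : Type u} [CommRing A] [CommRing B] [Algebra A B]
    (h : EtPBC.IsIndEtale A B) : Module.Flat A B := by
  have hlaz : Pi1C.IndEtaleWE.Lazard A B := by
    intro P _ _ _ g
    obtain ⟨W, a, b, u, v, c, h⟩ := (Proet.IndEtale.isIndEtale_iff_factor A B).1 h P inferInstance g
    exact ⟨W, a, b, c, u, v, h⟩
  exact Pi1C.IndEtaleWE.flat_of_lazard hlaz

/-- The strict henselization of a Noetherian ring at a prime. -/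
theorem exists_sh (A : Type u) [CommRing A] [IsNoetherianRing A] (x : PrimeSpectrum A) :
    ∃ (R : Type u) (_ : CommRing R) (_ : IsLocalRing R) (_ : HenselianLocalRing R)
      (_ : IsSepClosed (IsLocalRing.ResidueField R)) (_ : IsNoetherianRing R) (_ : Algebra A R),
      PrimeSpectrum.comap (algebraMap A R) (IsLocalRing.closedPoint R) = x ∧
      Module.Flat A R ∧ Groth.Agent.Proet.FacInd.IsInd A (Et A) R ∧
      (IsReduced A → IsReduced R) := by
  let L : Type u := Localization.AtPrime x.asIdeal
  obtain ⟨R, _, _, _, _, hR⟩ := S0537.result L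
  let _ : Algebra A R := ((algebraMap L R).comp (algebraMap A L)).toAlgebra
  have htow : IsScalarTower A L R := .of_algebraMap_eq fun _ => rfl
  have hhens : HenselianLocalRing R := hR.henselian
  have hsep : IsSepClosed (ResidueField R) := hR.isSepClosure.sep_closed
  have hnoeL : IsNoetherianRing L := IsLocalization.isNoetherianRing x.asIdeal.primeCompl L ‹_›
  have hnoe : IsNoetherianRing R := (S0540.result L R).1 hnoeL
  have h1 : EtPBC.IsIndEtale A L := by
    rw [Proet.IndEtale.isIndEtale_iff_factor]
    intro Z _ _ _ g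
    obtain ⟨E, a, b, c, ψ, χ, h⟩ :=
      CalgC.IndEtale.isIndEtale_of_isLocalization x.asIdeal.primeCompl L Z g
    exact ⟨E, a, b, ψ, χ, c, h⟩
  have h2 : EtPBC.IsIndEtale L R := by
    rw [Proet.IndEtale.isIndEtale_iff_factor]
    intro Z _ _ _ g
    obtain ⟨E, a, b, c, ψ, χ, h⟩ :=
      Hensel.HenselPerm.lazardEtale_of_isStrictHenselization L R Z g
    exact ⟨E, a, b, ψ, χ, c, h⟩
  have h3 : EtPBC.IsIndEtale A R := Proet.IndEtale.isIndEtale_trans A L R h1 h2
  refine ⟨R, inferInstance, inferInstance, hhens, hsep, hnoe, inferInstance, ?_,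
    flat_of_isIndEtale h3, h3, fun _ => isReduced_of_isIndEtale h3⟩
  apply PrimeSpectrum.ext
  change (maximalIdeal R).comap ((algebraMap L R).comp (algebraMap A L)) = x.asIdeal
  rw [← Ideal.comap_comap, ((local_hom_TFAE (algebraMap L R)).out 0 4 :).1 inferInstance]
  exact Localization.AtPrime.under_maximalIdeal

/-- Shrinking an étale algebra so that its minimal primes come from a flat Noetherian local ring. -/
theorem exists_shrink (A : Type u) [CommRing A] [IsNoetherianRing A] (R : Type u) [CommRing R]
    [IsLocalRing R] [IsNoetherianRing R] [Algebra A R] [Module.Flat A R]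
    (W : Type u) [CommRing W] [Algebra A W] [Algebra.Etale A W] (b : W →ₐ[A] R) :
    ∃ (W' : Type u) (_ : CommRing W') (_ : Algebra A W') (_ : Algebra.Etale A W')
      (β : W →ₐ[A] W') (b' : W' →ₐ[A] R), b'.comp β = b ∧
      ∀ P ∈ minimalPrimes W', ∃ Q : Ideal R, Q.IsPrime ∧ Q.comap b' = P := by
  classical
  let _ : Algebra W R := b.toRingHom.toAlgebra
  have htow : IsScalarTower A W R := .of_algebraMap_eq fun a => (b.commutes a).symm
  have hflat : Module.Flat W R := Algebra.FormallyUnramified.flat_of_restrictScalars A W R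
  have hnoeW : IsNoetherianRing W := Algebra.FiniteType.isNoetherianRing A W
  let w : Ideal W := (maximalIdeal R).comap b.toRingHom
  have hw : w.IsPrime := Ideal.comap_isPrime _ _
  have hmem : ∀ s : W, s ∈ w.primeCompl ↔ IsUnit (b s) := by
    intro s
    change s ∉ w ↔ _
    rw [← not_iff_not, not_not]
    change b s ∈ maximalIdeal R ↔ _
    rw [mem_maximalIdeal, mem_nonunits_iff]
  -- the kernel is killed by elements outside `w`
  have hker : ∀ x : W, b x = 0 → ∃ s ∈ w.primeCompl, s * x = 0 := by
    intro x hx
    have h0 : ∑ i : Fin 1, (fun _ => x : Fin 1 → W) i • (fun _ => 1 : Fin 1 → R) i = 0 := by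
      simp only [Finset.univ_unique, Finset.sum_singleton]
      rw [Algebra.smul_def, mul_one]
      exact hx
    obtain ⟨k, a, y, h1, h2⟩ := Module.Flat.isTrivialRelation_of_sum_smul_eq_zero h0
    have h3 : ∃ j, IsUnit (b (a 0 j)) := by
      by_contra hcon
      push Not at hcon
      have h4 : (1 : R) ∈ maximalIdeal R := by
        have h5 : (1 : R) = ∑ j, a 0 j • y j := h1 0
        rw [h5]
        refine Ideal.sum_mem _ fun j _ => ?_
        rw [Algebra.smul_def]
        refine Ideal.mul_mem_right _ _ ?_
        rw [mem_maximalIdeal, mem_nonunits_iff]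
        exact hcon j
      exact (Ideal.ne_top_iff_one _).1 (maximalIdeal.isMaximal R).ne_top h4
    obtain ⟨j, hj⟩ := h3
    refine ⟨a 0 j, (hmem _).2 hj, ?_⟩
    have h6 := h2 j
    simp only [Finset.univ_unique, Finset.sum_singleton] at h6
    rw [mul_comm]
    exact h6
  obtain ⟨f, hf, hfk⟩ : ∃ f ∈ w.primeCompl, ∀ x : W, b x = 0 → f * x = 0 := by
    obtain ⟨t, ht⟩ := (isNoetherianRing_iff_ideal_fg W).1 hnoeW (RingHom.ker b.toRingHom)
    have hts : ∀ x ∈ t, b x = 0 := fun x hx =>
      (RingHom.mem_ker).1 (ht ▸ Ideal.subset_span hx : x ∈ RingHom.ker b.toRingHom)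
    choose s hs hs0 using hker
    refine ⟨∏ x ∈ t.attach, s x.1 (hts x.1 x.2), ?_, ?_⟩
    · exact Submonoid.prod_mem _ fun x _ => hs _ _
    · intro x hx
      have hx' : x ∈ Ideal.span (t : Set W) := by
        rw [show Ideal.span (t : Set W) = RingHom.ker b.toRingHom from ht]
        exact (RingHom.mem_ker).2 hx
      induction hx' using Submodule.span_induction with
      | mem y hy =>
        rw [← Finset.mul_prod_erase _ _ (Finset.mem_attach t ⟨y, hy⟩), mul_right_comm, hs0,
          zero_mul]
      | zero => rw [mul_zero]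
      | add y z hy hz h1 h2 =>
        have hb : ∀ u ∈ Submodule.span W (t : Set W), b u = 0 := fun u hu =>
          (RingHom.mem_ker).1 (ht ▸ hu : u ∈ RingHom.ker b.toRingHom)
        rw [mul_add, h1 (hb y hy), h2 (hb z hz), add_zero]
      | smul c y hy h1 =>
        have hb : ∀ u ∈ Submodule.span W (t : Set W), b u = 0 := fun u hu =>
          (RingHom.mem_ker).1 (ht ▸ hu : u ∈ RingHom.ker b.toRingHom)
        rw [smul_eq_mul, mul_left_comm, h1 (hb y hy), mul_zero]
  have hfu : IsUnit (b f) := (hmem f).1 hf
  have hun : ∀ y : Submonoid.powers f, IsUnit (b y) := by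
    rintro ⟨_, n, rfl⟩
    simpa using hfu.pow n
  have het : Algebra.Etale W (Localization.Away f) :=
    Algebra.Etale.of_isLocalizationAway f
  have het' : Algebra.Etale A (Localization.Away f) :=
    Algebra.Etale.comp A W (Localization.Away f)
  let b' : Localization.Away f →ₐ[A] R :=
    IsLocalization.liftAlgHom (M := Submonoid.powers f) (f := b) hun
  have hb' : ∀ x : W, b' (algebraMap W (Localization.Away f) x) = b x := fun x =>
    IsLocalization.lift_eq _ x
  have hinj : Function.Injective b'.toRingHom := by
    rw [injective_iff_map_eq_zero]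
    intro z hz
    obtain ⟨x, s, rfl⟩ := IsLocalization.exists_mk'_eq (Submonoid.powers f) z
    have h1 : b x = 0 := by
      have h2 : b' (IsLocalization.mk' (Localization.Away f) x s *
          algebraMap W (Localization.Away f) s) = 0 := by
        rw [map_mul]
        have : b' (IsLocalization.mk' (Localization.Away f) x s) = 0 := hz
        rw [this, zero_mul]
      rwa [IsLocalization.mk'_spec, hb'] at h2
    rw [IsLocalization.mk'_eq_zero_iff]
    exact ⟨⟨f, 1, pow_one f⟩, hfk x h1⟩
  refine ⟨Localization.Away f, inferInstance, inferInstance, het',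
    IsScalarTower.toAlgHom A W (Localization.Away f), b', ?_, ?_⟩
  · ext x
    exact hb' x
  · intro P hP
    exact Ideal.exists_comap_eq_of_mem_minimalPrimes_of_injective hinj P hP

end K21.ShNhd
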