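import Groth.Agent.SGA3x.K21.SchDom
import Groth.Agent.Agf.H620.ConjCartan
import Groth.Agent.Sga3.H799.Bc
import Groth.Agent.SGA3x.K10.URZ

/-!
# The conjugates of a maximal torus of a group of unipotent rank zero are dense

* `cj i : G ⊗ T ⟶ G`, `(g, t) ↦ g t g⁻¹`;
* `ConjDense G`: for every maximal torus `i` the morphism `cj i` is dominant; invariance under isomorphisms and descent
  along surjective base change;
* `conjDense_of_field`: true for smooth affine connected groups of unipotent rank zero over a field.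
-/

set_option autoImplicit false
universe u
open CategoryTheory MonoidalCategory CartesianMonoidalCategory MonObj GrpObj AlgebraicGeometry Limits

namespace K21.ConjDom

open Groth.Agent Groth.Agent.Sga3B Groth.Agent.Sga3B.BcPts Groth.Agent.Sga3B.MaxTorBc636

variable {S S' : Scheme.{u}}

/-- Conjugation. -/
noncomputable def cj {G T : Over S} [GrpObj G] (i : T ⟶ G) : G ⊗ T ⟶ G :=
  fst G T * (snd G T ≫ i) * (fst G T)⁻¹

lemma lift_cj {G T X : Over S} [GrpObj G] (i : T ⟶ G) (g : X ⟶ G) (t : X ⟶ T) :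
    lift g t ≫ cj i = g * (t ≫ i) * g⁻¹ := by
  rw [cj, MonObj.comp_mul, MonObj.comp_mul, GrpObj.comp_inv, lift_fst, lift_snd_assoc]

/-- The projection from the base change. -/
noncomputable def pr (q : S' ⟶ S) (X : Over S) : (Over.map q).obj (Red.bc q X) ⟶ X :=
  (bcEquiv q _ X).symm (𝟙 _)

lemma pr_left (q : S' ⟶ S) (X : Over S) : (pr q X).left = pullback.fst X.hom q := by
  change ((Over.mapPullbackAdj q).counit.app X).left = _
  rfl

lemma symm_eq {q : S' ⟶ S} {X : Over S} {Y : Over S'} (x : Y ⟶ Red.bc q X) :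
    (bcEquiv q _ X).symm x = (Over.map q).map x ≫ pr q X := by
  rw [pr, ← comp_bcEquiv_symm, Category.comp_id]

/-- Conjugation and base change. -/
lemma exists_cj_bc (q : S' ⟶ S) {G T : Over S} [GrpObj G] (i : T ⟶ G) :
    ∃ P : (Over.map q).obj (Red.bc q G ⊗ Red.bc q T) ⟶ G ⊗ T,
      P ≫ cj i = (Over.map q).map (cj ((Over.pullback q).map i)) ≫ pr q G := by
  refine ⟨lift ((Over.map q).map (fst _ _) ≫ pr q G) ((Over.map q).map (snd _ _) ≫ pr q T), ?_⟩
  rw [lift_cj, ← symm_eq, ← symm_eq, ← symm_eq]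
  apply (bcEquiv q _ G).injective
  rw [Equiv.apply_symm_apply, bcEquiv_mul, bcEquiv_mul, Equiv.apply_symm_apply, bcEquiv_comp,
    Equiv.apply_symm_apply, cj]
  congr 1
  rw [eq_inv_iff_mul_eq_one, ← (bcEquiv q _ G).apply_symm_apply (fst _ _), ← bcEquiv_mul]
  simp [bcEquiv_one]

theorem dominant_of_bc (q : S' ⟶ S) {G T : Over S} [GrpObj G] (i : T ⟶ G)
    (hs : Function.Surjective (pullback.fst G.hom q)) (h : IsDominant (cj ((Over.pullback q).map i)).left) :
    IsDominant (cj i).left := by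
  obtain ⟨P, hP⟩ := exists_cj_bc q i
  have h1 : P.left ≫ (cj i).left = (cj ((Over.pullback q).map i)).left ≫ pullback.fst G.hom q := by
    rw [← pr_left]
    exact congrArg (fun f => Over.Hom.left f) hP
  have h2 : IsDominant (pullback.fst G.hom q) := ⟨hs.denseRange⟩
  have h3 : IsDominant (P.left ≫ (cj i).left) := by
    rw [h1]
    infer_instance
  exact IsDominant.of_comp P.left _

/-- The conjugates of every maximal torus are dense. -/
def ConjDense (G : Over S) [GrpObj G] : Prop :=
  ∀ (T : Over S) [GrpObj T] (i : T ⟶ G), Red.IsMaximalTorus i → IsDominant (cj i).left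

theorem ConjDense.of_bc (q : S' ⟶ S) {G : Over S} [GrpObj G] [LocallyOfFiniteType G.hom]
    (hs : Function.Surjective (pullback.fst G.hom q)) (h : ConjDense (Red.bc q G)) : ConjDense G :=
  fun _ _ i hi => dominant_of_bc q i hs (h _ _ (Sga3.H799.Bc.isMaximalTorus_bc q hi))

theorem ConjDense.of_iso {G G' : Over S} [GrpObj G] [GrpObj G'] (e : Grp.mk G ≅ Grp.mk G') (h : ConjDense G) :
    ConjDense G' := by
  intro T _ i hi
  let ε : G' ⟶ G := e.inv.hom.hom
  have hε : IsMonHom ε := inferInstanceAs (IsMonHom e.inv.hom.hom)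
  have hε' : IsIso ε := inferInstanceAs (IsIso ((Grp.forget _).map e.inv))
  have h1 : Red.IsMaximalTorus (i ≫ ε) := AlgBc.isMaximalTorus_of_arrow (Iso.refl _) e.symm (Category.id_comp _).symm hi
  have h2 := h T (i ≫ ε) h1
  have h3 : (ε ▷ T) ≫ cj (i ≫ ε) = cj i ≫ ε := by
    rw [cj, cj, MonObj.comp_mul, MonObj.comp_mul, GrpObj.comp_inv, MonObj.mul_comp, MonObj.mul_comp,
      GrpObj.inv_comp, whiskerRight_fst, whiskerRight_snd_assoc, Category.assoc]
  have h4 : (ε ▷ T).left ≫ (cj (i ≫ ε)).left = (cj i).left ≫ ε.left := congrArg (fun f => Over.Hom.left f) h3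
  have h5 : IsIso ε.left := inferInstanceAs (IsIso ((Over.forget _).map ε))
  have h6 : IsIso (ε ▷ T).left := inferInstanceAs (IsIso ((Over.forget _).map (ε ▷ T)))
  have h7 : IsDominant ((cj i).left ≫ ε.left) := by
    rw [← h4]
    infer_instance
  have h8 : (cj i).left = ((cj i).left ≫ ε.left) ≫ inv ε.left := by simp
  rw [h8]
  infer_instance

/-- Algebraically closed fields. -/
theorem dominant_of_isAlgClosed {k : Type u} [Field k] [IsAlgClosed k] (G : Over (Spec (CommRingCat.of k))) [GrpObj G]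
    [IsAffine G.left] [Smooth G.hom] [ConnectedSpace G.left] {T : Over (Spec (CommRingCat.of k))} [GrpObj T]
    (i : T ⟶ G) [IsMonHom i] [Mono i] (hT : Red.IsTorus T) (h : SelfC i) : IsDominant (cj i).left := by
  have hc : Red.IsCentralizerOf i i := by
    refine ⟨inferInstance, inferInstance, fun X g => ⟨?_, fun hg => h X g hg⟩⟩
    rintro ⟨z, rfl⟩ X' x t
    rw [← Category.assoc, ← MonObj.mul_comp, ← MonObj.mul_comp, MaxTorNear900.mul_comm_of_isTorus hT]
  obtain ⟨U, hU, hU'⟩ := Agf.H620.ConjCartan.exists_open_conj_of_torus k G T i inferInstance inferInstance hT T i hc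
  have hirr : IrreducibleSpace G.left := by
    have : GrpObj (Over.mk G.hom) := ‹GrpObj G›
    exact Sga3C.GrpIrr.irreducibleSpace_of_isAlgClosed G.hom
  refine ⟨?_⟩
  rw [DenseRange, dense_iff_inter_open]
  intro O hO hne
  have h1 : ((U : Set G.left) ∩ O).Nonempty := nonempty_preirreducible_inter U.2 hO hU hne
  obtain ⟨x, hx1, hx2⟩ := Books.AlgPts.exists_pt_mem h1 (U.2.inter hO).isLocallyClosed
  obtain ⟨g, y, rfl⟩ := hU' x hx1
  refine ⟨_, hx2, (lift g y).left (IsLocalRing.closedPoint k), ?_⟩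
  rw [← Scheme.Hom.comp_apply, ← Over.comp_left, lift_cj]
  rfl

end K21.ConjDom
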