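import Groth.Agent.Sga3B.TorusBc
import Groth.Agent.Sga3B.DSAff
import Groth.Prelude.Def_TwC
import Groth.Prelude.Def_SGA3x
import Mathlib.Data.Finsupp.ToDFinsupp
import Mathlib.AlgebraicGeometry.Morphisms.Flat

/-!
# Groups of multiplicative type (of arbitrary type) are essentially free over the base

* `isEssentiallyFree_of_cover` : general criterion for `SGA3x.IsEssentiallyFree`;
* `isEssentiallyFree` : `H` fpqc-locally `D(M)`;
* `isEssentiallyFree_bc` : stability under base change of the situation, in the form used for `fst X H`.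
-/

set_option autoImplicit false
universe u
open CategoryTheory MonoidalCategory CartesianMonoidalCategory MonObj GrpObj AlgebraicGeometry Limits

namespace K21.EssFree

section algebra

/-- `φ : A → B` makes `B` a projective `A`-module. -/
def PR {A B : Type u} [CommRing A] [CommRing B] (φ : A →+* B) : Prop :=
  letI := φ.toAlgebra
  Module.Projective A B

lemma projective_trans {A B C : Type u} [CommRing A] [CommRing B] [AddCommGroup C] [Algebra A B] [Module B C]
    [Module A C] [IsScalarTower A B C] [Module.Projective A B] [Module.Projective B C] :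
    Module.Projective A C := by
  classical
  obtain ⟨s, hs⟩ := Module.projective_lifting_property (Finsupp.linearCombination B (id : C → C)) LinearMap.id
    (fun c => ⟨Finsupp.single c 1, by simp⟩)
  have h1 : Module.Projective A (C →₀ B) :=
    Module.Projective.of_equiv' (finsuppLequivDFinsupp A).symm
  refine Module.Projective.of_split (R := A) (P := C) (M := C →₀ B) (s.restrictScalars A)
    ((Finsupp.linearCombination B (id : C → C)).restrictScalars A) ?_
  ext c
  exact LinearMap.congr_fun hs c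

lemma PR.comp {A B C : Type u} [CommRing A] [CommRing B] [CommRing C] {φ : A →+* B} {ψ : B →+* C}
    (hφ : PR φ) (hψ : PR ψ) : PR (ψ.comp φ) := by
  unfold PR at *
  let := φ.toAlgebra
  let := ψ.toAlgebra
  let := (ψ.comp φ).toAlgebra
  have : IsScalarTower A B C := IsScalarTower.of_algebraMap_eq' rfl
  have : Module.Projective A B := hφ
  have : Module.Projective B C := hψ
  exact projective_trans (A := A) (B := B) (C := C)

lemma PR.of_bijective {A B : Type u} [CommRing A] [CommRing B] {φ : A →+* B} (h : Function.Bijective φ) : PR φ := by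
  unfold PR
  let := φ.toAlgebra
  exact Module.Projective.of_equiv' (LinearEquiv.ofBijective (Algebra.linearMap A B) h)

lemma pr_eval {κ : Type u} (R : κ → Type u) [∀ i, CommRing (R i)] (i : κ) : PR (Pi.evalRingHom R i) := by
  classical
  unfold PR
  let := (Pi.evalRingHom R i).toAlgebra
  refine Module.Projective.of_split (R := ∀ i, R i) (P := R i) (M := ∀ i, R i)
    { toFun := fun x => Pi.single i x
      map_add' := fun x y => Pi.single_add i x y
      map_smul' := fun a x => ?_ } (Algebra.linearMap (∀ i, R i) (R i)) ?_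
  · ext j
    rcases eq_or_ne j i with rfl | h
    · change (Pi.single j (a j * x) : ∀ i, R i) j = a j * (Pi.single j x : ∀ i, R i) j
      simp
    · change (Pi.single i (a i * x) : ∀ i, R i) j = a j * (Pi.single i x : ∀ i, R i) j
      simp [Pi.single_eq_of_ne h]
  · refine LinearMap.ext fun x => ?_
    change (Pi.single i x : ∀ i, R i) i = x
    simp

lemma pr_monoidAlgebra (R : Type u) [CommRing R] (G : Type) [CommMonoid G] :
    PR (algebraMap R (MonoidAlgebra R G)) := by
  unfold PR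
  have h : (algebraMap R (MonoidAlgebra R G)).toAlgebra = (inferInstance : Algebra R (MonoidAlgebra R G)) :=
    Algebra.algebra_ext _ _ fun _ => rfl
  rw [h]
  infer_instance

end algebra

variable {S : Scheme.{u}}

/-- Criterion: `f : Z → S` is essentially free if every point has an affine open neighbourhood `U` with finitely many
flat maps `p i : Spec (R i) → U`, jointly surjective, over which `Z` becomes the spectrum of an `R i`-projective algebra. -/
theorem isEssentiallyFree_of_cover {Z : Scheme.{u}} (f : Z ⟶ S)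
    (h : ∀ s : S, ∃ U : S.Opens, s ∈ U ∧ IsAffineOpen U ∧
      ∃ (κ : Type u) (_ : Finite κ) (R : κ → CommRingCat.{u}) (p : ∀ i, Spec (R i) ⟶ (U : Scheme.{u})),
        (∀ i, Flat (p i)) ∧ (∀ x : (U : Scheme.{u}), ∃ i, x ∈ Set.range (p i)) ∧
        ∀ i, ∃ (B : CommRingCat.{u}) (φ : R i ⟶ B) (e : pullback f (p i ≫ U.ι) ≅ Spec B),
          PR φ.hom ∧ e.hom ≫ Spec.map φ = pullback.snd _ _) :
    SGA3x.IsEssentiallyFree f := by
  intro s
  obtain ⟨U, hsU, hU, κ, hκ, R, p, hfl, hsurj, hB⟩ := h s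
  let T : Scheme.{u} := Spec (CommRingCat.of (∀ i, R i))
  let g : T ⟶ (U : Scheme.{u}) := inv (sigmaSpec R) ≫ Sigma.desc p
  let k : ∀ i, Spec (R i) ⟶ T := fun i => Spec.map (CommRingCat.ofHom (Pi.evalRingHom (fun i => R i) i))
  have hk : ∀ i, IsOpenImmersion (k i) := fun i => inferInstance
  have hkg : ∀ i, k i ≫ g = p i := by
    intro i
    have h1 : Limits.Sigma.ι (fun i => Spec (R i)) i ≫ sigmaSpec R = k i := AlgebraicGeometry.ι_sigmaSpec R i
    rw [← h1, Category.assoc]
    simp only [g]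
    rw [IsIso.hom_inv_id_assoc, Sigma.ι_desc]
  have hgf : Flat g := by
    have : Flat (Limits.Sigma.desc p) := inferInstance
    exact inferInstanceAs (Flat (inv (sigmaSpec R) ≫ Limits.Sigma.desc p))
  have hkcov : ∀ t : T, ∃ i, t ∈ Set.range (k i) := by
    intro t
    obtain ⟨i, y, hy⟩ : ∃ i, ∃ y : Spec (R i), Limits.Sigma.ι (fun i => Spec (R i)) i y = inv (sigmaSpec R) t := by
      obtain ⟨y, hy⟩ := (sigmaOpenCover (fun i => Spec (R i))).covers (inv (sigmaSpec R) t)
      exact ⟨_, y, hy⟩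
    refine ⟨i, y, ?_⟩
    have h1 : Limits.Sigma.ι (fun i => Spec (R i)) i ≫ sigmaSpec R = k i := AlgebraicGeometry.ι_sigmaSpec R i
    rw [← h1, Scheme.Hom.comp_apply, hy, ← Scheme.Hom.comp_apply, IsIso.inv_hom_id]
    rfl
  have hgs : Surjective g := by
    refine ⟨fun x => ?_⟩
    obtain ⟨i, y, hy⟩ := hsurj x
    refine ⟨k i y, ?_⟩
    rw [← Scheme.Hom.comp_apply, hkg, hy]
  refine ⟨U, hsU, hU, T, inferInstance, g, hgf, hgs, fun x => ?_⟩
  let q : pullback f (g ≫ U.ι) ⟶ T := pullback.snd f (g ≫ U.ι)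
  obtain ⟨i, y, hy⟩ := hkcov (q x)
  obtain ⟨B, φ, e, hφ, he⟩ := hB i
  -- the open subset
  let V := q ⁻¹ᵁ (k i).opensRange
  have hxV : x ∈ V := by
    change q x ∈ Set.range (k i)
    exact ⟨y, hy⟩
  have hrange : Set.range V.ι = Set.range (pullback.fst q (k i)) := by
    rw [Scheme.Opens.range_ι, IsOpenImmersion.range_pullbackFst]
  let e1 : (V : Scheme.{u}) ≅ pullback q (k i) := IsOpenImmersion.isoOfRangeEq V.ι (pullback.fst q (k i)) hrange
  have he1 : e1.hom ≫ pullback.fst q (k i) = V.ι := IsOpenImmersion.isoOfRangeEq_hom_fac _ _ hrange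
  let e2 : pullback q (k i) ≅ pullback f (k i ≫ g ≫ U.ι) := pullbackLeftPullbackSndIso f (g ≫ U.ι) (k i)
  have he2 : e2.hom ≫ pullback.snd _ _ = pullback.snd _ _ := pullbackLeftPullbackSndIso_hom_snd _ _ _
  have h3 : k i ≫ g ≫ U.ι = p i ≫ U.ι := by rw [← Category.assoc, hkg]
  let e3 : pullback f (k i ≫ g ≫ U.ι) ≅ pullback f (p i ≫ U.ι) := pullback.congrHom rfl h3
  have he3 : e3.hom ≫ pullback.snd _ _ = pullback.snd _ _ := by
    simp only [e3, pullback.congrHom_hom]
    rw [pullback.lift_snd, Category.comp_id]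
  let E : (V : Scheme.{u}) ≅ Spec B := e1 ≪≫ e2 ≪≫ e3 ≪≫ e
  have hE : V.ι ≫ q = E.hom ≫ Spec.map φ ≫ k i := by
    simp only [E, Iso.trans_hom, Category.assoc]
    rw [reassoc_of% he, reassoc_of% he3, reassoc_of% he2, ← pullback.condition, reassoc_of% he1]
  refine ⟨V, hxV, ?_, ?_⟩
  · have : IsAffine (V : Scheme.{u}) := IsAffine.of_isIso E.hom
    exact this
  · change PR (V.ι ≫ q).appTop.hom
    rw [hE, Scheme.Hom.comp_appTop, Scheme.Hom.comp_appTop, CommRingCat.hom_comp, CommRingCat.hom_comp]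
    refine PR.comp (PR.comp ?_ ?_) (PR.of_bijective ?_)
    · have h4 : (k i).appTop = (Scheme.ΓSpecIso _).hom ≫
          CommRingCat.ofHom (Pi.evalRingHom (fun i => R i) i) ≫ (Scheme.ΓSpecIso _).inv := by
        rw [← Category.assoc, Iso.eq_comp_inv]
        exact Scheme.ΓSpecIso_naturality _
      rw [h4, CommRingCat.hom_comp, CommRingCat.hom_comp]
      refine PR.comp (PR.of_bijective ?_) (PR.comp (pr_eval (fun i => R i) i) (PR.of_bijective ?_))
      · exact ConcreteCategory.bijective_of_isIso (Scheme.ΓSpecIso _).hom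
      · exact ConcreteCategory.bijective_of_isIso (Scheme.ΓSpecIso _).inv
    · have h4 : (Spec.map φ).appTop = (Scheme.ΓSpecIso _).hom ≫ φ ≫ (Scheme.ΓSpecIso _).inv := by
        rw [← Category.assoc, Iso.eq_comp_inv]
        exact Scheme.ΓSpecIso_naturality _
      rw [h4, CommRingCat.hom_comp, CommRingCat.hom_comp]
      refine PR.comp (PR.of_bijective ?_) (PR.comp hφ (PR.of_bijective ?_))
      · exact ConcreteCategory.bijective_of_isIso (Scheme.ΓSpecIso _).hom
      · exact ConcreteCategory.bijective_of_isIso (Scheme.ΓSpecIso _).inv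
    · have h5 : IsIso E.hom.appTop := inferInstanceAs (IsIso (E.hom.app ⊤))
      exact ConcreteCategory.bijective_of_isIso E.hom.appTop

open Groth.Agent.Sga3B Groth.Agent.Books.AffBridge

/-- `D(M)` over an affine base, in the form needed for `isEssentiallyFree_of_cover`. -/
lemma exists_alg_of_split {A : CommRingCat.{u}} {Z : Scheme.{u}} {f : Z ⟶ S} (p : Spec A ⟶ S)
    {M : Type} [AddCommGroup M] (e : Red.bc p (Over.mk f) ≅ Red.DS (Spec A) M) :
    ∃ (B : CommRingCat.{u}) (φ : A ⟶ B) (e : pullback f p ≅ Spec B),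
      PR φ.hom ∧ e.hom ≫ Spec.map φ = pullback.snd _ _ := by
  let e2 : Red.DS (Spec (CommRingCat.of A)) M ≅ SpecOver A (MonoidAlgebra A (Multiplicative M)) :=
    asIso (DSAff.dsTo A M)
  let E : Red.bc p (Over.mk f) ≅ SpecOver A (MonoidAlgebra A (Multiplicative M)) := e ≪≫ e2
  refine ⟨CommRingCat.of (MonoidAlgebra A (Multiplicative M)),
    CommRingCat.ofHom (algebraMap A (MonoidAlgebra A (Multiplicative M))), (Over.forget _).mapIso E,
    pr_monoidAlgebra A (Multiplicative M), Over.w E.hom⟩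

/-- A group which is fpqc-locally diagonalisable (of arbitrary type) is essentially free. -/
theorem isEssentiallyFree (H : Over S) [GrpObj H] {S' : Scheme.{u}} (f : S' ⟶ S) [Flat f]
    (hc : ∀ V : S.Opens, IsAffineOpen V →
      ∃ W : S'.Opens, IsCompact (W : Set S') ∧ f.base '' (W : Set S') = (V : Set S))
    (h : ∀ s' : S', ∃ U : S'.Opens, s' ∈ U ∧ ∃ (M : Type) (_ : AddCommGroup M),
      Nonempty (Grp.mk (Red.bc (U.ι ≫ f) H) ≅ Grp.mk (Red.DS (U : Scheme.{u}) M))) :
    SGA3x.IsEssentiallyFree H.hom := by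
  refine isEssentiallyFree_of_cover H.hom fun s => ?_
  obtain ⟨_, ⟨V, hV, rfl⟩, hsV, -⟩ :=
    S.isBasis_affineOpens.exists_subset_of_mem_open (Set.mem_univ s) isOpen_univ
  obtain ⟨W, hW, hWV⟩ := hc V hV
  have key : ∀ w : W, ∃ A : S'.Opens, w.1 ∈ A ∧ A ≤ W ∧ IsAffineOpen A ∧
      ∃ (M : Type) (_ : AddCommGroup M), Nonempty (Grp.mk (Red.bc (A.ι ≫ f) H) ≅ Grp.mk (Red.DS (A : Scheme.{u}) M)) := by
    intro w
    obtain ⟨U, hwU, M, _, ⟨e⟩⟩ := h w.1
    obtain ⟨_, ⟨A, hA, rfl⟩, hwA, hle⟩ :=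
      S'.isBasis_affineOpens.exists_subset_of_mem_open (⟨hwU, w.2⟩ : w.1 ∈ (U ⊓ W : S'.Opens)) (U ⊓ W : S'.Opens).2
    have hAU : A ≤ U := fun x hx => (hle hx).1
    refine ⟨A, hwA, fun x hx => (hle hx).2, hA, M, inferInstance, ?_⟩
    have h1 := TorusAlgClosed.isSplitTorusWith_bc (S'.homOfLE hAU) (M := M) (T := Red.bc (U.ι ≫ f) H) ⟨e⟩
    obtain ⟨e1⟩ := h1
    exact ⟨BcIso.bcCongrIso (by rw [← Category.assoc, Scheme.homOfLE_ι]) H ≪≫ BcIso.bcCompIso _ _ _ ≪≫ e1⟩
  choose A hwA hAW hA M hM he using key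
  obtain ⟨t, ht⟩ := hW.elim_finite_subcover (fun w : W => (A w : Set S')) (fun w => (A w).2)
    (fun x hx => Set.mem_iUnion.mpr ⟨⟨x, hx⟩, hwA ⟨x, hx⟩⟩)
  have hr : ∀ w : W, Set.range ((hA w).fromSpec ≫ f) ⊆ Set.range (Scheme.Opens.ι V) := by
    intro w
    rw [Scheme.Opens.range_ι, ← hWV]
    rintro _ ⟨x, rfl⟩
    refine ⟨(hA w).fromSpec x, ?_, rfl⟩
    have : (hA w).fromSpec x ∈ Set.range (hA w).fromSpec := ⟨x, rfl⟩
    rw [(hA w).range_fromSpec] at this
    exact hAW w this
  let p : ∀ w : t, Spec Γ(S', A w.1) ⟶ (V : Scheme.{u}) :=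
    fun w => IsOpenImmersion.lift (Scheme.Opens.ι V) ((hA w.1).fromSpec ≫ f) (hr w.1)
  have hp : ∀ w : t, p w ≫ Scheme.Opens.ι V = (hA w.1).fromSpec ≫ f := fun w => IsOpenImmersion.lift_fac _ _ _
  refine ⟨V, hsV, hV, t, inferInstance, fun w => Γ(S', A w.1), p, fun w => ?_, fun x => ?_, fun w => ?_⟩
  · have h1 : Flat (p w ≫ Scheme.Opens.ι V) := by
      rw [hp]
      have := (hA w.1).isOpenImmersion_fromSpec
      infer_instance
    have h2 : MorphismProperty.HasOfPostcompProperty (@Flat.{u}) (MorphismProperty.monomorphisms Scheme.{u}) :=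
      MorphismProperty.IsStableUnderBaseChange.hasOfPostcompProperty_monomorphisms
    exact h2.of_postcomp (p w) (Scheme.Opens.ι V) (inferInstanceAs (Mono (Scheme.Opens.ι V))) h1
  · have h1 : Scheme.Opens.ι V x ∈ f.base '' (W : Set S') := by
      rw [hWV, ← Scheme.Opens.range_ι]; exact ⟨x, rfl⟩
    obtain ⟨y, hy, hyx⟩ := h1
    obtain ⟨w, hwt, hyw⟩ := Set.mem_iUnion₂.mp (ht hy)
    have h2 : y ∈ Set.range (hA w).fromSpec := by rw [(hA w).range_fromSpec]; exact hyw
    obtain ⟨z, hz⟩ := h2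
    refine ⟨⟨w, hwt⟩, z, ?_⟩
    apply (Scheme.Opens.ι V).isOpenEmbedding.injective
    have h3 : Scheme.Opens.ι V (p ⟨w, hwt⟩ z) = f ((hA w).fromSpec z) := by
      rw [← Scheme.Hom.comp_apply, hp, Scheme.Hom.comp_apply]
    rw [h3, hz]
    exact hyx
  · obtain ⟨e⟩ := he w.1
    obtain ⟨e1⟩ := TorusAlgClosed.isSplitTorusWith_bc ((hA w.1).isoSpec.inv) (M := M w.1)
      (T := Red.bc ((A w.1).ι ≫ f) H) ⟨e⟩
    have h1 : (hA w.1).isoSpec.inv ≫ (A w.1).ι ≫ f = p w ≫ Scheme.Opens.ι V := by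
      rw [hp, ← Category.assoc]
      rfl
    have e2 : Grp.mk (Red.bc (p w ≫ Scheme.Opens.ι V) H) ≅ Grp.mk (Red.DS (Spec Γ(S', A w.1)) (M w.1)) :=
      BcIso.bcCongrIso h1.symm H ≪≫ BcIso.bcCompIso _ _ _ ≪≫ e1
    exact exists_alg_of_split (p w ≫ Scheme.Opens.ι V) ((Grp.forget _).mapIso e2)

end K21.EssFree
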