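import Groth.Agent.Sga3.H827.KerAlg4
import Mathlib.RingTheory.Flat.EquationalCriterion
import Mathlib.LinearAlgebra.TensorProduct.Basis

/-!
# Flat closed subgroups of diagonalisable groups are locally diagonalisable: algebra

* `eq_aug` : over a ring `E` with a square-zero ideal `I`, an ideal `J` of `E[Γ]` defining a flat closed subgroup,
  which modulo `I` is the ideal of `D(Γ/N)`, is the ideal of `D(Γ/N)`;
* `exists_local_flat` : a finitely generated ideal `J` of `C[Γ]` defining a flat closed subgroup is Zariski-locally on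
  `Spec C` the ideal of `D(Γ/N)`.
-/

set_option autoImplicit false
universe u
open TensorProduct

namespace K21.FlatKer

open Groth.Agent.Sga3.H827 GrpLike KerAlg1 KerAlg2 KerAlg3 KerAlg4

section core

variable {E : Type u} [CommRing E] {Γ : Type} [CommGroup Γ] {J : Ideal (MonoidAlgebra E Γ)} {I : Ideal E}
  {N : Subgroup Γ}

/-- the grouplike elements of the quotient -/
noncomputable def gl (J : Ideal (MonoidAlgebra E Γ)) : Γ →* (MonoidAlgebra E Γ ⧸ J) :=
  (Ideal.Quotient.mkₐ E J : MonoidAlgebra E Γ →* (MonoidAlgebra E Γ ⧸ J)).comp (MonoidAlgebra.of E Γ)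

lemma mk_single (m : Γ) (c : E) : Ideal.Quotient.mk J (MonoidAlgebra.single m c) = c • gl J m := by
  change _ = c • Ideal.Quotient.mkₐ E J (MonoidAlgebra.single m 1)
  rw [← map_smul, MonoidAlgebra.smul_single, smul_eq_mul, mul_one]
  rfl

lemma lift_gl (x : MonoidAlgebra E Γ) : MonoidAlgebra.lift E (MonoidAlgebra E Γ ⧸ J) Γ (gl J) x =
    Ideal.Quotient.mk J x := by
  induction x using MonoidAlgebra.induction_linear with
  | zero => simp
  | add x y hx hy => rw [map_add, map_add, hx, hy]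
  | single m c => rw [MonoidAlgebra.lift_single, mk_single]

/-- the section of `E[Γ] → E[Γ/N]` defined by representatives -/
noncomputable def sec (σ : Γ ⧸ N → Γ) : (Γ ⧸ N →₀ E) →ₗ[E] MonoidAlgebra E Γ :=
  Finsupp.linearCombination E fun x => MonoidAlgebra.single (σ x) 1

lemma sec_single (σ : Γ ⧸ N → Γ) (x : Γ ⧸ N) (c : E) : sec σ (Finsupp.single x c) = MonoidAlgebra.single (σ x) c := by
  rw [sec, Finsupp.linearCombination_single, MonoidAlgebra.smul_single, smul_eq_mul, mul_one]

/-- the map from the free module on representatives -/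
noncomputable def sMap (J : Ideal (MonoidAlgebra E Γ)) (σ : Γ ⧸ N → Γ) :
    (Γ ⧸ N →₀ E) →ₗ[E] (MonoidAlgebra E Γ ⧸ J) := (Ideal.Quotient.mkₐ E J).toLinearMap ∘ₗ sec σ

lemma sMap_single (σ : Γ ⧸ N → Γ) (x : Γ ⧸ N) (c : E) : sMap J σ (Finsupp.single x c) = c • gl J (σ x) := by
  change Ideal.Quotient.mk J (sec σ (Finsupp.single x c)) = _
  rw [sec_single, mk_single]

lemma red_sec (σ : Γ ⧸ N → Γ) (hσ : ∀ x, QuotientGroup.mk' N (σ x) = x) (c : Γ ⧸ N →₀ E) :
    (red E E N (sec σ c)).coeff = c := by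
  induction c using Finsupp.induction_linear with
  | zero => simp
  | add x y hx hy => rw [map_add, map_add, MonoidAlgebra.coeff_add, hx, hy]
  | single x c =>
    rw [sec_single, red_single, hσ, MonoidAlgebra.coeff_single]
    rfl

/-- coefficients of `x` in `I` imply `mk x ∈ I A`. -/
lemma mk_mem_smul {x : MonoidAlgebra E Γ} (hx : ∀ m, x.coeff m ∈ I) :
    Ideal.Quotient.mk J x ∈ (I • ⊤ : Submodule E (MonoidAlgebra E Γ ⧸ J)) := by
  rw [← MonoidAlgebra.sum_coeff_single x, Finsupp.sum, map_sum]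
  refine Submodule.sum_mem _ fun m _ => ?_
  rw [mk_single]
  exact Submodule.smul_mem_smul (hx m) trivial

lemma range_sMap (hI : I * I = ⊥) (σ : Γ ⧸ N → Γ) (hσ : ∀ x, QuotientGroup.mk' N (σ x) = x)
    (h2 : ∀ n ∈ N, ∃ j ∈ J, ∀ m, (MonoidAlgebra.single n 1 - 1 - j).coeff m ∈ I) :
    LinearMap.range (sMap J σ) = ⊤ := by
  have h3 : ∀ γ : Γ, gl J γ - gl J (σ (QuotientGroup.mk' N γ)) ∈
      (I • ⊤ : Submodule E (MonoidAlgebra E Γ ⧸ J)) := by
    intro γ
    let γ' := σ (QuotientGroup.mk' N γ)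
    have h4 : γ * γ'⁻¹ ∈ N := by
      rw [← QuotientGroup.eq_one_iff]
      change QuotientGroup.mk' N (γ * γ'⁻¹) = 1
      rw [map_mul, map_inv, hσ, mul_inv_cancel]
    obtain ⟨j, hj, hm⟩ := h2 _ h4
    have h5 := mk_mem_smul (J := J) hm
    have h6 : Ideal.Quotient.mk J (MonoidAlgebra.single (γ * γ'⁻¹) 1 - 1 - j) = gl J (γ * γ'⁻¹) - 1 := by
      rw [map_sub, map_sub, Ideal.Quotient.eq_zero_iff_mem.2 hj, sub_zero, mk_single, one_smul, map_one]
    rw [h6] at h5
    have h7 : gl J γ - gl J γ' = (gl J (γ * γ'⁻¹) - 1) * gl J γ' := by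
      rw [sub_mul, ← map_mul, inv_mul_cancel_right, one_mul]
    change gl J γ - gl J γ' ∈ _
    rw [h7]
    have h8 : (I • ⊤ : Submodule E (MonoidAlgebra E Γ ⧸ J)) ≤
        (I • ⊤ : Submodule E (MonoidAlgebra E Γ ⧸ J)).comap (LinearMap.mulRight E (gl J γ')) := by
      rw [Submodule.smul_le]
      intro r hr n _
      rw [Submodule.mem_comap, LinearMap.mulRight_apply, smul_mul_assoc]
      exact Submodule.smul_mem_smul hr trivial
    exact h8 h5
  have h4 : (⊤ : Submodule E (MonoidAlgebra E Γ ⧸ J)) ≤ LinearMap.range (sMap J σ) ⊔ I • ⊤ := by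
    intro a _
    obtain ⟨x, rfl⟩ := Ideal.Quotient.mk_surjective a
    rw [← MonoidAlgebra.sum_coeff_single x, Finsupp.sum, map_sum]
    refine Submodule.sum_mem _ fun m _ => ?_
    rw [mk_single]
    refine Submodule.smul_mem _ _ ?_
    have h5 : gl J m = gl J (σ (QuotientGroup.mk' N m)) + (gl J m - gl J (σ (QuotientGroup.mk' N m))) := by ring
    rw [h5]
    refine Submodule.add_mem_sup ⟨Finsupp.single (QuotientGroup.mk' N m) 1, ?_⟩ (h3 m)
    rw [sMap_single, one_smul]
  rw [eq_top_iff]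
  have h5 : I • (⊤ : Submodule E (MonoidAlgebra E Γ ⧸ J)) ≤ LinearMap.range (sMap J σ) := by
    refine (Submodule.smul_mono le_rfl h4 : I • (⊤ : Submodule E (MonoidAlgebra E Γ ⧸ J)) ≤ _).trans ?_
    rw [Submodule.smul_sup, ← Submodule.mul_smul, hI, Submodule.bot_smul, sup_bot_eq]
    exact Submodule.smul_le_right
  exact h4.trans (sup_le le_rfl h5)

lemma ker_sMap [Module.Flat E (MonoidAlgebra E Γ ⧸ J)] (hI : I * I = ⊥) (σ : Γ ⧸ N → Γ)
    (hσ : ∀ x, QuotientGroup.mk' N (σ x) = x)
    (h1 : ∀ j ∈ J, ∀ q, (red E E N j).coeff q ∈ I)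
    (hr : LinearMap.range (sMap J σ) = ⊤) (c : Γ ⧸ N →₀ E) (hc : sMap J σ c = 0) : c = 0 := by
  have h3 : ∀ c : Γ ⧸ N →₀ E, sMap J σ c = 0 → ∀ q, c q ∈ I := by
    intro c hc q
    have h4 : sec σ c ∈ J := Ideal.Quotient.eq_zero_iff_mem.1 hc
    have h5 := h1 _ h4 q
    rwa [red_sec σ hσ] at h5
  have h4 : ∀ a b : E, a ∈ I → b ∈ I → a * b = 0 := fun a b ha hb => by
    rw [← Ideal.mem_bot, ← hI]
    exact Ideal.mul_mem_mul ha hb
  have h5 : ∑ i : c.support, c i • gl J (σ i) = 0 := by
    have h6 : sMap J σ c = ∑ i : c.support, c i • gl J (σ i) := by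
      conv_lhs => rw [← Finsupp.sum_single c, Finsupp.sum, map_sum]
      rw [← Finset.sum_coe_sort]
      exact Finset.sum_congr rfl fun x _ => sMap_single _ _ _
    rw [← h6, hc]
  obtain ⟨k₀, a, y, hy, ha⟩ := Module.Flat.isTrivialRelation_of_sum_smul_eq_zero h5
  have h6 : ∀ k : Fin k₀, ∃ F : Γ ⧸ N →₀ E, sMap J σ F = y k := fun k => by
    have : y k ∈ LinearMap.range (sMap J σ) := by rw [hr]; trivial
    exact this
  choose F hF using h6
  let z : c.support → (Γ ⧸ N →₀ E) := fun i => Finsupp.single i.1 1 - ∑ k, a i k • F k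
  have hz : ∀ i q, z i q ∈ I := fun i => h3 _ (by
    rw [map_sub, sMap_single, one_smul, show gl J (σ i.1) = _ from hy i, map_sum, sub_eq_zero]
    exact Finset.sum_congr rfl fun k _ => by rw [map_smul, hF])
  have h7 : c = ∑ i : c.support, c i • z i := by
    have h8 : ∑ i : c.support, c i • z i = (∑ i : c.support, c i • Finsupp.single i.1 1) -
        ∑ k, (∑ i : c.support, c i * a i k) • F k := by
      simp only [z, smul_sub, Finset.sum_sub_distrib, Finset.smul_sum, Finset.sum_smul, smul_smul]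
      rw [Finset.sum_comm]
    rw [h8]
    have h9 : ∀ k, (∑ i : c.support, c i * a i k) • F k = 0 := fun k => by
      rw [show (∑ i : c.support, c i * a i k) = 0 from ha k, zero_smul]
    rw [Finset.sum_congr rfl fun k _ => h9 k, Finset.sum_const_zero, sub_zero]
    conv_lhs => rw [← Finsupp.sum_single c, Finsupp.sum]
    rw [← Finset.sum_coe_sort]
    exact Finset.sum_congr rfl fun x _ => by rw [Finsupp.smul_single, smul_eq_mul, mul_one]
  rw [h7]
  refine Finset.sum_eq_zero fun i _ => ?_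
  ext q
  rw [Finsupp.smul_apply, smul_eq_mul, h4 _ _ (h3 c hc _) (hz i q), Finsupp.zero_apply]

lemma lift_diag' {Q : Type u} [CommRing Q] [Algebra E Q] (hJ : IsKer J) (u : Γ →* Q)
    (hu : ∀ x ∈ J, MonoidAlgebra.lift E Q Γ u x = 0) :
    ∃ w : Γ →* Q ⊗[E] Q, (∀ m, w m = u m ⊗ₜ u m) ∧ ∀ x ∈ J, MonoidAlgebra.lift E (Q ⊗[E] Q) Γ w x = 0 := by
  let l : Q →ₐ[E] Q ⊗[E] Q := Algebra.TensorProduct.includeLeft
  let r : Q →ₐ[E] Q ⊗[E] Q := Algebra.TensorProduct.includeRight
  have h1 : ∀ (f : Q →ₐ[E] Q ⊗[E] Q), ∀ x ∈ J, MonoidAlgebra.lift E (Q ⊗[E] Q) Γ ((f : Q →* Q ⊗[E] Q).comp u) x = 0 := by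
    intro f x hx
    have h2 : MonoidAlgebra.lift E (Q ⊗[E] Q) Γ ((f : Q →* Q ⊗[E] Q).comp u) = f.comp (MonoidAlgebra.lift E Q Γ u) := by
      ext m; simp
    rw [h2, AlgHom.comp_apply, hu x hx, map_zero]
  refine ⟨(l : Q →* Q ⊗[E] Q).comp u * (r : Q →* Q ⊗[E] Q).comp u, fun m => ?_, hJ.mul _ _ _ (h1 l) (h1 r)⟩
  rw [MonoidHom.mul_apply]
  change (u m ⊗ₜ[E] (1 : Q)) * ((1 : Q) ⊗ₜ[E] u m) = _
  rw [Algebra.TensorProduct.tmul_mul_tmul, mul_one, one_mul]

/-- the diagonal -/
lemma exists_diag (hJ : IsKer J) : ∃ Δ : (MonoidAlgebra E Γ ⧸ J) →ₗ[E] (MonoidAlgebra E Γ ⧸ J) ⊗[E] (MonoidAlgebra E Γ ⧸ J),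
    ∀ m, Δ (gl J m) = gl J m ⊗ₜ gl J m := by
  obtain ⟨w, hw, hw'⟩ := lift_diag' hJ (gl J) (fun x hx => by
    rw [lift_gl, Ideal.Quotient.eq_zero_iff_mem.2 hx])
  refine ⟨(Ideal.Quotient.liftₐ J (MonoidAlgebra.lift E _ Γ w) hw').toLinearMap, fun m => ?_⟩
  rw [← hw]
  have h2 : Ideal.Quotient.liftₐ J (MonoidAlgebra.lift E _ Γ w) hw' (Ideal.Quotient.mk J (MonoidAlgebra.single m 1)) =
    MonoidAlgebra.lift E _ Γ w (MonoidAlgebra.single m 1) := rfl
  rw [MonoidAlgebra.lift_single, one_smul, mk_single, one_smul] at h2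
  exact h2

/-- **A flat subgroup which is `D(Γ/N)` modulo a square-zero ideal is `D(Γ/N)`.** -/
theorem eq_aug [Module.Flat E (MonoidAlgebra E Γ ⧸ J)] (hJ : IsKer J) (hI : I * I = ⊥)
    (h1 : ∀ j ∈ J, ∀ q, (red E E N j).coeff q ∈ I)
    (h2 : ∀ n ∈ N, ∃ j ∈ J, ∀ m, (MonoidAlgebra.single n 1 - 1 - j).coeff m ∈ I) : J = aug E N := by
  classical
  obtain ⟨σ₀, hσ₀⟩ : ∃ σ : Γ ⧸ N → Γ, ∀ x, QuotientGroup.mk' N (σ x) = x :=
    ⟨_, fun x => (QuotientGroup.mk'_surjective N x).choose_spec⟩
  let σ : Γ ⧸ N → Γ := Function.update σ₀ 1 1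
  have hσ1 : σ 1 = 1 := Function.update_self _ _ _
  have hσ : ∀ x, QuotientGroup.mk' N (σ x) = x := by
    intro x
    by_cases hx : x = 1
    · rw [hx, hσ1, map_one]
    · rw [show σ x = σ₀ x from Function.update_of_ne hx _ _, hσ₀]
  have hr := range_sMap hI σ hσ h2
  have hk : ∀ c, sMap J σ c = 0 → c = 0 := fun c hc => ker_sMap hI σ hσ h1 hr c hc
  let e : (Γ ⧸ N →₀ E) ≃ₗ[E] (MonoidAlgebra E Γ ⧸ J) := LinearEquiv.ofBijective (sMap J σ)
    ⟨LinearMap.ker_eq_bot.1 (LinearMap.ker_eq_bot'.2 hk), LinearMap.range_eq_top.1 hr⟩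
  let b : Module.Basis (Γ ⧸ N) E (MonoidAlgebra E Γ ⧸ J) := Module.Basis.ofRepr e.symm
  have hb : ∀ x, b x = gl J (σ x) := by
    intro x
    change sMap J σ (Finsupp.single x 1) = _
    rw [sMap_single, one_smul]
  obtain ⟨Δ, hΔ⟩ := exists_diag hJ
  have h3 : ∀ (a : MonoidAlgebra E Γ ⧸ J) (x x' : Γ ⧸ N), (b.tensorProduct b).repr (Δ a) (x, x') =
      if x = x' then b.repr a x else 0 := by
    intro a x x'
    let φ : (MonoidAlgebra E Γ ⧸ J) →ₗ[E] E :=
      (Finsupp.lapply (x, x')) ∘ₗ (b.tensorProduct b).repr.toLinearMap ∘ₗ Δ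
    let ψ : (MonoidAlgebra E Γ ⧸ J) →ₗ[E] E := if x = x' then (Finsupp.lapply x) ∘ₗ b.repr.toLinearMap else 0
    have h4 : φ = ψ := by
      refine b.ext fun z => ?_
      change (b.tensorProduct b).repr (Δ (b z)) (x, x') = _
      rw [hb, hΔ, ← hb, Module.Basis.tensorProduct_repr_tmul_apply, Module.Basis.repr_self]
      by_cases hxx : x = x'
      · subst hxx
        have h5 : ψ = (Finsupp.lapply x) ∘ₗ b.repr.toLinearMap := if_pos rfl
        rw [h5]
        change _ = b.repr (b z) x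
        rw [Module.Basis.repr_self, Finsupp.single_apply]
        split_ifs <;> simp
      · have h5 : ψ = 0 := if_neg hxx
        rw [h5, LinearMap.zero_apply, Finsupp.single_apply, Finsupp.single_apply]
        by_cases h6 : z = x
        · rw [if_neg (fun h7 : z = x' => hxx (h6.symm.trans h7))]
          simp
        · rw [if_neg h6]
          simp
    have h5 := congr($h4 a)
    change (b.tensorProduct b).repr (Δ a) (x, x') = ψ a at h5
    rw [h5]
    by_cases hxx : x = x'
    · rw [if_pos hxx]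
      have h5 : ψ = (Finsupp.lapply x) ∘ₗ b.repr.toLinearMap := if_pos hxx
      rw [h5]
      rfl
    · rw [if_neg hxx]
      have h5 : ψ = 0 := if_neg hxx
      rw [h5]
      rfl
  have h4 : ∀ (m : Γ) (x x' : Γ ⧸ N), b.repr (gl J m) x * b.repr (gl J m) x' =
      if x = x' then b.repr (gl J m) x else 0 := by
    intro m x x'
    rw [← h3, hΔ, Module.Basis.tensorProduct_repr_tmul_apply, smul_eq_mul, mul_comm]
  have h5 : ∀ n ∈ N, gl J n = 1 := by
    intro n hn
    let y := b.repr (gl J n)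
    have hy : sMap J σ y = gl J n := e.apply_symm_apply _
    have h6 : MonoidAlgebra.single n 1 - sec σ y ∈ J := by
      rw [← Ideal.Quotient.eq_zero_iff_mem, map_sub, mk_single, one_smul, sub_eq_zero]
      exact hy.symm
    have h7 := h1 _ h6 1
    rw [map_sub, red_single, MonoidAlgebra.coeff_sub, Finsupp.sub_apply, red_sec σ hσ] at h7
    have h8 : QuotientGroup.mk' N n = 1 := (QuotientGroup.eq_one_iff n).2 hn
    rw [h8, MonoidAlgebra.coeff_single, Finsupp.single_eq_same, map_one] at h7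
    have h9 : IsUnit (y 1) := by
      have h10 : (1 - y 1) * (1 - y 1) = 0 := by
        rw [← Ideal.mem_bot, ← hI]
        exact Ideal.mul_mem_mul h7 h7
      refine IsUnit.of_mul_eq_one (2 - y 1) ?_
      linear_combination -h10
    have h10 : y 1 = 1 := by
      have h11 := h4 n 1 1
      rw [if_pos rfl] at h11
      exact h9.mul_left_cancel (h11.trans (mul_one _).symm)
    have h12 : y = Finsupp.single 1 1 := by
      ext x
      rw [Finsupp.single_apply]
      split_ifs with hx
      · rw [← hx, h10]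
      · have h11 := h4 n 1 x
        rw [if_neg hx] at h11
        exact (h9.mul_right_eq_zero).1 h11
    rw [← hy, h12, sMap_single, hσ1, one_smul, map_one]
  refine le_antisymm ?_ ?_
  · intro j hj
    rw [mem_aug_iff]
    have h6 : ∀ x : MonoidAlgebra E Γ, sMap J σ (red E E N x).coeff = Ideal.Quotient.mk J x := by
      intro x
      induction x using MonoidAlgebra.induction_linear with
      | zero => simp
      | add x y hx hy => rw [map_add, map_add, MonoidAlgebra.coeff_add, map_add, hx, hy]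
      | single m c =>
        rw [red_single, MonoidAlgebra.coeff_single, sMap_single, mk_single]
        change c • _ = _
        congr 1
        have h7 : m * (σ (QuotientGroup.mk' N m))⁻¹ ∈ N := by
          rw [← QuotientGroup.eq_one_iff]
          change QuotientGroup.mk' N (m * (σ (QuotientGroup.mk' N m))⁻¹) = 1
          rw [map_mul, map_inv, hσ, mul_inv_cancel]
        have h8 := h5 _ h7
        have h9 : gl J m = gl J (m * (σ (QuotientGroup.mk' N m))⁻¹) * gl J (σ (QuotientGroup.mk' N m)) := by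
          rw [← map_mul, inv_mul_cancel_right]
        rw [h9, h8, one_mul]
    have h7 := h6 j
    rw [Ideal.Quotient.eq_zero_iff_mem.2 hj] at h7
    exact MonoidAlgebra.coeff_injective (hk _ h7)
  · rw [aug_le_iff]
    intro n hn
    rw [← Ideal.Quotient.eq_zero_iff_mem, map_sub, mk_single, one_smul, h5 n hn, map_one, sub_self]

end core

section bc

variable {C : Type u} [CommRing C] {Γ : Type} [CommGroup Γ] {J : Ideal (MonoidAlgebra C Γ)}

/-- base change of the quotient -/
lemma flat_bc_aux {E : Type u} [CommRing E] [Algebra C E] {A : Type u} [CommRing A] [Algebra C A] (u : Γ →* A)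
    (hu : ∀ x, MonoidAlgebra.lift C A Γ u x = 0 ↔ x ∈ J)
    (hus : Function.Surjective (MonoidAlgebra.lift C A Γ u)) [Module.Flat C A]
    {Q : Type u} [CommRing Q] [Algebra E Q] [Algebra C Q] [IsScalarTower C E Q] (v : Γ →* Q)
    (hv : ∀ x, MonoidAlgebra.lift E Q Γ v x = 0 ↔ x ∈ JE C E J)
    (hvs : Function.Surjective (MonoidAlgebra.lift E Q Γ v)) : Module.Flat E Q := by
  have h1 : ∀ x ∈ J, MonoidAlgebra.lift C Q Γ v x = 0 := (lift_JE v).1 fun x hx => (hv x).2 hx
  let f₁ : A →ₐ[C] Q := AlgHom.liftOfSurjective (MonoidAlgebra.lift C A Γ u) hus (MonoidAlgebra.lift C Q Γ v)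
    fun x hx => h1 x ((hu x).1 hx)
  have hf₁ : ∀ m, f₁ (u m) = v m := by
    intro m
    have h2 := AlgHom.liftOfSurjective_apply (MonoidAlgebra.lift C A Γ u) hus (MonoidAlgebra.lift C Q Γ v)
      (fun x hx => h1 x ((hu x).1 hx)) (MonoidAlgebra.single m 1)
    rw [MonoidAlgebra.lift_single, MonoidAlgebra.lift_single, one_smul, one_smul] at h2
    exact h2
  let f : E ⊗[C] A →ₐ[E] Q := Algebra.TensorProduct.lift (Algebra.ofId _ _) f₁ fun _ _ => Commute.all _ _
  let r : A →ₐ[C] E ⊗[C] A := Algebra.TensorProduct.includeRight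
  let g : MonoidAlgebra E Γ →ₐ[E] E ⊗[C] A := MonoidAlgebra.lift E _ Γ ((r : A →* E ⊗[C] A).comp u)
  have hfg : f.comp g = MonoidAlgebra.lift E Q Γ v := by
    refine MonoidAlgebra.algHom_ext (fun m => ?_) (by ext)
    change f (MonoidAlgebra.lift E _ Γ ((r : A →* E ⊗[C] A).comp u) (MonoidAlgebra.single m 1)) = _
    rw [MonoidAlgebra.lift_single, MonoidAlgebra.lift_single, one_smul, one_smul]
    change f (1 ⊗ₜ u m) = _
    rw [Algebra.TensorProduct.lift_tmul, hf₁, map_one, one_mul]
  have hg : ∀ x ∈ JE C E J, g x = 0 := by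
    refine (lift_JE (Γ := Γ) ((r : A →* E ⊗[C] A).comp u)).2 fun x hx => ?_
    have h3 : MonoidAlgebra.lift C (E ⊗[C] A) Γ ((r : A →* E ⊗[C] A).comp u) = r.comp (MonoidAlgebra.lift C _ Γ u) := by
      ext m; simp
    rw [h3, AlgHom.comp_apply, (hu x).2 hx, map_zero]
  have hr : ∀ a : A, r a ∈ g.range := by
    intro a
    obtain ⟨x, rfl⟩ := hus a
    induction x using MonoidAlgebra.induction_linear with
    | zero => simp
    | add x y hx hy => rw [map_add, map_add]; exact add_mem hx hy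
    | single m c =>
      rw [MonoidAlgebra.lift_single, map_smul, ← algebraMap_smul E]
      have h4 : r (u m) ∈ g.range := by
        refine ⟨MonoidAlgebra.single m 1, ?_⟩
        change MonoidAlgebra.lift E _ Γ ((r : A →* E ⊗[C] A).comp u) (MonoidAlgebra.single m 1) = _
        rw [MonoidAlgebra.lift_single, one_smul]
        rfl
      exact Subalgebra.smul_mem _ h4 _
  have hgs : Function.Surjective g := by
    intro z
    change z ∈ g.range
    induction z using TensorProduct.induction_on with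
    | zero => exact zero_mem _
    | add x y hx hy => exact add_mem hx hy
    | tmul e a =>
      have h3 : (e ⊗ₜ[C] a : E ⊗[C] A) = e • r a := by
        change _ = e • ((1 : E) ⊗ₜ[C] a)
        rw [TensorProduct.smul_tmul', smul_eq_mul, mul_one]
      rw [h3]
      exact Subalgebra.smul_mem _ (hr a) e
  have hbij : Function.Bijective f := by
    constructor
    · rw [injective_iff_map_eq_zero]
      intro z hz
      obtain ⟨x, rfl⟩ := hgs z
      refine hg x ((hv x).1 ?_)
      rw [← hfg]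
      exact hz
    · intro q
      obtain ⟨x, rfl⟩ := hvs q
      exact ⟨g x, by rw [← hfg]; rfl⟩
  exact Module.Flat.of_linearEquiv (AlgEquiv.ofBijective f hbij).symm.toLinearEquiv

lemma flat_quot [Module.Flat C (MonoidAlgebra C Γ ⧸ J)] (E : Type u) [CommRing E] [Algebra C E] :
    Module.Flat E (MonoidAlgebra E Γ ⧸ JE C E J) := by
  refine flat_bc_aux (J := J) (gl J) (fun x => ?_) (fun a => ?_) (gl (JE C E J)) (fun x => ?_) (fun a => ?_)
  · rw [lift_gl, Ideal.Quotient.eq_zero_iff_mem]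
  · obtain ⟨x, rfl⟩ := Ideal.Quotient.mk_surjective a
    exact ⟨x, lift_gl x⟩
  · rw [lift_gl, Ideal.Quotient.eq_zero_iff_mem]
  · obtain ⟨x, rfl⟩ := Ideal.Quotient.mk_surjective a
    exact ⟨x, lift_gl x⟩

end bc

section local_

variable {C : Type u} [CommRing C] {Γ : Type} [CommGroup Γ] {J : Ideal (MonoidAlgebra C Γ)} (p : Ideal C) [p.IsPrime]

/-- the condition over the residue field, over a local `C`-algebra centred at `p` -/
lemma aug_le_of_at [Group.FG Γ] {L : Type u} [CommRing L] [IsLocalRing L] [Algebra C L]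
    (hp : ∀ s, algebraMap C L s ∈ IsLocalRing.maximalIdeal L ↔ s ∈ p) (hJ : IsKer J) {N : Subgroup Γ}
    (h : Triv C L J N) (h' : ∀ n ∈ N, MonoidAlgebra.single n 1 - 1 ∈ JE C p.ResidueField J) :
    aug L N ≤ JE C L J := by
  refine aug_le (isKer_JE hJ) (triv_JE h) fun n hn => ?_
  obtain ⟨s, hs, j, hj, h3⟩ := at_of_mem_JE p J n (h' n hn)
  refine ⟨algebraMap C _ s, fun h4 => hs ((hp s).1 h4), MonoidAlgebra.mapRingHom Γ (algebraMap C _) j,
    Ideal.mem_map_of_mem _ hj, fun m => ?_⟩
  have h5 : (algebraMap C L s) • (MonoidAlgebra.single n (1 : L) - 1) -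
      MonoidAlgebra.mapRingHom Γ (algebraMap C _) j =
      MonoidAlgebra.mapRingHom Γ (algebraMap C _) (s • (MonoidAlgebra.single n 1 - 1) - j) := by
    rw [map_sub, mapRingHom_smul, map_sub, map_one, MonoidAlgebra.mapRingHom_single, map_one, algebraMap_smul]
  rw [h5, MonoidAlgebra.coeff_mapRingHom]
  exact (hp _).2 (h3 m)

lemma mapRing_red {E L : Type u} [CommRing E] [CommRing L] [Algebra E L] (N : Subgroup Γ) (x : MonoidAlgebra E Γ) :
    red L L N (MonoidAlgebra.mapRingHom Γ (algebraMap E L) x) =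
      MonoidAlgebra.mapRingHom (Γ ⧸ N) (algebraMap E L) (red E E N x) := by
  induction x using MonoidAlgebra.induction_linear with
  | zero => simp
  | add x y hx hy => rw [map_add, map_add, map_add, map_add, hx, hy]
  | single m c =>
    rw [red_single, MonoidAlgebra.mapRingHom_single, red_single, MonoidAlgebra.mapRingHom_single]
    rfl

lemma mapRing_eq_zero {E L : Type u} [CommRing E] [CommRing L] [Algebra E L] {Γ : Type} [CommGroup Γ]
    (x : MonoidAlgebra E Γ) :
    MonoidAlgebra.mapRingHom Γ (algebraMap E L) x = 0 ↔ ∀ m, x.coeff m ∈ RingHom.ker (algebraMap E L) := by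
  constructor
  · intro h0 m
    have h1 := congr(MonoidAlgebra.coeff $h0 m)
    rw [MonoidAlgebra.coeff_mapRingHom] at h1
    exact h1
  · intro h0
    apply MonoidAlgebra.coeff_injective
    ext m
    rw [MonoidAlgebra.coeff_mapRingHom]
    exact h0 m

lemma JE_JE {E L : Type u} [CommRing E] [CommRing L] [Algebra E L] [Algebra C E] [Algebra C L] [IsScalarTower C E L] :
    JE E L (JE C E J) = JE C L J := by
  rw [JE, JE, JE, Ideal.map_map]
  congr 1
  refine MonoidAlgebra.ringHom_ext (fun r => ?_) (fun m => ?_)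
  · simp only [RingHom.comp_apply, MonoidAlgebra.mapRingHom_single]
    rw [← IsScalarTower.algebraMap_apply]
  · simp only [RingHom.comp_apply, MonoidAlgebra.mapRingHom_single, map_one]

/-- the square-zero step -/
lemma triv_step [Group.FG Γ] [Module.Flat C (MonoidAlgebra C Γ ⧸ J)] {E L : Type u} [CommRing E] [CommRing L]
    [IsLocalRing L] [Algebra C E] [Algebra C L] [Algebra E L] [IsScalarTower C E L]
    (hs : Function.Surjective (algebraMap E L))
    (hI : RingHom.ker (algebraMap E L) * RingHom.ker (algebraMap E L) = ⊥)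
    (hp : ∀ s, algebraMap C L s ∈ IsLocalRing.maximalIdeal L ↔ s ∈ p) (hJ : IsKer J) {N : Subgroup Γ}
    (hL : Triv C L J N) (h' : ∀ n ∈ N, MonoidAlgebra.single n 1 - 1 ∈ JE C p.ResidueField J) :
    Triv C E J N := by
  have hL' := aug_le_of_at p hp hJ hL h'
  have hfl : Module.Flat E (MonoidAlgebra E Γ ⧸ JE C E J) := flat_quot E
  have key : JE C E J = aug E N := by
    refine eq_aug (isKer_JE hJ) hI (fun j hj => ?_) (fun n hn => ?_)
    · rw [← mapRing_eq_zero, ← mapRing_red]
      have h1 : MonoidAlgebra.mapRingHom Γ (algebraMap E L) j ∈ JE C L J := by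
        rw [← JE_JE (E := E)]
        exact Ideal.mem_map_of_mem _ hj
      have h2 := triv_JE hL h1
      rwa [mem_aug_iff] at h2
    · have h1 : MonoidAlgebra.single n 1 - 1 ∈ JE C L J := hL' (single_mem_aug L hn)
      rw [← JE_JE (E := E), JE, Ideal.mem_map_iff_of_surjective] at h1
      · obtain ⟨j, hj, hj'⟩ := h1
        refine ⟨j, hj, (mapRing_eq_zero _).1 ?_⟩
        rw [map_sub, hj', map_sub, map_one, MonoidAlgebra.mapRingHom_single, map_one, sub_self]
      · intro y
        induction y using MonoidAlgebra.induction_linear with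
        | zero => exact ⟨0, map_zero _⟩
        | add x y hx hy =>
          obtain ⟨x, rfl⟩ := hx
          obtain ⟨y, rfl⟩ := hy
          exact ⟨x + y, map_add _ _ _⟩
        | single m c =>
          obtain ⟨c, rfl⟩ := hs c
          exact ⟨MonoidAlgebra.single m c, MonoidAlgebra.mapRingHom_single _ _ _⟩
  intro x hx
  have h1 : MonoidAlgebra.mapRingHom Γ (algebraMap C E) x ∈ aug E N := key ▸ Ideal.mem_map_of_mem _ hx
  rw [mem_aug_iff] at h1
  have h0 : ∀ x : MonoidAlgebra C Γ, red E E N (MonoidAlgebra.mapRingHom _ (algebraMap C E) x) = red C E N x := by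
    intro x
    induction x using MonoidAlgebra.induction_linear with
    | zero => simp
    | add x y hx hy => simp only [map_add, hx, hy]
    | single m c =>
      rw [red_single, MonoidAlgebra.mapRingHom_single, red_single, Algebra.algebraMap_self, RingHom.id_apply]
  rwa [h0] at h1

/-- Flatness and Nakayama. -/
lemma triv_of_flat [Group.FG Γ] [Module.Flat C (MonoidAlgebra C Γ ⧸ J)] (hfg : J.FG) (hJ : IsKer J) {N : Subgroup Γ}
    (h : Triv C p.ResidueField J N) (h' : ∀ n ∈ N, MonoidAlgebra.single n 1 - 1 ∈ JE C p.ResidueField J) :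
    Triv C (Localization.AtPrime p) J N := by
  obtain ⟨a, hafg, ha⟩ := exists_coeffIdeal hfg N
  let R := Localization.AtPrime p
  let b : Ideal R := a.map (algebraMap C R)
  have hbfg : b.FG := hafg.map _
  have hb : b ≤ IsLocalRing.maximalIdeal R := by
    rw [Ideal.map_le_iff_le_comap]
    intro x hx
    have h1 := (ha _).1 h hx
    rw [RingHom.mem_ker, Ideal.algebraMap_residueField_eq_zero] at h1
    rw [Ideal.mem_comap, ← Localization.AtPrime.map_eq_maximalIdeal]
    exact Ideal.mem_map_of_mem _ h1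
  have hb2 : b * b ≤ b := Ideal.mul_le_right
  have hne : b ≠ ⊤ := fun h0 => (IsLocalRing.maximalIdeal.isMaximal R).ne_top (top_le_iff.1 (h0 ▸ hb))
  have hnt : Nontrivial (R ⧸ b) := Ideal.Quotient.nontrivial_iff.2 hne
  have hloc : IsLocalRing (R ⧸ b) := IsLocalRing.of_surjective' (Ideal.Quotient.mk b) Ideal.Quotient.mk_surjective
  let π : (R ⧸ b * b) →+* (R ⧸ b) := Ideal.Quotient.factor hb2
  have hπ : Function.Surjective π := Ideal.Quotient.factor_surjective hb2
  have hπI : RingHom.ker π = b.map (Ideal.Quotient.mk (b * b)) := by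
    ext x
    obtain ⟨x, rfl⟩ := Ideal.Quotient.mk_surjective x
    have h1 : π (Ideal.Quotient.mk _ x) = Ideal.Quotient.mk b x := Ideal.Quotient.factor_mk hb2 x
    rw [RingHom.mem_ker, h1, Ideal.Quotient.eq_zero_iff_mem, Ideal.mem_map_iff_of_surjective _ Ideal.Quotient.mk_surjective]
    constructor
    · intro hx
      exact ⟨x, hx, rfl⟩
    · rintro ⟨y, hy, hxy⟩
      rw [Ideal.Quotient.eq] at hxy
      have h2 : x = y - (y - x) := by ring
      rw [h2]
      exact Ideal.sub_mem _ hy (hb2 hxy)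
  let _ : Algebra (R ⧸ b * b) (R ⧸ b) := π.toAlgebra
  have htw : @IsScalarTower C (R ⧸ b * b) (R ⧸ b) Algebra.toSMul Algebra.toSMul Algebra.toSMul :=
    IsScalarTower.of_algebraMap_eq fun x => rfl
  have hI : RingHom.ker (algebraMap (R ⧸ b * b) (R ⧸ b)) * RingHom.ker (algebraMap (R ⧸ b * b) (R ⧸ b)) = ⊥ := by
    change RingHom.ker π * RingHom.ker π = ⊥
    rw [hπI]
    exact (Ideal.map_mul (Ideal.Quotient.mk (b * b)) b b).symm.trans (Ideal.map_quotient_self _)
  have hL : Triv C (R ⧸ b) J N := by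
    rw [ha]
    intro x hx
    rw [RingHom.mem_ker]
    change Ideal.Quotient.mk _ (algebraMap C R x) = 0
    rw [Ideal.Quotient.eq_zero_iff_mem]
    exact Ideal.mem_map_of_mem _ hx
  have hp : ∀ s, algebraMap C (R ⧸ b) s ∈ IsLocalRing.maximalIdeal (R ⧸ b) ↔ s ∈ p := by
    intro s
    rw [← IsLocalization.AtPrime.to_map_mem_maximal_iff (Localization.AtPrime p) p s,
      IsLocalRing.mem_maximalIdeal, IsLocalRing.mem_maximalIdeal, mem_nonunits_iff, mem_nonunits_iff, not_iff_not]
    change IsUnit (Ideal.Quotient.mk b (algebraMap C R s)) ↔ _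
    constructor
    · intro hu
      by_contra hc
      have h1 : algebraMap C R s ∈ IsLocalRing.maximalIdeal R := (IsLocalRing.mem_maximalIdeal _).2 hc
      obtain ⟨t, ht⟩ := hu.exists_right_inv
      obtain ⟨t, rfl⟩ := Ideal.Quotient.mk_surjective t
      rw [← map_mul, ← map_one (Ideal.Quotient.mk b), Ideal.Quotient.eq] at ht
      have h2 : (1 : R) ∈ IsLocalRing.maximalIdeal R := by
        have h3 : (1 : R) = algebraMap C R s * t - (algebraMap C R s * t - 1) := by ring
        rw [h3]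
        exact Ideal.sub_mem _ (Ideal.mul_mem_right _ _ h1) (hb ht)
      exact (IsLocalRing.maximalIdeal.isMaximal R).ne_top ((Ideal.eq_top_iff_one _).2 h2)
    · exact fun hu => hu.map _
  have h3 := (ha (R ⧸ b * b)).1 (triv_step p hπ hI hp hJ hL h')
  have h4 : b ≤ b * b := by
    rw [Ideal.map_le_iff_le_comap]
    intro x hx
    have h5 := h3 hx
    rw [RingHom.mem_ker] at h5
    change Ideal.Quotient.mk _ (algebraMap C R x) = 0 at h5
    rwa [Ideal.Quotient.eq_zero_iff_mem] at h5
  have h5 : b = ⊥ := Submodule.eq_bot_of_le_smul_of_le_jacobson_bot b b hbfg h4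
    (hb.trans (IsLocalRing.maximalIdeal_le_jacobson _))
  rw [ha]
  intro x hx
  rw [RingHom.mem_ker, ← Ideal.mem_bot, ← h5]
  exact Ideal.mem_map_of_mem _ hx

end local_

section final

variable {C : Type u} [CommRing C] {Γ : Type} [CommGroup Γ] {J : Ideal (MonoidAlgebra C Γ)}

/-- **A flat closed subgroup of `D(Γ)` is Zariski-locally `D(Γ/N)`.** -/
theorem exists_local_flat [Group.FG Γ] [Module.Flat C (MonoidAlgebra C Γ ⧸ J)] (hfg : J.FG) (hJ : IsKer J)
    (p : Ideal C) [p.IsPrime] :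
    ∃ f, f ∉ p ∧ ∃ N : Subgroup Γ, ∀ (E : Type u) [CommRing E] [Algebra C E], IsUnit (algebraMap C E f) →
      ∀ χ : Γ →* E, (∀ x ∈ J, MonoidAlgebra.lift C E Γ χ x = 0) ↔ ∀ n ∈ N, χ n = 1 := by
  classical
  obtain ⟨N, hN, hN'⟩ := exists_subgroup p.ResidueField hJ
  have h1 := triv_of_flat p hfg hJ hN hN'
  have h2 : aug (Localization.AtPrime p) N ≤ JE C (Localization.AtPrime p) J :=
    aug_le_of_at p (fun s => IsLocalization.AtPrime.to_map_mem_maximal_iff (Localization.AtPrime p) p s) hJ h1 hN'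
  obtain ⟨a, hafg, ha⟩ := exists_coeffIdeal hfg N
  obtain ⟨f₀, hf₀, hf₀'⟩ := exists_notMem_of_fg p hafg ((ha _).1 h1)
  obtain ⟨t, ht, ht'⟩ := exists_finset N
  have h3 : ∀ n ∈ t, ∃ s, s ∉ p ∧ s • (MonoidAlgebra.single n 1 - 1) ∈ J := by
    intro n hn
    apply exists_smul_mem
    rw [map_sub, map_one, MonoidAlgebra.mapRingHom_single, map_one]
    exact h2 (single_mem_aug _ (ht n hn))
  choose! s hs hs' using h3
  refine ⟨f₀ * ∏ n ∈ t, s n, ?_, N, fun E _ _ hE χ => ?_⟩
  · intro h0
    refine (‹p.IsPrime›.mem_or_mem h0).elim hf₀ ?_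
    have : ∏ x ∈ t, s x ∈ p.primeCompl := Submonoid.prod_mem _ fun x hx => hs x hx
    exact this
  rw [map_mul, IsUnit.mul_iff] at hE
  constructor
  · intro h
    let P : Subgroup Γ :=
      { carrier := {n | χ n = 1}
        one_mem' := map_one χ
        mul_mem' := fun {a b} ha hb => by
          change χ _ = 1
          change χ _ = 1 at ha
          change χ _ = 1 at hb
          rw [map_mul, ha, hb, mul_one]
        inv_mem' := fun {a} ha => by
          change χ _ = 1
          change χ _ = 1 at ha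
          have h1 : χ a * χ a⁻¹ = 1 := by rw [← map_mul, mul_inv_cancel, map_one]
          rwa [ha, one_mul] at h1 }
    intro n hn
    refine ht' P (fun n hn => ?_) hn
    have h4 := h _ (hs' n hn)
    rw [map_smul, map_sub, map_one, MonoidAlgebra.lift_single, one_smul, Algebra.smul_def] at h4
    have h5 : IsUnit (algebraMap C E (s n)) := by
      refine isUnit_of_dvd_unit ?_ hE.2
      exact map_dvd _ (Finset.dvd_prod_of_mem s hn)
    have h6 : χ n - 1 = 0 := (h5.mul_right_eq_zero).1 h4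
    change χ n = 1
    rwa [sub_eq_zero] at h6
  · intro h x hx
    refine lift_quot χ h ?_
    refine (ha E).2 (fun c hc => ?_) x hx
    rw [RingHom.mem_ker]
    have h4 := congrArg (algebraMap C E) (hf₀' c hc)
    rw [map_mul, map_zero] at h4
    exact (hE.1.mul_right_eq_zero).1 h4

end final

end K21.FlatKer
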