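import Groth.Agent.Neron.K488.LftGen
import Groth.Agent.Neron.K488.PicAff
import Mathlib.AlgebraicGeometry.Limits

/-!
# Extension of morphisms from the generic fibre is étale-local
-/

set_option autoImplicit false
universe u

open CategoryTheory Limits AlgebraicGeometry MonoidalCategory CartesianMonoidalCategory MonObj

namespace K21.GenExt

open K488.LftGen

variable {S E : Scheme.{u}} {gn : E ⟶ S}

/-- Equality of morphisms can be checked on a jointly surjective family of open immersions. -/
lemma hom_ext_of_openImmersions {X Y : Scheme.{u}} (a b : X ⟶ Y) (h : ∀ x : X, ∃ (U : Scheme.{u}) (j : U ⟶ X),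
    IsOpenImmersion j ∧ x ∈ Set.range j ∧ j ≫ a = j ≫ b) : a = b := by
  refine Scheme.hom_ext_of_forall _ _ fun x => ?_
  obtain ⟨U, j, hj, hx, hab⟩ := h x
  refine ⟨j.opensRange, hx, ?_⟩
  have h1 : j.opensRange.ι = j.isoOpensRange.inv ≫ j := by
    rw [Scheme.Hom.isoOpensRange_inv_comp]
  rw [h1, Category.assoc, Category.assoc, hab]

/-- **Extension from the generic fibre is étale-local on the source.** -/
theorem exists_ext_of_local [IsSchemeTheoreticallyDominant gn] [QuasiCompact gn] {Y N : Over S}
    [Flat Y.hom] [IsSeparated N.hom] (f : gen gn Y ⟶ N)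
    (h : ∀ y : Y.left, ∃ (P : Over S) (p : P ⟶ Y) (w : P ⟶ N), Etale p.left ∧ y ∈ Set.range p.left ∧
      proj gn P ≫ w = genMap gn p ≫ f) : ∃ g : Y ⟶ N, proj gn Y ≫ g = f := by
  choose P p w hp hy hw using h
  let X : Y.left → Scheme.{u} := fun y => (P y).left
  let q : (∐ X) ⟶ Y.left := Sigma.desc fun y => (p y).left
  have hq1 : Etale q := IsZariskiLocalAtSource.sigmaDesc (P := @Etale) hp
  have hq2 : Surjective q := Surjective.sigmaDesc_of_union_range_eq_univ (by
    rw [Set.eq_univ_iff_forall]
    intro y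
    exact Set.mem_iUnion.2 ⟨y, hy y⟩)
  let P' : Over S := Over.mk (q ≫ Y.hom)
  let p' : P' ⟶ Y := Over.homMk q rfl
  let w₀ : (∐ X) ⟶ N.left := Sigma.desc fun y => (w y).left
  let w' : P' ⟶ N := Over.homMk w₀ (by
    apply Sigma.hom_ext
    intro y
    change Sigma.ι X y ≫ w₀ ≫ N.hom = Sigma.ι X y ≫ q ≫ Y.hom
    rw [Sigma.ι_desc_assoc, Sigma.ι_desc_assoc, Over.w, Over.w])
  let inc : ∀ y, P y ⟶ P' := fun y => Over.homMk (Sigma.ι X y) (by
    change Sigma.ι X y ≫ q ≫ Y.hom = _
    rw [Sigma.ι_desc_assoc, Over.w])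
  have hιp : ∀ y, inc y ≫ p' = p y := fun y => by
    ext1
    exact Sigma.ι_desc _ _
  have hιw : ∀ y, inc y ≫ w' = w y := fun y => by
    ext1
    exact Sigma.ι_desc _ _
  have i1 : Flat p'.left := inferInstanceAs (Flat q)
  have i2 : Surjective p'.left := hq2
  have i3 : LocallyOfFinitePresentation p'.left := inferInstanceAs (LocallyOfFinitePresentation q)
  have hw' : proj gn P' ≫ w' = genMap gn p' ≫ f := by
    ext1
    refine hom_ext_of_openImmersions _ _ fun x => ?_
    obtain ⟨z, hz⟩ := (sigmaOpenCover X).covers ((proj gn P').left x)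
    let y := (sigmaOpenCover X).idx ((proj gn P').left x)
    have hpb := isPullback_genMap (gn := gn) (inc y)
    refine ⟨_, (genMap gn (inc y)).left, ?_, ?_, ?_⟩
    · have : IsOpenImmersion (inc y).left := inferInstanceAs (IsOpenImmersion ((sigmaOpenCover X).f _))
      exact MorphismProperty.of_isPullback (P := @IsOpenImmersion) hpb inferInstance
    · obtain ⟨t, ht1, ht2⟩ := Scheme.Pullback.exists_preimage_pullback (f := (inc y).left) (g := (proj gn P').left) z x hz
      refine ⟨hpb.isoPullback.inv t, ?_⟩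
      rw [← Scheme.Hom.comp_apply, IsPullback.isoPullback_inv_snd, ht2]
    · have h1 : genMap gn (inc y) ≫ proj gn P' ≫ w' = genMap gn (inc y) ≫ genMap gn p' ≫ f := by
        have h2 : genMap gn (inc y) ≫ genMap gn p' = genMap gn (p y) := by
          unfold genMap
          rw [← Functor.map_comp, ← Functor.map_comp, hιp]
        rw [← Category.assoc, genMap_proj, Category.assoc, hιw, hw, reassoc_of% h2]
      exact congrArg (fun t => t.left) h1
  obtain ⟨g, hg, -⟩ := exists_ext_of_cover p' f w' hw'
  exact ⟨g, hg⟩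

end K21.GenExt
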