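import Groth.Agent.SGA3x.K21.GenExt
import Groth.Agent.Sga3.H828.DiagChart
import Groth.Agent.Sga3B.BorLoc613
import Groth.Agent.Sga4B.EtaleDomain
import Groth.Agent.Sga4B.ExtendLC
import Groth.Agent.SGA3x.K10.MTLoc
import Groth.Agent.SGA3x.K7.DSProp
import Groth.Agent.SGA3x.K6.HomDS

/-!
# Homomorphisms from a diagonalisable group to a group of multiplicative type extend from the generic point of a
normal integral scheme

* `gp` : the action on points of a homomorphism of the generic fibres;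
* `exists_hom_ext`.
-/

set_option autoImplicit false
universe u
open CategoryTheory MonoidalCategory CartesianMonoidalCategory MonObj GrpObj AlgebraicGeometry Limits

namespace K21.GenHom

open Groth.Agent Groth.Agent.Sga3B Groth.Agent.Sga3B.DSPts Groth.Agent.Sga3B.InfConj Groth.Agent.Sga3B.InfConjFam
  Groth.Agent.Sga3B.DSRigid Groth.Agent.Sga3.H828.DiagChart Groth.Agent.Sga3.H828.DiagChart.Chart K488.LftGen

section gp

variable {S E : Scheme.{u}} {gn : E ⟶ S} {A B : Over S} [GrpObj A] [GrpObj B] (l : Red.bc gn A ⟶ Red.bc gn B)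

/-- The action of `l : A_E ⟶ B_E` on points of `A` with values in `X`, `X` over `S` and `E`. -/
noncomputable def gp {X : Over S} (κ : X ⟶ Over.mk gn) (x : X ⟶ A) : X ⟶ B :=
  (BcPts.overIso κ).inv ≫ (bcEquiv gn (Over.mk κ.left) B).symm (bcEquiv gn (Over.mk κ.left) A
    ((BcPts.overIso κ).hom ≫ x) ≫ l)

lemma gp_mul [IsMonHom l] {X : Over S} (κ : X ⟶ Over.mk gn) (x y : X ⟶ A) :
    gp l κ (x * y) = gp l κ x * gp l κ y := by
  unfold gp
  rw [MonObj.comp_mul, map_mul, MonObj.mul_comp, map_mul, MonObj.comp_mul]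

omit [GrpObj A] [GrpObj B] in
lemma overIso_naturality {X X' : Over S} (h : X' ⟶ X) (κ : X ⟶ Over.mk gn) :
    (BcPts.overIso (h ≫ κ)).hom ≫ h =
      (Over.map gn).map (Over.homMk h.left rfl : Over.mk (h ≫ κ).left ⟶ Over.mk κ.left) ≫ (BcPts.overIso κ).hom := by
  ext1
  change 𝟙 _ ≫ h.left = h.left ≫ 𝟙 _
  rw [Category.id_comp, Category.comp_id]

lemma comp_gp {X X' : Over S} (h : X' ⟶ X) (κ : X ⟶ Over.mk gn) (x : X ⟶ A) :
    h ≫ gp l κ x = gp l (h ≫ κ) (h ≫ x) := by
  unfold gp
  rw [← cancel_epi (BcPts.overIso (h ≫ κ)).hom, Iso.hom_inv_id_assoc, reassoc_of% (overIso_naturality h κ),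
    Iso.hom_inv_id_assoc, bcEquiv_symm_naturality, ← Category.assoc, bcEquiv_naturality]
  congr 4

lemma gp_map (φ : A ⟶ B) {X : Over S} (κ : X ⟶ Over.mk gn) (x : X ⟶ A) :
    gp ((Over.pullback gn).map φ) κ x = x ≫ φ := by
  unfold gp
  rw [bcEquiv_comp, MulEquiv.symm_apply_apply, Category.assoc, Iso.inv_hom_id_assoc]

/-- the tautological map `Y ×_S E ⟶ E` over `S`. -/
noncomputable def kap (gn : E ⟶ S) (Y : Over S) : gen gn Y ⟶ Over.mk gn :=
  Over.homMk ((Over.pullback gn).obj Y).hom rfl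

lemma genMap_kap {Y Z : Over S} (f : Y ⟶ Z) : genMap gn f ≫ kap gn Z = kap gn Y := by
  ext1
  exact Over.w ((Over.pullback gn).map f)

/-- `l` as a morphism `A ×_S E ⟶ B` -/
noncomputable def genHom : gen gn A ⟶ B := gp l (kap gn A) (proj gn A)

lemma genMap_genHom {P : Over S} (p : P ⟶ A) : genMap gn p ≫ genHom l = gp l (kap gn P) (proj gn P ≫ p) := by
  rw [genHom, comp_gp, genMap_kap, genMap_proj]

/-- the map to `Y ×_S E` -/
noncomputable def toGen {X Y : Over S} (κ : X ⟶ Over.mk gn) (x : X ⟶ Y) : X ⟶ gen gn Y :=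
  Over.homMk (pullback.lift x.left κ.left (by rw [Over.w x]; exact (Over.w κ).symm)) (by
    change pullback.lift x.left κ.left _ ≫ pullback.snd Y.hom gn ≫ gn = X.hom
    rw [pullback.lift_snd_assoc]
    exact Over.w κ)

lemma toGen_proj {X Y : Over S} (κ : X ⟶ Over.mk gn) (x : X ⟶ Y) : toGen κ x ≫ proj gn Y = x := by
  ext1
  rw [Over.comp_left, proj_left]
  exact pullback.lift_fst _ _ _

lemma toGen_kap {X Y : Over S} (κ : X ⟶ Over.mk gn) (x : X ⟶ Y) : toGen κ x ≫ kap gn Y = κ := by
  ext1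
  exact pullback.lift_snd _ _ _

/-- a morphism extending `genHom l` induces `l` -/
lemma gp_eq_comp {φ : A ⟶ B} (h : proj gn A ≫ φ = genHom l) {X : Over S} (κ : X ⟶ Over.mk gn) (x : X ⟶ A) :
    gp l κ x = x ≫ φ := by
  have h1 := congrArg (fun t => toGen κ x ≫ t) h
  beta_reduce at h1
  rw [← Category.assoc, toGen_proj, genHom, comp_gp, toGen_kap, toGen_proj] at h1
  exact h1.symm

lemma gp_taut {Z : Over E} (x : (Over.map gn).obj Z ⟶ A) :
    gp l (Over.homMk Z.hom rfl : (Over.map gn).obj Z ⟶ Over.mk gn) x =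
      (bcEquiv gn Z B).symm (bcEquiv gn Z A x ≫ l) := by
  let κ : (Over.map gn).obj Z ⟶ Over.mk gn := Over.homMk Z.hom rfl
  have h1 : (BcPts.overIso κ).hom ≫ x = (show (Over.map gn).obj (Over.mk κ.left) ⟶ A from x) := by
    ext1
    exact Category.id_comp _
  change (BcPts.overIso κ).inv ≫ (bcEquiv gn (Over.mk κ.left) B).symm (bcEquiv gn (Over.mk κ.left) A
    ((BcPts.overIso κ).hom ≫ x) ≫ l) = _
  rw [h1]
  ext1
  exact Category.id_comp _

lemma map_eq {φ : A ⟶ B} (h : proj gn A ≫ φ = genHom l) : (Over.pullback gn).map φ = l := by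
  have h1 := gp_eq_comp l h (Over.homMk (Red.bc gn A).hom rfl : (Over.map gn).obj (Red.bc gn A) ⟶ Over.mk gn)
    ((bcEquiv gn (Red.bc gn A) A).symm (𝟙 _))
  rw [← gp_map (gn := gn) φ (Over.homMk (Red.bc gn A).hom rfl : (Over.map gn).obj (Red.bc gn A) ⟶ Over.mk gn),
    gp_taut, gp_taut, MulEquiv.apply_symm_apply, Category.id_comp, Category.id_comp] at h1
  exact ((bcEquiv gn (Red.bc gn A) B).symm.injective h1).symm

/-- An extension of a homomorphism is a homomorphism. -/
lemma isMonHom_ext [IsMonHom l] [IsSchemeTheoreticallyDominant gn] [QuasiCompact gn] [Flat A.hom] [IsSeparated B.hom]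
    {φ : A ⟶ B} (h : proj gn A ≫ φ = genHom l) : IsMonHom φ := by
  have h1 : (fst A A * snd A A) ≫ φ = (fst A A ≫ φ) * (snd A A ≫ φ) := by
    have hfl : Flat (A ⊗ A).hom := by
      change Flat (pullback.fst A.hom A.hom ≫ A.hom)
      infer_instance
    refine ext_gen (gn := gn) ?_
    rw [← Category.assoc, MonObj.comp_mul, MonObj.comp_mul, ← gp_eq_comp l h (kap gn _), gp_mul,
      gp_eq_comp l h, gp_eq_comp l h, Category.assoc, Category.assoc]
  refine isMonHom_of_mul _ fun T x y => ?_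
  have h2 := congrArg (fun t => lift x y ≫ t) h1
  beta_reduce at h2
  rw [← Category.assoc, MonObj.comp_mul, MonObj.comp_mul, lift_fst, lift_snd, lift_fst_assoc, lift_snd_assoc] at h2
  exact h2

end gp

section lc

variable {W : Scheme.{u}} {N M : Type} [AddCommGroup N] [AddCommGroup M]

/-- A homomorphism `D(N) ⟶ D(M)` is given by a locally constant function with values in `Hom(M, N)`. -/
theorem exists_locConst [Module.Finite ℤ M] (u : Red.DS W N ⟶ Red.DS W M) [IsMonHom u] :
    ∃ Φ : LocallyConstant W (M →+ N), ∀ (φ : M →+ N) (Y : Over W) (q : Y ⟶ Red.DS W N),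
      (∀ y : Y.left, Φ (Y.hom y) = φ) → q ≫ u = q ≫ Red.DSmap W φ := by
  have h := fun z : W => BorLoc613.exists_near u z
  choose U hU φ hφ using h
  have h1 : ∀ z z' : W, z' ∈ U z → φ z' = φ z := by
    intro z z' hz'
    let O : W.Opens := U z ⊓ U z'
    refine K6.HomDS.cfam_injective (T := Over.mk O.ι) ⟨⟨z', hz', hU z'⟩⟩ ?_
    have h2 : ∀ z₁, O ≤ U z₁ → K6.HomDS.cfam W (φ z₁) (Over.mk O.ι) = fst _ _ ≫ u := by
      intro z₁ hz₁
      refine (hφ z₁ (Red.DS W N ⊗ Over.mk O.ι) (fst _ _) ?_).symm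
      rw [← Over.w (snd (Red.DS W N) (Over.mk O.ι))]
      rintro _ ⟨x, rfl⟩
      refine hz₁ ?_
      rw [Scheme.Hom.comp_apply]
      exact ((snd (Red.DS W N) (Over.mk O.ι)).left x).2
    rw [h2 z' inf_le_right, h2 z inf_le_left]
  let Φ : LocallyConstant W (M →+ N) :=
    ⟨φ, (IsLocallyConstant.iff_exists_open _).2 fun z => ⟨U z, (U z).isOpen, hU z, fun z' hz' => h1 z z' hz'⟩⟩
  refine ⟨Φ, fun φ' Y q hq => ?_⟩
  ext1
  refine GenExt.hom_ext_of_openImmersions _ _ fun y => ?_
  let O : Y.left.Opens := Y.hom ⁻¹ᵁ U (Y.hom y)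
  refine ⟨O, O.ι, inferInstance, ?_, ?_⟩
  · rw [Scheme.Opens.range_ι]
    exact hU _
  · let j : Over.mk (O.ι ≫ Y.hom) ⟶ Y := Over.homMk O.ι rfl
    have h2 : (j ≫ q) ≫ u = (j ≫ q) ≫ Red.DSmap W (φ (Y.hom y)) := by
      refine hφ _ _ _ ?_
      rintro _ ⟨x, rfl⟩
      change (O.ι ≫ Y.hom) x ∈ _
      rw [Scheme.Hom.comp_apply]
      exact x.2
    rw [show φ (Y.hom y) = φ' from hq y, Category.assoc, Category.assoc] at h2
    exact congrArg (fun t => t.left) h2

end lc

section loc

variable {S E : Scheme.{u}} {gn : E ⟶ S} {N M : Type} [AddCommGroup N] [AddCommGroup M] {T : Over S} [GrpObj T]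
  (l : Red.bc gn (Red.DS S N) ⟶ Red.bc gn T) {V : Scheme.{u}} (v : V ⟶ S) (c : Chart T (Over.mk v) M)

/-- the base `V ×_S E`, over `S` -/
noncomputable abbrev rr (gn : E ⟶ S) (v : V ⟶ S) : pullback v gn ⟶ S := pullback.fst v gn ≫ v

/-- the first projection -/
noncomputable def aa (gn : E ⟶ S) (v : V ⟶ S) : Over.mk (rr gn v) ⟶ Over.mk v := Over.homMk (pullback.fst v gn) rfl

/-- the second projection -/
noncomputable def bb (gn : E ⟶ S) (v : V ⟶ S) : Over.mk (rr gn v) ⟶ Over.mk gn :=
  Over.homMk (pullback.snd v gn) pullback.condition.symm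

/-- the homomorphism `D(N) ⟶ D(M)` over `V ×_S E` -/
noncomputable def uu : Red.DS (pullback v gn) N ⟶ Red.DS (pullback v gn) M :=
  dsEquiv (Red.DS (pullback v gn) N) M (show Multiplicative M →* Γ((Red.DS (pullback v gn) N).left, ⊤) from
    c.chr (st (rr gn v) _ ≫ aa gn v) (gp l (st (rr gn v) _ ≫ bb gn v) (tr (rr gn v) (𝟙 (Red.DS (pullback v gn) N)))))

lemma comp_uu {Y : Over (pullback v gn)} (q : Y ⟶ Red.DS (pullback v gn) N) :
    q ≫ uu l v c = dsEquiv Y M (show Multiplicative M →* Γ(Y.left, ⊤) from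
      c.chr (st (rr gn v) Y ≫ aa gn v) (gp l (st (rr gn v) Y ≫ bb gn v) (tr (rr gn v) q))) := by
  unfold uu
  rw [dsEquiv_naturality]
  congr 1
  have h1 := c.chr_comp ((Over.map (rr gn v)).map q) (st (rr gn v) _ ≫ aa gn v)
    (gp l (st (rr gn v) _ ≫ bb gn v) (tr (rr gn v) (𝟙 (Red.DS (pullback v gn) N))))
  rw [comp_gp, ← Category.assoc, ← st_comp, ← Category.assoc, ← st_comp, ← tr_comp, Category.comp_id] at h1
  exact h1.symm

lemma isMonHom_uu [IsMonHom l] : IsMonHom (uu l v c) := isMonHom_of_mul _ fun Y q q' => by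
  rw [comp_uu, comp_uu, comp_uu, tr_mul, gp_mul, map_mul]
  exact map_mul (dsEquiv Y M) _ _

/-- **The locally constant function attached to `l` on the chart.** -/
theorem exists_locConst_chart [IsMonHom l] [Module.Finite ℤ M] :
    ∃ Φ : LocallyConstant (pullback v gn : Scheme.{u}) (M →+ N), ∀ (φ : M →+ N) (X : Over S) (τ : X ⟶ Over.mk (rr gn v))
      (x : X ⟶ Red.DS S N), (∀ z : X.left, Φ (τ.left z) = φ) →
      c.chr (τ ≫ aa gn v) (gp l (τ ≫ bb gn v) x) = (dsChar x).comp (AddMonoidHom.toMultiplicative φ) := by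
  have := isMonHom_uu l v c
  obtain ⟨Φ, hΦ⟩ := exists_locConst (uu l v c)
  refine ⟨Φ, fun φ X τ x hτ => ?_⟩
  let r := rr gn v
  let T' : Over (pullback v gn) := Over.mk τ.left
  let e : X ⟶ (Over.map r).obj T' := Over.homMk (𝟙 _) (by
    change 𝟙 _ ≫ τ.left ≫ r = X.hom
    rw [Category.id_comp]
    exact Over.w τ)
  let q' : T' ⟶ Red.DS (pullback v gn) N := dsEquiv T' N (dsChar x : Multiplicative N →* Γ(X.left, ⊤))
  have h1 : e ≫ tr r q' = x := by
    unfold tr
    rw [dsEquiv_naturality, dsChar_dsEquiv]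
    refine Eq.trans ?_ (dsEquiv_dsChar x)
    congr 1
  have h2 : e ≫ st r T' = τ := by
    apply Over.OverMorphism.ext
    exact Category.id_comp _
  have h4 : q' ≫ uu l v c = q' ≫ Red.DSmap _ φ := hΦ φ T' q' hτ
  have h5 := congrArg dsChar h4
  rw [comp_uu, dsChar_dsEquiv, dsChar_DSmap, dsChar_dsEquiv] at h5
  have h6 := c.chr_comp e (st r T' ≫ aa gn v) (gp l (st r T' ≫ bb gn v) (tr r q'))
  rw [comp_gp, ← Category.assoc, h2, ← Category.assoc, h2, h1] at h6
  rw [h6]
  refine MonoidHom.ext fun m => ?_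
  refine (congrArg (fun t : Multiplicative M →* Γ(X.left, ⊤) => (𝟙 X.left : X.left ⟶ X.left).appTop.hom (t m)) h5).trans ?_
  change (Scheme.Hom.appTop (𝟙 X.left)) (dsChar x _) = _
  rw [Scheme.Hom.id_appTop]
  rfl

end loc

section normal

variable {S : Scheme.{u}} [IsIntegral S]
  (hnorm : ∀ x : S, IsDomain (S.presheaf.stalk x) ∧ IsIntegrallyClosed (S.presheaf.stalk x))

lemma range_gn : Set.range (S.fromSpecStalk (genericPoint S)) = {genericPoint S} := by
  rw [Scheme.range_fromSpecStalk]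
  ext y
  refine ⟨fun h => ?_, fun h => ?_⟩
  · exact (h.antisymm (genericPoint_specializes _)).eq
  · rw [show y = genericPoint S from h]
    exact specializes_refl _

instance quasiCompact_gn : QuasiCompact (S.fromSpecStalk (genericPoint S)) := by
  refine ⟨fun U _ _ => ?_⟩
  have : Subsingleton (Spec (S.presheaf.stalk (genericPoint S))) := by
    refine ⟨fun a b => (S.fromSpecStalk (genericPoint S)).isEmbedding.injective ?_⟩
    have ha : (S.fromSpecStalk (genericPoint S)) a ∈ ({genericPoint S} : Set S) := by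
      rw [← range_gn (S := S)]
      exact Set.mem_range_self a
    have hb : (S.fromSpecStalk (genericPoint S)) b ∈ ({genericPoint S} : Set S) := by
      rw [← range_gn (S := S)]
      exact Set.mem_range_self b
    exact ha.trans hb.symm
  exact Set.Subsingleton.isCompact (Set.subsingleton_of_subsingleton)

include hnorm in
/-- Locally constant functions extend from the generic fibre of an étale scheme over a normal integral scheme. -/
theorem comap_bijective {V : Scheme.{u}} (v : V ⟶ S) [Etale v] (A : Type*) :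
    Function.Bijective (LocallyConstant.comap (Z := A)
      ((pullback.fst v (S.fromSpecStalk (genericPoint S))).base.hom : C(_, V))) := by
  have hdom : ∀ x : V, IsDomain (V.presheaf.stalk x) := fun x =>
    Sga4B.EtaleDomain.isDomain_stalk_of_etale v x (hnorm _).1 (hnorm _).2
  have hr : Set.range (pullback.fst v (S.fromSpecStalk (genericPoint S))) = v ⁻¹' {genericPoint S} := by
    rw [← range_gn]
    exact Scheme.Pullback.range_fst v _
  refine Sga4B.ExtendLC.comap_bijective (pullback.fst v (S.fromSpecStalk (genericPoint S))) ?_ ?_ ?_ hdom _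
  · change Dense (Set.range (pullback.fst v _))
    rw [hr]
    exact Dense.preimage (dense_iff_closure_eq.2 (genericPoint_closure S)) v.isOpenMap
  · exact (pullback.fst v (S.fromSpecStalk (genericPoint S))).isEmbedding.isInducing
  · rw [hr]
    intro x y hxy hx
    have h1 : v y ⤳ v x := hxy.map v.continuous
    have h2 : v x = genericPoint S := hx
    rw [h2] at h1
    exact (h1.antisymm (genericPoint_specializes _)).eq

variable {N : Type} [AddCommGroup N] {T : Over S} [GrpObj T]
  (l : Red.bc (S.fromSpecStalk (genericPoint S)) (Red.DS S N) ⟶ Red.bc (S.fromSpecStalk (genericPoint S)) T)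
  [IsMonHom l]

include hnorm in
/-- the local extension -/
theorem exists_ext_chart {M : Type} [AddCommGroup M] [Module.Finite ℤ M] {V : Scheme.{u}} (v : V ⟶ S) [Etale v]
    (c : Chart T (Over.mk v) M) (y : (Red.DS S N).left) (hy : (Red.DS S N).hom y ∈ Set.range v) :
    ∃ (P : Over S) (p : P ⟶ Red.DS S N) (w : P ⟶ T), Etale p.left ∧ y ∈ Set.range p.left ∧
      proj _ P ≫ w = genMap _ p ≫ genHom l := by
  let gn := S.fromSpecStalk (genericPoint S)
  obtain ⟨x, hx⟩ := hy
  obtain ⟨Φ, hΦ⟩ := exists_locConst_chart l v c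
  obtain ⟨g, hg⟩ := (comap_bijective hnorm v (M →+ N)).2 Φ
  have hg' : ∀ z, Φ z = g (pullback.fst v gn z) := fun z => congrArg (fun k : LocallyConstant _ _ => k z) hg.symm
  let V' : V.Opens := ⟨{x' | g x' = g x}, g.isLocallyConstant.isOpen_fiber (g x)⟩
  let j : (V' : Scheme.{u}) ⟶ V := V'.ι
  let P : Over S := gen (j ≫ v) (Red.DS S N)
  let p : P ⟶ Red.DS S N := proj (j ≫ v) (Red.DS S N)
  let tP : P ⟶ Over.mk v := Over.homMk (((Over.pullback (j ≫ v)).obj (Red.DS S N)).hom ≫ j) (by
    change (_ ≫ j) ≫ v = _ ≫ j ≫ v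
    rw [Category.assoc])
  refine ⟨P, p, (c.chr tP).symm ((dsChar p).comp (AddMonoidHom.toMultiplicative (g x))), ?_, ?_, ?_⟩
  · exact MorphismProperty.of_isPullback (P := @Etale) (isPullback_proj (gn := j ≫ v) (Red.DS S N)).flip inferInstance
  · have h1 : (j ≫ v) (⟨x, rfl⟩ : V') = (Red.DS S N).hom y := by
      rw [Scheme.Hom.comp_apply]
      exact hx
    obtain ⟨t, ht1, -⟩ := Scheme.Pullback.exists_preimage_pullback (f := (Red.DS S N).hom) (g := j ≫ v) y ⟨x, rfl⟩ h1.symm
    refine ⟨t, ?_⟩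
    rw [proj_left]
    exact ht1
  · rw [genMap_genHom, chr_symm_comp]
    symm
    rw [MulEquiv.eq_symm_apply]
    let τ : gen gn P ⟶ Over.mk (rr gn v) := Over.homMk (pullback.lift (proj gn P ≫ tP).left (kap gn P).left (by
        exact (Over.w (proj gn P ≫ tP)).trans (Over.w (kap gn P)).symm)) (by
      change pullback.lift _ _ _ ≫ pullback.fst v gn ≫ v = _
      rw [pullback.lift_fst_assoc]
      exact Over.w (proj gn P ≫ tP))
    have h1 : τ ≫ aa gn v = proj gn P ≫ tP := by
      ext1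
      exact pullback.lift_fst _ _ _
    have h2 : τ ≫ bb gn v = kap gn P := by
      ext1
      exact pullback.lift_snd _ _ _
    have h3 := hΦ (g x) _ τ (proj gn P ≫ p) (fun z => by
      rw [hg', ← Scheme.Hom.comp_apply]
      have h4 : τ.left ≫ pullback.fst v gn = (proj gn P ≫ tP).left := congrArg (fun t => t.left) h1
      rw [h4]
      exact (((proj gn P).left ≫ ((Over.pullback (j ≫ v)).obj (Red.DS S N)).hom) z).2)
    rw [h1, h2] at h3
    rw [h3, dsChar_comp]
    rfl

include hnorm in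
/-- **Homomorphisms from a diagonalisable group to a group of multiplicative type and of finite type extend from the
generic point of a normal integral scheme.** -/
theorem exists_hom_ext (hT : SGA3x.IsMultTypeFT T) :
    ∃ φ : Red.DS S N ⟶ T, IsMonHom φ ∧ (Over.pullback (S.fromSpecStalk (genericPoint S))).map φ = l := by
  have hTa : IsAffineHom T.hom := K10.MTLoc.isAffineHom hT
  have hfl : Flat (Red.DS S N).hom := by
    have := K10.MTLoc.diag_flat.{u} N
    change Flat (pullback.snd _ _)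
    infer_instance
  obtain ⟨φ, hφ⟩ := GenExt.exists_ext_of_local (gn := S.fromSpecStalk (genericPoint S)) (genHom l) (fun y => by
    obtain ⟨B, _, v, M, _, hv, hs, hM, ⟨e⟩⟩ := K10.MTLoc.exists_etale_split hT ((Red.DS S N).hom y)
    have : Module.Finite ℤ M := Module.Finite.iff_addGroup_fg.mpr hM
    exact exists_ext_chart hnorm l v (Chart.ofIso v e) y hs)
  exact ⟨φ, isMonHom_ext l hφ, map_eq l hφ⟩

/-- uniqueness -/
theorem hom_ext_unique {A B : Over S} [Flat A.hom] [IsSeparated B.hom] {φ ψ : A ⟶ B}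
    (h : (Over.pullback (S.fromSpecStalk (genericPoint S))).map φ =
      (Over.pullback (S.fromSpecStalk (genericPoint S))).map ψ) : φ = ψ := by
  refine ext_gen (gn := S.fromSpecStalk (genericPoint S)) ?_
  rw [← genMap_proj, ← genMap_proj]
  unfold genMap
  rw [h]

end normal

end K21.GenHom
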