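import Groth.Agent.Sga3B.KerGrp
import Groth.Agent.Sga3.H797.HomFin
import Groth.Agent.Sga3.H826.HomExt
import Groth.Agent.Sga3C.GrpSep
import Groth.Agent.Sga3.H778.NeutralPts

/-!
# Kernels of homomorphisms from smooth groups with connected fibres are closed

`G` smooth over `S` with connected fibres, `H` an arbitrary group scheme over `S` (not necessarily separated) whose unit
section is contained in an open subscheme separated over `S`, `u : G ⟶ H` a homomorphism.

* `isClosedImmersion_kerι`: the kernel of `u` is a closed subscheme of `G`.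
-/

set_option autoImplicit false
universe u
open CategoryTheory MonoidalCategory CartesianMonoidalCategory MonObj GrpObj AlgebraicGeometry Limits

namespace K21.KerClosed

open Groth.Agent Groth.Agent.Sga3B.KerGrp

variable {S : Scheme.{u}} {G H : Over S} [GrpObj G] [GrpObj H]

instance isImmersion_kerι (u : G ⟶ H) : IsImmersion (kerι u).left := by
  have h0 : IsImmersion (𝟙 S) := inferInstance
  have h1 : IsImmersion ((η[H] : 𝟙_ (Over S) ⟶ H).left ≫ H.hom) := by
    rw [unit_w]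
    exact h0
  have h2 : IsImmersion (η[H] : 𝟙_ (Over S) ⟶ H).left := IsImmersion.of_comp _ H.hom
  exact inferInstanceAs (IsImmersion (pullback.fst u.left _))

/-- The range of the kernel is closed. -/
theorem isClosed_range [Smooth G.hom] (hconn : ∀ s : S, _root_.IsConnected (G.hom.base ⁻¹' {s})) (u : G ⟶ H)
    [IsMonHom u] (W : H.left.Opens) (hW : ∀ s : S, (η[H] : 𝟙_ (Over S) ⟶ H).left s ∈ W)
    [IsSeparated (W.ι ≫ H.hom)] : IsClosed (Set.range (kerι u).left) := by
  have hgi : GeometricallyIrreducible G.hom := by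
    have : GrpObj (Over.mk G.hom) := ‹GrpObj G›
    exact Sga3C.GrpIrr.geometricallyIrreducible_of_connected_fibres G.hom hconn
  let Ω : G.left.Opens := u.left ⁻¹ᵁ W
  let Ω' : G.left.Opens := (ι[G]).left ⁻¹ᵁ Ω
  let N : (G ⊗ G).left.Opens := (fst G G).left ⁻¹ᵁ Ω' ⊓ (snd G G).left ⁻¹ᵁ Ω
  let Y : Over S := Over.mk (N.ι ≫ (G ⊗ G).hom)
  let j : Y ⟶ G ⊗ G := Over.homMk N.ι rfl
  let a : Y ⟶ G := (j ≫ fst G G)⁻¹
  let b : Y ⟶ G := j ≫ snd G G
  let m : Y ⟶ G := j ≫ μ[G]
  have hm : m = a⁻¹ * b := by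
    change j ≫ μ[G] = ((j ≫ fst G G)⁻¹)⁻¹ * (j ≫ snd G G)
    rw [_root_.inv_inv, ← MonObj.comp_mul, Hom.mul_def, lift_fst_snd, Category.id_comp]
  -- `a` and `b` take values in `W`
  let V : Over S := Over.mk (W.ι ≫ H.hom)
  let w : V ⟶ H := Over.homMk W.ι rfl
  have hV : IsSeparated V.hom := ‹_›
  have hw : Mono w := by
    have : Mono w.left := inferInstanceAs (Mono W.ι)
    exact Over.mono_of_mono_left w
  have hfac : ∀ c : Y ⟶ G, Set.range c.left ⊆ Ω → ∃ c' : Y ⟶ V, c' ≫ w = c ≫ u := by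
    intro c hc
    have h1 : Set.range (c ≫ u).left ⊆ Set.range W.ι := by
      rw [Scheme.Opens.range_ι]
      rintro _ ⟨y, rfl⟩
      rw [Over.comp_left, Scheme.Hom.comp_apply]
      exact hc ⟨y, rfl⟩
    refine ⟨Over.homMk (IsOpenImmersion.lift W.ι (c ≫ u).left h1) ?_, ?_⟩
    · change _ ≫ W.ι ≫ H.hom = _
      rw [← Category.assoc, IsOpenImmersion.lift_fac, Over.w]
    · ext1
      exact IsOpenImmersion.lift_fac _ _ _
  obtain ⟨a', ha'⟩ := hfac a (by
    rintro _ ⟨y, rfl⟩
    change ((j ≫ fst G G)⁻¹ : Y ⟶ G).left y ∈ Ω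
    rw [Hom.inv_def, Over.comp_left, Scheme.Hom.comp_apply]
    exact y.2.1)
  obtain ⟨b', hb'⟩ := hfac b (by
    rintro _ ⟨y, rfl⟩
    exact y.2.2)
  obtain ⟨Z, z, hz, hZ, -⟩ := Sga3.H797.HomFin.exists_eq a' b'
  have hZ' : ∀ (T : Over S) (g : T ⟶ Y), (∃ t : T ⟶ Z, t ≫ z = g) ↔ (g ≫ m) ≫ u = 1 := by
    intro T g
    have h1 : (g ≫ m) ≫ u = ((g ≫ a) ≫ u)⁻¹ * ((g ≫ b) ≫ u) := by
      rw [hm, MonObj.comp_mul, GrpObj.comp_inv, MonObj.mul_comp, GrpObj.inv_comp]
    rw [hZ, ← cancel_mono w, Category.assoc g a', Category.assoc g b', ha', hb', h1, inv_mul_eq_one,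
      Category.assoc g a, Category.assoc g b]
  have hpre : m.left ⁻¹' (Set.range (kerι u).left) = Set.range z.left := by
    ext p
    constructor
    · rintro ⟨q, hq⟩
      obtain ⟨r, hr, -⟩ := Scheme.Pullback.exists_preimage_pullback p q hq.symm
      let X : Over S := Over.mk (pullback.fst m.left (kerι u).left ≫ Y.hom)
      let x : X ⟶ Y := Over.homMk (pullback.fst m.left (kerι u).left) rfl
      have hcond : pullback.fst m.left (kerι u).left ≫ m.left = pullback.snd m.left (kerι u).left ≫ (kerι u).left :=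
        pullback.condition
      let x' : X ⟶ kerObj u := Over.homMk (pullback.snd m.left (kerι u).left) (by
        change _ = pullback.fst m.left (kerι u).left ≫ Y.hom
        rw [← Over.w m, ← Over.w (kerι u), ← Category.assoc, ← Category.assoc, hcond])
      have hx : x ≫ m = x' ≫ kerι u := by
        ext1
        exact hcond
      obtain ⟨t, ht⟩ := (hZ' X x).mpr (by rw [hx, Category.assoc, kerι_comp, MonObj.comp_one])
      refine ⟨t.left r, ?_⟩
      rw [← Scheme.Hom.comp_apply, ← Over.comp_left, ht]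
      exact hr
    · rintro ⟨q, rfl⟩
      obtain ⟨t, ht⟩ := Sga3B.KerGrp.exists_lift u (z ≫ m) ((hZ' Z z).mp ⟨𝟙 _, Category.id_comp _⟩)
      refine ⟨t.left q, ?_⟩
      rw [← Scheme.Hom.comp_apply, ← Over.comp_left, ht, Over.comp_left, Scheme.Hom.comp_apply]
  have hs : Smooth (μ[G]).left := Sga3.H826.HomExt.smooth_mul G
  have ho : IsOpenMap m.left := by
    have h1 : Smooth (N.ι ≫ (μ[G]).left) := inferInstance
    exact (N.ι ≫ (μ[G]).left).isOpenMap
  have hsurj : Function.Surjective m.left := by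
    intro g
    let e := (η[G] : 𝟙_ (Over S) ⟶ G).left
    have he : e ≫ G.hom = 𝟙 S := Over.w (η[G] : 𝟙_ (Over S) ⟶ G)
    have he1 : ∀ s, e s ∈ Ω := fun s => by
      change u.left (e s) ∈ W
      rw [← Scheme.Hom.comp_apply, ← Over.comp_left, IsMonHom.one_hom]
      exact hW s
    have he2 : ∀ s, e s ∈ Ω' := fun s => by
      change (ι[G]).left (e s) ∈ Ω
      rw [← Scheme.Hom.comp_apply, ← Over.comp_left]
      have h1 : (η[G] : 𝟙_ (Over S) ⟶ G) ≫ ι[G] = η[G] := by
        have h2 : (η[G] : 𝟙_ (Over S) ⟶ G)⁻¹ = η[G] := by rw [one_eq_one, inv_one]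
        rw [← Hom.inv_def, h2]
      rw [h1]
      exact he1 s
    obtain ⟨k, hk1, hk2, hk3⟩ := Sga3C.GrpSep.exists_mul_eq G (Ω ⊓ Ω') g
      ⟨e (G.hom g), ⟨he1 _, he2 _⟩, by rw [← Scheme.Hom.comp_apply, he]; rfl⟩
    exact ⟨⟨k, hk1.2, hk2.1⟩, hk3⟩
  have hq : Topology.IsQuotientMap m.left := ho.isQuotientMap m.left.continuous hsurj
  rw [← hq.isClosed_preimage, hpre]
  exact z.left.isClosedEmbedding.isClosed_range

/-- **Kernels are closed.** -/
theorem isClosedImmersion_kerι [Smooth G.hom] (hconn : ∀ s : S, _root_.IsConnected (G.hom.base ⁻¹' {s})) (u : G ⟶ H)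
    [IsMonHom u] (W : H.left.Opens) (hW : ∀ s : S, (η[H] : 𝟙_ (Over S) ⟶ H).left s ∈ W)
    [IsSeparated (W.ι ≫ H.hom)] : IsClosedImmersion (kerι u).left := by
  have h1 := isClosed_range hconn u W hW
  have h2 : IsImmersion (kerι u).left := inferInstance
  exact { isClosedEmbedding := ⟨(kerι u).left.isEmbedding, h1⟩ }

end K21.KerClosed
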