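import Groth.Agent.SGA3x.K21.KerNS
import Groth.Agent.SGA3x.K12.CentNhd
import Groth.Agent.Agf.H619.DSCover
import Groth.Agent.Sga3.H832.TorExt
import Groth.Agent.Sga3C.SchemImage
import Groth.Agent.Sga3C.CentDom
import Groth.Agent.Sga3C.FlatGeneric
import Groth.Agent.Sga3B.MaxTorBc636

/-!
# Normal subgroups which are central and of multiplicative type near the unit section

`T` a divisible group of multiplicative type (a torus) which is its own centralizer in `G`, `k : K ⟶ G` a normal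
subgroup, `ι : L ⟶ K` a closed subgroup of multiplicative type, central in `G`, which contains a neighbourhood of the
unit section of `K`.

* `exists_pow_mem`: a power of a point of a group scheme of finite type is in a given neighbourhood of the unit;
* `le_torus`: `K` is contained in `T`.
-/

set_option autoImplicit false
universe u
open CategoryTheory MonoidalCategory CartesianMonoidalCategory MonObj GrpObj AlgebraicGeometry Limits

namespace K21.KerTorus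

open Groth.Agent Groth.Agent.Sga3B Groth.Agent.Sga3B.BcPts
open Groth.Agent.Sga3B.DSPts (dsEquiv dsChar dsChar_DSmap)
open Groth.Agent.SGA3x.K5.Clopen K12.Central K12.CentFam
open Groth.Agent.Sga3B.IsoFam (unfam comp_unfam isMonHom_unfam)

variable {S : Scheme.{u}}

section pow

/-- A power of every point is close to the unit. -/
theorem exists_pow_mem {K X : Over S} [GrpObj K] [TopologicalSpace.NoetherianSpace (X ⊗ K).left] (y : X ⟶ K)
    (p : X.left) (Ω : K.left.Opens) (hΩ : (η[K] : 𝟙_ (Over S) ⟶ K).left (X.hom p) ∈ Ω) :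
    ∃ n : ℕ, 0 < n ∧ (y ^ n : X ⟶ K).left p ∈ Ω := by
  let t : ℕ → (X ⊗ K ⟶ K) := fun m => (fst X K ≫ y ^ m)⁻¹ * snd X K
  let U : ℕ → TopologicalSpace.Opens (X ⊗ K).left := fun m => (t m).left ⁻¹ᵁ Ω
  have h1 : ∀ N m, (lift (𝟙 X) (y ^ N)) ≫ t m = (y ^ m)⁻¹ * y ^ N := by
    intro N m
    rw [MonObj.comp_mul, GrpObj.comp_inv, lift_fst_assoc, Category.id_comp, lift_snd]
  have h2 : ∀ N m, (lift (𝟙 X) (y ^ N)).left p ∈ U m ↔ ((y ^ m)⁻¹ * y ^ N : X ⟶ K).left p ∈ Ω := by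
    intro N m
    rw [← h1 N m, Over.comp_left, Scheme.Hom.comp_apply]
    rfl
  have h3 : ∀ N, (lift (𝟙 X) (y ^ N)).left p ∈ U N := by
    intro N
    rw [h2, inv_mul_cancel]
    have h4 : (1 : X ⟶ K).left = X.hom ≫ (η[K] : 𝟙_ (Over S) ⟶ K).left := by
      rw [Hom.one_def, Over.comp_left]
      congr 1
    rw [h4, Scheme.Hom.comp_apply]
    exact hΩ
  obtain ⟨F, hF⟩ := (TopologicalSpace.NoetherianSpace.isCompact (⋃ m, (U m : Set (X ⊗ K).left))).elim_finite_subcover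
    (fun m => (U m : Set (X ⊗ K).left)) (fun m => (U m).isOpen) le_rfl
  obtain ⟨N, hN⟩ : ∃ N : ℕ, ∀ m ∈ F, m < N := ⟨F.sup id + 1, fun m hm => Nat.lt_succ_of_le (Finset.le_sup (f := id) hm)⟩
  have h4 := hF (Set.mem_iUnion.mpr ⟨N, h3 N⟩)
  rw [Set.mem_iUnion₂] at h4
  obtain ⟨m, hm, h5⟩ := h4
  refine ⟨N - m, Nat.sub_pos_of_lt (hN m hm), ?_⟩
  have h6 := (h2 N m).mp h5
  have h7 : (y ^ m)⁻¹ * y ^ N = y ^ (N - m) := by
    rw [inv_mul_eq_iff_eq_mul, ← pow_add, Nat.add_sub_cancel' (hN m hm).le]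
  rw [← h7]
  exact h6

end pow

section div

/-- A divisible group. -/
def Divis (T : Over S) [GrpObj T] : Prop :=
  ∀ n : ℕ, 0 < n → ∀ (X : Over S) (τ : X ⟶ T), ∃ (X' : Over S) (p : X' ⟶ X) (τ' : X' ⟶ T), Epi p ∧ τ' ^ n = p ≫ τ

theorem divis_DS (S : Scheme.{u}) (r : ℕ) : Divis (Red.DS S (Fin r → ℤ)) := by
  intro n hn X τ
  let φ : (Fin r → ℤ) →+ (Fin r → ℤ) := DistribSMul.toAddMonoidHom _ n
  have hφ : Function.Injective φ := by
    intro a b hab
    funext j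
    have h1 : n • a j = n • b j := congrFun hab j
    exact nsmul_right_injective hn.ne' h1
  obtain ⟨X', p, τ', h1, h2, h3⟩ := Agf.H619.DSCover.exists_cover φ hφ τ
  refine ⟨X', p, τ', Agf.H619.DSCover.epi_of_flat_surjective p, ?_⟩
  rw [h3]
  apply (dsEquiv X' (Fin r → ℤ)).symm.injective
  change dsChar _ = dsChar _
  refine MonoidHom.ext fun m => ?_
  rw [Sga3.H832.TorExt.dsChar_pow, dsChar_DSmap]
  change _ = dsChar τ' (m ^ n)
  rw [map_pow]

theorem Divis.of_iso {T T' : Over S} [GrpObj T] [GrpObj T'] (e : T ⟶ T') [IsMonHom e] [IsIso e] (h : Divis T) :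
    Divis T' := by
  intro n hn X τ
  obtain ⟨X', p, τ', h1, h2⟩ := h n hn X (τ ≫ inv e)
  refine ⟨X', p, τ' ≫ e, h1, ?_⟩
  rw [← MonObj.pow_comp, h2, Category.assoc, Category.assoc, IsIso.inv_hom_id, Category.comp_id]

end div

section comm

variable {G T K L : Over S} [GrpObj G] [GrpObj T] [GrpObj K] [GrpObj L] (i : T ⟶ G) (k : K ⟶ G) (j : L ⟶ K)

/-- `c` is the commutator. -/
def IsComm (c : T ⊗ K ⟶ K) : Prop :=
  ∀ (X : Over S) (τ : X ⟶ T) (x : X ⟶ K), (lift τ x ≫ c) ≫ k = (τ ≫ i) * (x ≫ k) * (τ ≫ i)⁻¹ * (x ≫ k)⁻¹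

theorem exists_comm [IsMonHom k] (hN : ∀ (X : Over S) (g : X ⟶ G) (x : X ⟶ K), ∃ y : X ⟶ K, y ≫ k = g * (x ≫ k) * g⁻¹) :
    ∃ c : T ⊗ K ⟶ K, IsComm i k c := by
  obtain ⟨y, hy⟩ := hN (T ⊗ K) (fst T K ≫ i) (snd T K)
  refine ⟨y * (snd T K)⁻¹, fun X τ x => ?_⟩
  rw [Category.assoc, MonObj.mul_comp, GrpObj.inv_comp, hy, MonObj.comp_mul, MonObj.comp_mul, MonObj.comp_mul,
    GrpObj.comp_inv, GrpObj.comp_inv, lift_fst_assoc, lift_snd_assoc]

variable {i k j}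

/-- The commutator of a product, first variable. -/
theorem IsComm.mul_left [IsMonHom i] [IsMonHom k] [Mono k] {c : T ⊗ K ⟶ K} (hc : IsComm i k c) {X : Over S}
    (τ τ' : X ⟶ T) (x : X ⟶ K) (l : X ⟶ K) (hl : lift τ' x ≫ c = l)
    (hcen : (τ ≫ i) * (l ≫ k) = (l ≫ k) * (τ ≫ i)) : lift (τ * τ') x ≫ c = l * (lift τ x ≫ c) := by
  rw [← cancel_mono k, MonObj.mul_comp, hc X, hc X, MonObj.mul_comp]
  have h1 := hc X τ' x
  rw [hl] at h1
  have h2 : (τ' ≫ i) * (x ≫ k) * (τ' ≫ i)⁻¹ = (l ≫ k) * (x ≫ k) := by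
    rw [h1]; group
  calc (τ ≫ i) * (τ' ≫ i) * (x ≫ k) * ((τ ≫ i) * (τ' ≫ i))⁻¹ * (x ≫ k)⁻¹
      = (τ ≫ i) * ((τ' ≫ i) * (x ≫ k) * (τ' ≫ i)⁻¹) * (τ ≫ i)⁻¹ * (x ≫ k)⁻¹ := by group
    _ = ((τ ≫ i) * (l ≫ k)) * (x ≫ k) * (τ ≫ i)⁻¹ * (x ≫ k)⁻¹ := by rw [h2]; group
    _ = (l ≫ k) * ((τ ≫ i) * (x ≫ k) * (τ ≫ i)⁻¹ * (x ≫ k)⁻¹) := by rw [hcen]; group

/-- The commutator of a product, second variable. -/
theorem IsComm.mul_right [IsMonHom i] [IsMonHom k] [Mono k] {c : T ⊗ K ⟶ K} (hc : IsComm i k c) {X : Over S}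
    (τ : X ⟶ T) (x x' : X ⟶ K) (hcen : (x ≫ k) * ((lift τ x' ≫ c) ≫ k) = ((lift τ x' ≫ c) ≫ k) * (x ≫ k)) :
    lift τ (x * x') ≫ c = (lift τ x ≫ c) * (lift τ x' ≫ c) := by
  rw [← cancel_mono k, MonObj.mul_comp, hc X, MonObj.mul_comp]
  have h1 : (τ ≫ i) * ((x ≫ k) * (x' ≫ k)) * (τ ≫ i)⁻¹ * ((x ≫ k) * (x' ≫ k))⁻¹ =
      ((τ ≫ i) * (x ≫ k) * (τ ≫ i)⁻¹ * (x ≫ k)⁻¹) * ((x ≫ k) * ((τ ≫ i) * (x' ≫ k) * (τ ≫ i)⁻¹ * (x' ≫ k)⁻¹) * (x ≫ k)⁻¹) := by
    group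
  rw [h1, ← hc X, ← hc X, hcen, mul_inv_cancel_right]

theorem IsComm.one_left [IsMonHom i] [IsMonHom k] [Mono k] {c : T ⊗ K ⟶ K} (hc : IsComm i k c) {X : Over S}
    (x : X ⟶ K) : lift (1 : X ⟶ T) x ≫ c = 1 := by
  rw [← cancel_mono k, hc X, MonObj.one_comp, MonObj.one_comp]
  group

/-- the tautological point -/
lemma lift_left {Y' : Over K.left} (a : Y' ⟶ Red.bc K.hom T) :
    (lift ((bcEquiv K.hom Y' T).symm a) (Over.homMk Y'.hom rfl : (Over.map K.hom).obj Y' ⟶ K)).left = a.left := by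
  apply pullback.hom_ext
  · have h1 := congrArg (fun f => Over.Hom.left f)
      (lift_fst ((bcEquiv K.hom Y' T).symm a) (Over.homMk Y'.hom rfl : (Over.map K.hom).obj Y' ⟶ K))
    refine Eq.trans h1 ?_
    exact Groth.Agent.Sga3.H806.LawCmp.bcEquiv_symm_left K.hom a
  · have h1 := congrArg (fun f => Over.Hom.left f)
      (lift_snd ((bcEquiv K.hom Y' T).symm a) (Over.homMk Y'.hom rfl : (Over.map K.hom).obj Y' ⟶ K))
    refine Eq.trans h1 ?_
    exact (Over.w a).symm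

omit [GrpObj K] [GrpObj L] in
/-- Points with values in the neighbourhood. -/
theorem exists_lift_nhd {Ω : K.left.Opens} {ω : (Ω : Scheme.{u}) ⟶ L.left} (hω : ω ≫ j.left = Ω.ι) {X : Over S}
    (y : X ⟶ K) (hy : ∀ p : X.left, y.left p ∈ Ω) : ∃ l : X ⟶ L, l ≫ j = y := by
  have h1 : Set.range y.left ⊆ Set.range Ω.ι := by
    rw [Scheme.Opens.range_ι]
    rintro _ ⟨p, rfl⟩
    exact hy p
  have h2 : (IsOpenImmersion.lift Ω.ι y.left h1 ≫ ω) ≫ j.left = y.left := by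
    rw [Category.assoc, hω, IsOpenImmersion.lift_fac]
  refine ⟨Over.homMk (IsOpenImmersion.lift Ω.ι y.left h1 ≫ ω) ?_, ?_⟩
  · rw [← Over.w j, ← Category.assoc, h2, Over.w]
  · ext1
    exact h2

/-- **The commutator takes values in `L`.** -/
theorem exists_factor [IsMonHom i] [IsMonHom k] [Mono k] [IsMonHom j] [IsClosedImmersion j.left] [Smooth T.hom]
    [GeometricallyIrreducible T.hom] {c : T ⊗ K ⟶ K} (hc : IsComm i k c)
    (hcen : ∀ (X : Over S) (g : X ⟶ G) (l : X ⟶ L), g * ((l ≫ j) ≫ k) = ((l ≫ j) ≫ k) * g) (Ω : K.left.Opens)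
    (hΩ : ∀ s : S, (η[K] : 𝟙_ (Over S) ⟶ K).left s ∈ Ω) (ω : (Ω : Scheme.{u}) ⟶ L.left) (hω : ω ≫ j.left = Ω.ι) :
    ∃ d : T ⊗ K ⟶ L, d ≫ j = c := by
  let TK : Over K.left := Red.bc K.hom T
  have hT1 : Smooth TK.hom := inferInstanceAs (Smooth (pullback.snd _ _))
  have hT2 : GeometricallyIrreducible TK.hom := inferInstanceAs (GeometricallyIrreducible (pullback.snd _ _))
  let O : TK.left.Opens := c.left ⁻¹ᵁ Ω
  let N : (TK ⊗ TK).left.Opens := (fst TK TK).left ⁻¹ᵁ O ⊓ (snd TK TK).left ⁻¹ᵁ O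
  let Y' : Over K.left := Over.mk (N.ι ≫ (TK ⊗ TK).hom)
  let n : Y' ⟶ TK ⊗ TK := Over.homMk N.ι rfl
  let Y : Over S := (Over.map K.hom).obj Y'
  let x : Y ⟶ K := Over.homMk Y'.hom rfl
  let P : (Y' ⟶ TK) → (Y ⟶ T) := fun a => (BcPts.bcEquiv K.hom Y' T).symm a
  -- the two projections
  have h1 : ∀ a : Y' ⟶ TK, (∀ p : Y'.left, a.left p ∈ O) → ∃ l : Y ⟶ L, l ≫ j = lift (P a) x ≫ c := by
    intro a ha
    refine exists_lift_nhd hω _ fun p => ?_
    rw [Over.comp_left, Scheme.Hom.comp_apply]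
    have h2 : (lift (P a) x).left = a.left := lift_left a
    rw [h2]
    exact ha p
  obtain ⟨l₁, hl₁⟩ := h1 (n ≫ fst TK TK) fun p => p.2.1
  obtain ⟨l₂, hl₂⟩ := h1 (n ≫ snd TK TK) fun p => p.2.2
  -- the product
  let m : Y' ⟶ TK := n ≫ μ[TK]
  have hm : m = (n ≫ fst TK TK) * (n ≫ snd TK TK) := by
    change n ≫ μ[TK] = _
    rw [← MonObj.comp_mul, Hom.mul_def, lift_fst_snd, Category.id_comp]
  have hPm : P m = P (n ≫ fst TK TK) * P (n ≫ snd TK TK) := by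
    apply (BcPts.bcEquiv K.hom Y' T).injective
    rw [BcPts.bcEquiv_mul, Equiv.apply_symm_apply, Equiv.apply_symm_apply, Equiv.apply_symm_apply, hm]
  have h3 : lift (P m) x ≫ c = (l₂ * l₁) ≫ j := by
    rw [hPm, hc.mul_left _ _ _ (l₂ ≫ j) hl₂.symm (hcen Y _ l₂), MonObj.mul_comp, hl₁]
  have h4 : (lift (P m) x).left = m.left := lift_left m
  have h5 : Flat μ[TK].left := Sga3C.CentDom.flat_mul
  have h6 : Flat (lift (P m) x).left := by
    rw [h4]
    exact inferInstanceAs (Flat (N.ι ≫ μ[TK].left))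
  have h7 : Surjective (lift (P m) x).left := by
    rw [h4]
    refine ⟨fun g => ?_⟩
    have h8 : ∀ y : K.left, (η[TK] : 𝟙_ (Over K.left) ⟶ TK).left y ∈ O := by
      intro y
      change c.left ((η[TK] : 𝟙_ (Over K.left) ⟶ TK).left y) ∈ Ω
      have h9 := lift_left (η[TK] : 𝟙_ (Over K.left) ⟶ TK)
      have h10 : (BcPts.bcEquiv K.hom (𝟙_ (Over K.left)) T).symm (η[TK] : 𝟙_ (Over K.left) ⟶ TK) = 1 := by
        apply (BcPts.bcEquiv K.hom (𝟙_ (Over K.left)) T).injective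
        rw [Equiv.apply_symm_apply, BcPts.bcEquiv_one]
        exact one_eq_one (M := TK)
      rw [h10] at h9
      have h11 := congrArg (fun f => Over.Hom.left f)
        (hc.one_left (Over.homMk (𝟙_ (Over K.left)).hom rfl : (Over.map K.hom).obj (𝟙_ (Over K.left)) ⟶ K))
      have h12 : (1 : (Over.map K.hom).obj (𝟙_ (Over K.left)) ⟶ K).left = K.hom ≫ (η[K] : 𝟙_ (Over S) ⟶ K).left := by
        rw [Hom.one_def, Over.comp_left]
        congr 1
      have h13 : c.left ((η[TK] : 𝟙_ (Over K.left) ⟶ TK).left y) =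
          (1 : (Over.map K.hom).obj (𝟙_ (Over K.left)) ⟶ K).left y := by
        rw [← h9]
        exact congrArg (fun f => f y) h11
      rw [h13, h12]
      exact hΩ (K.hom y)
    obtain ⟨q, hq1, hq2, hq3⟩ := Sga3C.GrpSep.exists_mul_eq TK O g
      ⟨(η[TK] : 𝟙_ (Over K.left) ⟶ TK).left (TK.hom g), h8 _, by
        rw [← Scheme.Hom.comp_apply]
        exact congrArg (fun f => f (TK.hom g)) (Over.w (η[TK] : 𝟙_ (Over K.left) ⟶ TK))⟩
    exact ⟨⟨q, hq1, hq2⟩, hq3⟩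
  have h8 : IsSchemeTheoreticallyDominant (lift (P m) x).left :=
    Sga3C.FlatGeneric.isSchemeTheoreticallyDominant_of_flat_surjective _
  exact Sga3C.SchemImage.exists_lift_over (lift (P m) x) c j (l₂ * l₁) h3.symm

end comm

section main

variable {G T K L : Over S} [GrpObj G] [GrpObj T] [GrpObj K] [GrpObj L] {i : T ⟶ G} {k : K ⟶ G} {j : L ⟶ K}
  {c : T ⊗ K ⟶ K} {d : T ⊗ K ⟶ L}

omit [GrpObj T] in
/-- `L` is commutative. -/
theorem comm_of_central [IsMonHom k] [Mono k] [IsMonHom j] [Mono j]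
    (hcen : ∀ (X : Over S) (g : X ⟶ G) (l : X ⟶ L), g * ((l ≫ j) ≫ k) = ((l ≫ j) ≫ k) * g) {X : Over S}
    (a b : X ⟶ L) : a * b = b * a := by
  rw [← cancel_mono j, ← cancel_mono k, MonObj.mul_comp, MonObj.mul_comp, MonObj.mul_comp, MonObj.mul_comp]
  exact hcen X _ b

variable [IsMonHom i] [IsMonHom k] [Mono k] [IsMonHom j] [Mono j] (hc : IsComm i k c) (hd : d ≫ j = c)
  (hcen : ∀ (X : Over S) (g : X ⟶ G) (l : X ⟶ L), g * ((l ≫ j) ≫ k) = ((l ≫ j) ≫ k) * g)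

include hc hd hcen

theorem mul_left_d {X : Over S} (τ τ' : X ⟶ T) (x : X ⟶ K) :
    lift (τ * τ') x ≫ d = (lift τ x ≫ d) * (lift τ' x ≫ d) := by
  rw [comm_of_central hcen, ← cancel_mono j, MonObj.mul_comp, Category.assoc, Category.assoc, Category.assoc, hd]
  refine hc.mul_left τ τ' x _ rfl ?_
  have h1 := hcen X (τ ≫ i) (lift τ' x ≫ d)
  rwa [Category.assoc (lift τ' x) d j, hd] at h1

theorem mul_right_d {X : Over S} (τ : X ⟶ T) (x x' : X ⟶ K) :
    lift τ (x * x') ≫ d = (lift τ x ≫ d) * (lift τ x' ≫ d) := by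
  rw [← cancel_mono j, MonObj.mul_comp, Category.assoc, Category.assoc, Category.assoc, hd]
  refine hc.mul_right τ x x' ?_
  have h1 := hcen X (x ≫ k) (lift τ x' ≫ d)
  rwa [Category.assoc (lift τ x') d j, hd] at h1

theorem one_left_d {X : Over S} (x : X ⟶ K) : lift (1 : X ⟶ T) x ≫ d = 1 := by
  rw [← cancel_mono j, Category.assoc, hd, hc.one_left, MonObj.one_comp]

theorem of_L {X : Over S} (τ : X ⟶ T) (l : X ⟶ L) : lift τ (l ≫ j) ≫ d = 1 := by
  have h1 : (lift τ (l ≫ j) ≫ d) ≫ j = lift τ (l ≫ j) ≫ c := by rw [Category.assoc, hd]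
  rw [← cancel_mono j, ← cancel_mono k, h1, hc X, hcen X, MonObj.one_comp, MonObj.one_comp]
  group

theorem pow_left_d {X : Over S} (τ : X ⟶ T) (x : X ⟶ K) (n : ℕ) : lift (τ ^ n) x ≫ d = (lift τ x ≫ d) ^ n := by
  induction n with
  | zero => rw [pow_zero, pow_zero, one_left_d hc hd hcen]
  | succ n ih => rw [pow_succ, pow_succ, mul_left_d hc hd hcen, ih]

theorem pow_right_d {X : Over S} (τ : X ⟶ T) (x : X ⟶ K) (n : ℕ) : lift τ (x ^ n) ≫ d = (lift τ x ≫ d) ^ n := by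
  induction n with
  | zero =>
    rw [pow_zero, pow_zero]
    have h1 := of_L hc hd hcen τ (1 : X ⟶ L)
    rwa [MonObj.one_comp] at h1
  | succ n ih => rw [pow_succ, pow_succ, mul_right_d hc hd hcen, ih]

/-- The commutator is trivial at the points with values in fields. -/
theorem eq_one_of_field [LocallyOfFiniteType K.hom] [QuasiCompact K.hom] (hT : Divis T) (Ω : K.left.Opens)
    (hΩ : ∀ s : S, (η[K] : 𝟙_ (Over S) ⟶ K).left s ∈ Ω) (ω : (Ω : Scheme.{u}) ⟶ L.left) (hω : ω ≫ j.left = Ω.ι)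
    {F : Type u} [Field F] {y : Spec (CommRingCat.of F) ⟶ S} (x : Over.mk y ⟶ K) {X : Over S} (b : X ⟶ Over.mk y)
    (τ : X ⟶ T) : lift τ (b ≫ x) ≫ d = 1 := by
  have h1 : TopologicalSpace.NoetherianSpace (Over.mk y ⊗ K).left := by
    have h2 : LocallyOfFiniteType (pullback.fst y K.hom) := inferInstance
    have h3 : QuasiCompact (pullback.fst y K.hom) := inferInstance
    have h4 : IsLocallyNoetherian (Spec (CommRingCat.of F)) := inferInstance
    have h5 : IsLocallyNoetherian (pullback y K.hom) := LocallyOfFiniteType.isLocallyNoetherian (pullback.fst y K.hom)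
    have h6 : CompactSpace (pullback y K.hom : Scheme.{u}) :=
      QuasiCompact.compactSpace_of_compactSpace (pullback.fst y K.hom)
    have h7 : IsNoetherian (pullback y K.hom : Scheme.{u}) := {}
    exact inferInstanceAs (TopologicalSpace.NoetherianSpace (pullback y K.hom : Scheme.{u}))
  obtain ⟨n, hn, h2⟩ := exists_pow_mem x (IsLocalRing.closedPoint F) Ω (hΩ _)
  obtain ⟨l, hl⟩ := exists_lift_nhd (L := L) (j := j) hω (x ^ n) fun p => by
    have h3 : Subsingleton (Spec (CommRingCat.of F)) := inferInstanceAs (Subsingleton (PrimeSpectrum F))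
    have h4 : p = IsLocalRing.closedPoint F := h3.elim _ _
    rw [h4]
    exact h2
  have h3 : ∀ {X : Over S} (b : X ⟶ Over.mk y) (τ : X ⟶ T), (lift τ (b ≫ x) ≫ d) ^ n = 1 := by
    intro X b τ
    rw [← pow_right_d hc hd hcen]
    have h4 : (b ≫ x) ^ n = (b ≫ l) ≫ j := by
      rw [Category.assoc, hl, MonObj.comp_pow]
    rw [h4]
    exact of_L hc hd hcen τ (b ≫ l)
  obtain ⟨X', p, τ', hp, hp'⟩ := hT n hn X τ
  rw [← cancel_epi p, MonObj.comp_one, ← Category.assoc, comp_lift, ← hp', pow_left_d hc hd hcen, ← Category.assoc]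
  exact h3 (p ≫ b) τ'

/-- The commutator is trivial. -/
theorem eq_one [LocallyOfFiniteType K.hom] [QuasiCompact K.hom] (hT : Divis T) (hT' : SGA3x.IsMultTypeFT T)
    (hL : SGA3x.IsMultTypeFT L) (Ω : K.left.Opens)
    (hΩ : ∀ s : S, (η[K] : 𝟙_ (Over S) ⟶ K).left s ∈ Ω) (ω : (Ω : Scheme.{u}) ⟶ L.left) (hω : ω ≫ j.left = Ω.ι)
    {X : Over S} (τ : X ⟶ T) (x : X ⟶ K) : lift τ x ≫ d = 1 := by
  have hLa : IsAffineHom L.hom := K10.MTLoc.isAffineHom hL
  have hLf : LocallyOfFinitePresentation L.hom := K10.MTLoc.locallyOfFinitePresentation hL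
  have h1 : IsMonHom (unfam d) := isMonHom_unfam fun {X} g₁ g₂ t => mul_left_d hc hd hcen g₁ g₂ t
  have h2 : IsMonHom (unfam (1 : T ⊗ K ⟶ L)) := isMonHom_unfam fun {X} g₁ g₂ t => by
    rw [MonObj.comp_one, MonObj.comp_one, MonObj.comp_one, _root_.mul_one]
  have h3 : K12.CentNhd.NoFp (Red.bc K.hom L) := Or.inr
    ⟨inferInstanceAs (LocallyOfFinitePresentation (pullback.snd _ _)),
      inferInstanceAs (QuasiCompact (pullback.snd _ _)), inferInstanceAs (QuasiSeparated (pullback.snd _ _))⟩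
  have key : ∀ b : K.left, ∃ U : K.left.Opens, b ∈ U ∧
      AgrAt d 1 (Over.homMk U.ι rfl : Over.mk (U.ι ≫ K.hom) ⟶ K) := by
    intro b
    let xb : Over.mk (K.left.fromSpecResidueField b ≫ K.hom) ⟶ K := Over.homMk (K.left.fromSpecResidueField b) rfl
    have h4 : AgrAt d 1 xb := by
      intro X' b' τ'
      rw [MonObj.comp_one]
      exact eq_one_of_field (F := K.left.residueField b) hc hd hcen hT Ω hΩ ω hω xb b' τ'
    have h5 : Cen (G := Red.bc K.hom L) (unfam d : Red.bc K.hom T ⟶ Red.bc K.hom L)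
        (Over.mk (K.left.fromSpecResidueField b)) := by
      intro Y _ g h
      generalize h ≫ unfam d = h'
      obtain ⟨g, rfl⟩ := (BcPts.bcEquiv K.hom Y L).surjective g
      obtain ⟨h', rfl⟩ := (BcPts.bcEquiv K.hom Y L).surjective h'
      rw [← BcPts.bcEquiv_mul, ← BcPts.bcEquiv_mul, comm_of_central hcen]
    obtain ⟨U, hbU, hU⟩ := K12.CentNhd.exists_nhd_eqz (G := Red.bc K.hom L) (H := Red.bc K.hom T) h3
      (K10.MTLoc.bc K.hom hT') (unfam d) (unfam (1 : T ⊗ K ⟶ L)) b h5 ((eqz_unfam_iff xb).mpr h4)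
    exact ⟨U, hbU, (eqz_unfam_iff (Over.homMk U.ι rfl : Over.mk (U.ι ≫ K.hom) ⟶ K)).mp hU⟩
  ext1
  refine Scheme.hom_ext_of_forall _ _ fun p => ?_
  obtain ⟨U, hpU, hU⟩ := key (x.left p)
  let V : X.left.Opens := x.left ⁻¹ᵁ U
  let X' : Over S := Over.mk (V.ι ≫ X.hom)
  let ν : X' ⟶ X := Over.homMk V.ι rfl
  let f : (V : Scheme.{u}) ⟶ (U : Scheme.{u}) := IsOpenImmersion.lift U.ι (V.ι ≫ x.left) (by
    rw [Scheme.Opens.range_ι]
    rintro _ ⟨z, rfl⟩
    exact z.2)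
  have hf : f ≫ U.ι = V.ι ≫ x.left := IsOpenImmersion.lift_fac _ _ _
  let b : X' ⟶ Over.mk (U.ι ≫ K.hom) := Over.homMk f (by
    change f ≫ U.ι ≫ K.hom = V.ι ≫ X.hom
    rw [← Category.assoc, hf, Category.assoc, Over.w])
  have hb : b ≫ (Over.homMk U.ι rfl : Over.mk (U.ι ≫ K.hom) ⟶ K) = ν ≫ x := by
    ext1
    exact hf
  have h4 := hU X' b (ν ≫ τ)
  rw [hb, ← comp_lift, Category.assoc, MonObj.comp_one] at h4
  refine ⟨V, hpU, ?_⟩
  have h5 := congrArg (fun f => Over.Hom.left f) h4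
  change V.ι ≫ (lift τ x ≫ d).left = (1 : X' ⟶ L).left at h5
  rw [h5]
  have h6 : (1 : X' ⟶ L) = ν ≫ (1 : X ⟶ L) := by rw [MonObj.comp_one]
  rw [h6]
  rfl

omit hd in
/-- **A normal subgroup which is central and of multiplicative type near the unit section is contained in every
self-centralizing torus.** -/
theorem le_torus [Smooth T.hom] [GeometricallyIrreducible T.hom] [IsClosedImmersion j.left]
    [LocallyOfFiniteType K.hom] [QuasiCompact K.hom] (hs : MaxTorBc636.SelfC i) (hT : Divis T)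
    (hT' : SGA3x.IsMultTypeFT T)
    (hL : SGA3x.IsMultTypeFT L) (Ω : K.left.Opens)
    (hΩ : ∀ s : S, (η[K] : 𝟙_ (Over S) ⟶ K).left s ∈ Ω) (ω : (Ω : Scheme.{u}) ⟶ L.left) (hω : ω ≫ j.left = Ω.ι) :
    ∃ t : K ⟶ T, t ≫ i = k := by
  obtain ⟨d, hd⟩ := exists_factor hc hcen Ω hΩ ω hω
  refine hs K k fun X' x t => ?_
  have h1 := eq_one hc hd hcen hT hT' hL Ω hΩ ω hω t x
  have h2 := hc X' t x
  have h3 : lift t x ≫ c = 1 := by rw [← hd, ← Category.assoc, h1, MonObj.one_comp]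
  rw [h3, MonObj.one_comp] at h2
  have h4 : (t ≫ i) * (x ≫ k) = (x ≫ k) * (t ≫ i) := by
    have h5 : (t ≫ i) * (x ≫ k) = ((t ≫ i) * (x ≫ k) * (t ≫ i)⁻¹ * (x ≫ k)⁻¹) * ((x ≫ k) * (t ≫ i)) := by group
    rw [h5, ← h2, _root_.one_mul]
  exact h4.symm

end main

end K21.KerTorus
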