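import Groth.Agent.UnramA.FibreFlat
import Mathlib.AlgebraicGeometry.Morphisms.FlatMono

/-!
# A flat subscheme which is everything on a fibre is open near this fibre

`j : L ⟶ K` a monomorphism of `S`-schemes, `L` flat and locally of finite presentation, `K` locally of finite type, which is
an isomorphism on the fibres over `s`: then `j` is an open immersion near every point over `s`.
-/

set_option autoImplicit false
universe u
open CategoryTheory AlgebraicGeometry Limits

namespace K21.NhdFlat

open Groth.Agent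

theorem exists_nhd {S : Scheme.{u}} {K L : Over S} (j : L ⟶ K) [Mono j.left] [LocallyOfFiniteType K.hom]
    [LocallyOfFinitePresentation L.hom] [Flat L.hom] (s : S)
    (h : ∀ (X : Over S) (_ : X ⟶ Over.mk (S.fromSpecResidueField s)) (x : X ⟶ K), ∃ l : X ⟶ L, l ≫ j = x)
    (p : L.left) (hp : L.hom p = s) :
    ∃ (Ω : K.left.Opens) (ω : (Ω : Scheme.{u}) ⟶ L.left), j.left p ∈ Ω ∧ ω ≫ j.left = Ω.ι := by
  subst hp
  let f := j.left
  let g := K.hom
  have hfg : f ≫ g = L.hom := Over.w j
  have i1 : LocallyOfFinitePresentation (f ≫ g) := by rw [hfg]; infer_instance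
  have i2 : LocallyOfFiniteType g := ‹_›
  have i3 : Flat (f ≫ g) := by rw [hfg]; infer_instance
  have hs : g (f p) = L.hom p := by rw [← Scheme.Hom.comp_apply, hfg]
  obtain ⟨h1, h2⟩ := S1386.result f g
  have hiso : IsIso (MoreMor.fiberMap f g (g (f p))) := by
    have h3 := UnramA.FibreMap.isPullback_fiberMap f g (g (f p))
    rw [← h3.isoPullback_hom_snd]
    have h4 : IsIso (pullback.snd f (g.fiberι (g (f p)))) := by
      rw [hs]
      let X : Over S := Over.mk (g.fiberι (L.hom p) ≫ g)
      let b : X ⟶ Over.mk (S.fromSpecResidueField (L.hom p)) :=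
        Over.homMk (g.fiberToSpecResidueField (L.hom p)) pullback.condition.symm
      let x : X ⟶ K := Over.homMk (g.fiberι (L.hom p)) rfl
      obtain ⟨l, hl⟩ := h X b x
      have hl' : l.left ≫ f = 𝟙 _ ≫ g.fiberι (L.hom p) := by
        rw [Category.id_comp]
        exact congrArg (fun z => Over.Hom.left z) hl
      refine ⟨pullback.lift l.left (𝟙 _) hl', ?_, pullback.lift_snd _ _ _⟩
      rw [← cancel_mono (pullback.snd f (g.fiberι (L.hom p))), Category.assoc, pullback.lift_snd, Category.comp_id,
        Category.id_comp]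
    infer_instance
  have hflat : Flat (MoreMor.fiberMap f g (g (f p))) := inferInstance
  have hpO := (h1 p).mp ⟨Flat.stalkMap _ _, Flat.stalkMap _ _⟩
  let O : L.left.Opens := ⟨_, h2⟩
  have h3 : Flat (O.ι ≫ f) := by
    refine Flat.of_stalkMap _ fun x => ?_
    rw [Scheme.Hom.stalkMap_comp]
    have h4 : (f.stalkMap (O.ι x)).hom.Flat := x.2.2
    have h5 : (O.ι.stalkMap x).hom.Flat := Flat.stalkMap _ _
    exact h4.comp h5
  have h4 : LocallyOfFinitePresentation f := UnramA.LfpOfComp.lfp_of_comp f g i1 inferInstance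
  have h5 : LocallyOfFinitePresentation (O.ι ≫ f) := inferInstance
  have h6 : Mono (O.ι ≫ f) := mono_comp _ _
  have h7 : IsOpenImmersion (O.ι ≫ f) := IsOpenImmersion.of_flat_of_mono _
  refine ⟨(O.ι ≫ f).opensRange, (O.ι ≫ f).isoOpensRange.inv ≫ O.ι, ⟨⟨p, hpO⟩, rfl⟩, ?_⟩
  rw [Category.assoc]
  exact Scheme.Hom.isoOpensRange_inv_comp _

end K21.NhdFlat
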