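import Groth.Agent.SGA3x.K21.KerClosed
import Groth.Agent.SGA3x.K21.KerTorus
import Groth.Agent.SGA3x.K21.NhdFlat
import Groth.Agent.SGA3x.K21.MonoClosed
import Groth.Agent.SGA3x.K10.URZ
import Groth.Agent.S5295
import Groth.Agent.Sga3B.TorusIrr
import Groth.Agent.Sga3B.MaxTorusCrit

/-!
# Kernels which are central at a point

`G` smooth over `S`, of finite presentation, with connected fibres, `u : G ⟶ H` a homomorphism to a group scheme locally of
finite type, `k : K ⟶ G` its kernel.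

* `Good k s`: étale-locally near `s` the kernel is central and of multiplicative type;
* `good_of_tor`: this holds if the kernel is central at `s` and `G` has a split self-centralizing torus.
-/

set_option autoImplicit false
universe u
open CategoryTheory MonoidalCategory CartesianMonoidalCategory MonObj GrpObj AlgebraicGeometry Limits

namespace K21.KerLocal

open Groth.Agent Groth.Agent.Sga3B Groth.Agent.Sga3B.KerGrp Groth.Agent.Sga3B.MaxTorBc636
open Groth.Agent.SGA3x.K5.Clopen K12.Central K21.KerNS K21.KerTorus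

variable {S S' : Scheme.{u}}

/-- Étale-locally near `s` the subgroup is central and of multiplicative type. -/
def Good {G K : Over S} [GrpObj G] [GrpObj K] (k : K ⟶ G) (s : S) : Prop :=
  ∃ (V : Scheme.{u}) (v : V ⟶ S), Etale v ∧ s ∈ Set.range v ∧ Cen k (Over.mk v) ∧ SGA3x.IsMultTypeFT (Red.bc v K)

theorem Good.of_bc {G K : Over S} [GrpObj G] [GrpObj K] {k : K ⟶ G} (q : S' ⟶ S) [Etale q] (s' : S')
    (h : Good (G := Red.bc q G) (K := Red.bc q K) ((Over.pullback q).map k) s') : Good k (q s') := by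
  obtain ⟨V, v, h1, ⟨x, rfl⟩, h2, h3⟩ := h
  refine ⟨V, v ≫ q, inferInstance, ⟨x, Scheme.Hom.comp_apply _ _ _⟩, ?_, ?_⟩
  · exact Cen.of_map q (Over.homMk v : Over.mk (v ≫ q) ⟶ Over.mk q) h2
  · exact K10.MTLoc.of_iso (BcIso.bcCompIso v q K).symm h3

/-- Centrality at a point and base change. -/
theorem cen_bc {G K : Over S} [GrpObj G] {k : K ⟶ G} (q : S' ⟶ S) (s' : S')
    (h : Cen k (Over.mk (S.fromSpecResidueField (q s')))) :
    Cen (G := Red.bc q G) ((Over.pullback q).map k : Red.bc q K ⟶ Red.bc q G) (Over.mk (S'.fromSpecResidueField s')) := by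
  let t : (Over.map q).obj (Over.mk (S'.fromSpecResidueField s')) ⟶ Over.mk (S.fromSpecResidueField (q s')) :=
    Over.homMk (V := Over.mk (S.fromSpecResidueField (q s'))) (Spec.map (q.residueFieldMap s') :
      ((Over.map q).obj (Over.mk (S'.fromSpecResidueField s'))).left ⟶ Spec (S.residueField (q s')))
      (Scheme.Hom.SpecMap_residueFieldMap_fromSpecResidueField q s')
  exact Cen.map q (h.comp t)

/-- The data of a split self-centralizing torus. -/
def TorHyp {G T : Over S} [GrpObj G] [GrpObj T] (i : T ⟶ G) (r : ℕ) : Prop :=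
  IsMonHom i ∧ Mono i ∧ SelfC i ∧ Red.IsSplitTorusWith (Fin r → ℤ) T

theorem TorHyp.bc {G T : Over S} [GrpObj G] [GrpObj T] {i : T ⟶ G} {r : ℕ} (h : TorHyp i r) (q : S' ⟶ S) :
    TorHyp (G := Red.bc q G) (T := Red.bc q T) ((Over.pullback q).map i) r := by
  obtain ⟨h1, h2, h3, ⟨e⟩⟩ := h
  exact ⟨inferInstance, inferInstance, selfC_bc q h3, ⟨BcIso.bcMapIso q e ≪≫ TorusAlgClosed.dsBcIso q _⟩⟩

theorem TorHyp.isTorus {G T : Over S} [GrpObj G] [GrpObj T] {i : T ⟶ G} {r : ℕ} (h : TorHyp i r) : Red.IsTorus T := by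
  obtain ⟨-, -, -, ⟨e⟩⟩ := h
  exact TorusBc.isTorus_of_iso e.symm (MaxTorusCrit.isTorus_DS S r)

theorem TorHyp.divis {G T : Over S} [GrpObj G] [GrpObj T] {i : T ⟶ G} {r : ℕ} (h : TorHyp i r) : Divis T := by
  obtain ⟨-, -, -, ⟨e⟩⟩ := h
  let ε : Red.DS S (Fin r → ℤ) ⟶ T := e.inv.hom.hom
  have h1 : IsMonHom ε := inferInstanceAs (IsMonHom e.inv.hom.hom)
  have h2 : IsIso ε := inferInstanceAs (IsIso ((Grp.forget _).map e.inv))
  exact Divis.of_iso ε (divis_DS S r)

/-- The kernel in terms of the standard kernel. -/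
theorem exists_iso_ker {G H K : Over S} [GrpObj G] [GrpObj H] {k : K ⟶ G} [Mono k] {u : G ⟶ H} (hk : IsKer k u) :
    ∃ e : K ≅ kerObj u, e.hom ≫ kerι u = k := by
  obtain ⟨a, ha⟩ := Sga3B.KerGrp.exists_lift u k ((hk K k).mp ⟨𝟙 _, Category.id_comp _⟩)
  obtain ⟨b, hb⟩ := (hk _ (kerι u)).mpr (kerι_comp u)
  refine ⟨⟨a, b, ?_, ?_⟩, ha⟩
  · rw [← cancel_mono k, Category.assoc, hb, ha, Category.id_comp]
  · rw [← cancel_mono (kerι u), Category.assoc, ha, hb, Category.id_comp]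

theorem lfp_ker {G H : Over S} [GrpObj G] [GrpObj H] (u : G ⟶ H) [LocallyOfFinitePresentation G.hom]
    [LocallyOfFiniteType H.hom] : LocallyOfFinitePresentation (kerObj u).hom := by
  have h1 : LocallyOfFinitePresentation (u.left ≫ H.hom) := by rw [Over.w]; infer_instance
  have h2 : LocallyOfFinitePresentation u.left := UnramA.LfpOfComp.lfp_of_comp u.left H.hom h1 inferInstance
  exact inferInstanceAs (LocallyOfFinitePresentation (pullback.snd u.left (η[H] : 𝟙_ (Over S) ⟶ H).left))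

section data

variable {G H T K L : Over S} [GrpObj G] [GrpObj H] [GrpObj T] [GrpObj K] [GrpObj L] {u : G ⟶ H} [IsMonHom u]
  {k : K ⟶ G} [IsMonHom k] [Mono k] {i : T ⟶ G} {r : ℕ} {l : L ⟶ T} {j : L ⟶ K} [IsMonHom j] [Mono j]

omit [GrpObj K] [IsMonHom k] [Mono k] in
/-- Kernels are normal. -/
theorem normal (hk : IsKer k u) (X : Over S) (g : X ⟶ G) (x : X ⟶ K) : ∃ y : X ⟶ K, y ≫ k = g * (x ≫ k) * g⁻¹ := by
  rw [hk, MonObj.mul_comp, MonObj.mul_comp, GrpObj.inv_comp, (hk X (x ≫ k)).mp ⟨x, rfl⟩, _root_.mul_one,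
    mul_inv_cancel]

/-- The kernel is contained in the torus. -/
theorem exists_section [LocallyOfFiniteType K.hom] [QuasiCompact K.hom] [IsClosedImmersion j.left] (hi : TorHyp i r)
    (hk : IsKer k u) (hl : IsKer l (i ≫ u)) (hj : j ≫ k = l ≫ i) (hL : SGA3x.IsMultTypeFT L)
    (hcen : ∀ (X : Over S) (g : X ⟶ G) (y : X ⟶ L), g * ((y ≫ j) ≫ k) = ((y ≫ j) ≫ k) * g) (Ω : K.left.Opens)
    (hΩ : ∀ s : S, (η[K] : 𝟙_ (Over S) ⟶ K).left s ∈ Ω) (ω : (Ω : Scheme.{u}) ⟶ L.left) (hω : ω ≫ j.left = Ω.ι) :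
    ∃ y : K ⟶ L, y ≫ j = 𝟙 K := by
  have hT := hi.isTorus
  have i1 : IsMonHom i := hi.1
  have i2 : Mono i := hi.2.1
  have i3 : Smooth T.hom := TorusAlgClosed.smooth_of_isTorus hT
  have i4 : GeometricallyIrreducible T.hom := TorusIrr.geometricallyIrreducible_of_isTorus hT
  obtain ⟨c, hc⟩ := exists_comm i k (normal hk)
  obtain ⟨t, ht⟩ := le_torus hc hcen hi.2.2.1 hi.divis (K21.MultLoc.isMultTypeFT_of_isTorus hT) hL Ω hΩ ω hω
  obtain ⟨y, hy⟩ := (hl K t).mpr (by rw [← Category.assoc, ht]; exact (hk K k).mp ⟨𝟙 _, Category.id_comp _⟩)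
  refine ⟨y, ?_⟩
  rw [← cancel_mono k, Category.assoc, hj, ← Category.assoc, hy, ht, Category.id_comp]

end data

/-- The local inverse along the unit section, base change. -/
theorem exists_nhd_bc {K L : Over S} [GrpObj K] [GrpObj L] {j : L ⟶ K} {Ω : K.left.Opens}
    {ω : (Ω : Scheme.{u}) ⟶ L.left} (hω : ω ≫ j.left = Ω.ι) (q : S' ⟶ S)
    (hΩ : ∀ s : S', (η[K] : 𝟙_ (Over S) ⟶ K).left (q s) ∈ Ω) :
    ∃ (Ω' : (Red.bc q K).left.Opens) (ω' : (Ω' : Scheme.{u}) ⟶ (Red.bc q L).left),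
      (∀ s : S', (η[Red.bc q K] : 𝟙_ (Over S') ⟶ Red.bc q K).left s ∈ Ω') ∧
      ω' ≫ ((Over.pullback q).map j : Red.bc q L ⟶ Red.bc q K).left = Ω'.ι := by
  let a : (Red.bc q K).left ⟶ K.left := pullback.fst K.hom q
  let Ω' : (Red.bc q K).left.Opens := a ⁻¹ᵁ Ω
  have h1 : (a ∣_ Ω) ≫ Ω.ι = Ω'.ι ≫ a := morphismRestrict_ι a Ω
  have h2 : ((a ∣_ Ω) ≫ ω) ≫ L.hom = (Ω'.ι ≫ (Red.bc q K).hom) ≫ q := by
    have h3 : j.left ≫ K.hom = L.hom := Over.w j
    have h4 : a ≫ K.hom = (Red.bc q K).hom ≫ q := pullback.condition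
    rw [← h3, Category.assoc, ← Category.assoc ω, hω, ← Category.assoc, h1, Category.assoc, h4, Category.assoc]
  let ω' : (Ω' : Scheme.{u}) ⟶ (Red.bc q L).left := pullback.lift ((a ∣_ Ω) ≫ ω) (Ω'.ι ≫ (Red.bc q K).hom) h2
  refine ⟨Ω', ω', fun s => ?_, ?_⟩
  · have h5 : Sga3.H778.NeutralPts.unitSec (Red.bc q K) ≫ a = q ≫ Sga3.H778.NeutralPts.unitSec K :=
      Sga3.H806.ApproxConn.unit_bc q K
    have h6 : a (Sga3.H778.NeutralPts.unitSec (Red.bc q K) s) = Sga3.H778.NeutralPts.unitSec K (q s) := by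
      rw [← Scheme.Hom.comp_apply, h5, Scheme.Hom.comp_apply]
    exact (congrArg (· ∈ Ω) h6).mpr (hΩ s)
  · have h7 : ((Over.pullback q).map j : Red.bc q L ⟶ Red.bc q K).left ≫ a = pullback.fst L.hom q ≫ j.left :=
      pullback.lift_fst _ _ _
    have h8 : ((Over.pullback q).map j : Red.bc q L ⟶ Red.bc q K).left ≫ pullback.snd K.hom q = pullback.snd L.hom q :=
      pullback.lift_snd _ _ _
    apply pullback.hom_ext
    · rw [Category.assoc]
      change ω' ≫ _ ≫ a = Ω'.ι ≫ a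
      rw [h7, ← Category.assoc, pullback.lift_fst, Category.assoc, hω, h1]
    · rw [Category.assoc, h8, pullback.lift_snd]
      rfl

/-- Fibres in the other form. -/
theorem connectedSpace_fibre (G : Over S) [GrpObj G] [Smooth G.hom]
    (hconn : ∀ s : S, _root_.IsConnected (G.hom.base ⁻¹' {s})) (s : S) :
    ConnectedSpace ↥(Limits.pullback G.hom (S.fromSpecResidueField s)) := by
  have hgi : GeometricallyIrreducible G.hom := by
    have : GrpObj (Over.mk G.hom) := ‹GrpObj G›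
    exact Sga3C.GrpIrr.geometricallyIrreducible_of_connected_fibres G.hom hconn
  have h6 : IrreducibleSpace ↥(pullback G.hom (S.fromSpecResidueField s)) :=
    GeometricallyIrreducible.irreducibleSpace_of_subsingleton (pullback.snd G.hom (S.fromSpecResidueField s))
  infer_instance

/-- **The local statement**, the unit section of `H` contained in a separated open subscheme. -/
theorem good_of_W {G H T K : Over S} [GrpObj G] [GrpObj H] [GrpObj T] [GrpObj K] {u : G ⟶ H} [IsMonHom u]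
    {k : K ⟶ G} [IsMonHom k] [Mono k] {i : T ⟶ G} {r : ℕ} [Smooth G.hom]
    (hconn : ∀ s : S, _root_.IsConnected (G.hom.base ⁻¹' {s})) [LocallyOfFiniteType H.hom]
    (W : H.left.Opens) (hW : ∀ s : S, (η[H] : 𝟙_ (Over S) ⟶ H).left s ∈ W)
    [IsSeparated (W.ι ≫ H.hom)] (hi : TorHyp i r) (hk : IsKer k u) (s : S)
    (hc : Cen k (Over.mk (S.fromSpecResidueField s))) : Good k s := by
  obtain ⟨hsep, hqc⟩ := K10.URZ.sep_qc G hconn
  have hT := hi.isTorus
  have i1 : IsMonHom i := hi.1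
  have i2 : Mono i := hi.2.1
  have i3 : Smooth T.hom := TorusAlgClosed.smooth_of_isTorus hT
  have hTm := K21.MultLoc.isMultTypeFT_of_isTorus hT
  -- the kernel is closed
  obtain ⟨e, he⟩ := exists_iso_ker hk
  have hK1 : IsClosedImmersion k.left := by
    have h1 := KerClosed.isClosedImmersion_kerι hconn u W hW
    have h2 : IsIso e.hom.left := inferInstanceAs (IsIso ((Over.forget _).map e.hom))
    have h3 : k.left = e.hom.left ≫ (kerι u).left := by rw [← he, Over.comp_left]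
    rw [h3]
    infer_instance
  have hK2 : LocallyOfFinitePresentation K.hom := by
    have h1 := lfp_ker u
    have h2 : IsIso e.hom.left := inferInstanceAs (IsIso ((Over.forget _).map e.hom))
    rw [← Over.w e.hom]
    infer_instance
  have hK3 : IsSeparated K.hom := by rw [← Over.w k]; infer_instance
  have hK4 : QuasiCompact K.hom := by rw [← Over.w k]; infer_instance
  -- the intersection with the torus
  obtain ⟨_, hl1⟩ := exists_grpObj (i ≫ u)
  let L := kerObj (i ≫ u)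
  let l : L ⟶ T := kerι (i ≫ u)
  have hl2 : IsMonHom l := hl1
  have hl : IsKer l (i ≫ u) := fun X x =>
    ⟨fun ⟨y, hy⟩ => by rw [← hy, Category.assoc, kerι_comp, MonObj.comp_one],
      fun hx => Sga3B.KerGrp.exists_lift (i ≫ u) x hx⟩
  obtain ⟨j, hj⟩ : ∃ j : L ⟶ K, j ≫ k = l ≫ i := (hk L (l ≫ i)).mpr (by
    rw [Category.assoc]; exact kerι_comp (i ≫ u))
  have hj1 : Mono j := by
    have : Mono (j ≫ k) := by rw [hj]; exact mono_comp _ _
    exact mono_of_mono j k
  have hj2 : IsMonHom j := by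
    refine Groth.Agent.Sga3B.IsoFam.isMonHom_of_mul _ fun X x y => ?_
    rw [← cancel_mono k, MonObj.mul_comp (x ≫ j), Category.assoc, Category.assoc, Category.assoc, hj,
      ← Category.assoc, ← Category.assoc, ← Category.assoc, MonObj.mul_comp x y l, MonObj.mul_comp]
  have hL1 : LocallyOfFinitePresentation L.hom := lfp_ker (i ≫ u)
  have hL2 : IsClosedImmersion l.left := by
    have h1 : ∀ (c : PullbackCone k i), ∃ y : c.pt ⟶ L, y ≫ j = c.fst ∧ y ≫ l = c.snd := by
      intro c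
      obtain ⟨y, hy⟩ := (hl _ c.snd).mpr (by
        rw [← Category.assoc, ← c.condition, Category.assoc, (hk K k).mp ⟨𝟙 _, Category.id_comp _⟩, MonObj.comp_one])
      refine ⟨y, ?_, hy⟩
      rw [← cancel_mono k, Category.assoc, hj, ← Category.assoc, hy, c.condition]
    choose y hy1 hy2 using h1
    have hpb : IsPullback j l k i :=
      ⟨⟨hj⟩, ⟨PullbackCone.IsLimit.mk hj y hy1 hy2 fun c m hm1 _ => by rw [← cancel_mono j, hm1, hy1]⟩⟩
    have h2 : IsPullback j.left l.left k.left i.left := hpb.map (Over.forget S)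
    exact MorphismProperty.of_isPullback (P := @IsClosedImmersion) h2 hK1
  have hL : SGA3x.IsMultTypeFT L := KerNS.isMultTypeFT hTm hl
  have hL3 : Flat L.hom := K10.MTLoc.flat hL
  have hL4 : IsClosedImmersion j.left := MonoClosed.isClosedImmersion j hL
  -- the intersection is central near `s`
  obtain ⟨U₁, hsU₁, hU₁⟩ := S5295.result L G hL (connectedSpace_fibre G hconn) (j ≫ k) s
    ((cen_mk_iff _ _).mp (hc.pre j))
  -- the kernel is equal to the intersection along the unit section near `s`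
  have hpts : ∀ (X : Over S) (_ : X ⟶ Over.mk (S.fromSpecResidueField s)) (x : X ⟶ K), ∃ l : X ⟶ L, l ≫ j = x := by
    intro X b x
    obtain ⟨t, ht⟩ := hi.2.2.1 X (x ≫ k) (fun X' q t => by
      have h1 := hc X' (q ≫ b) (t ≫ i) (q ≫ x)
      rw [← Category.assoc]
      exact h1.symm)
    obtain ⟨y, hy⟩ := (hl X t).mpr (by
      rw [← Category.assoc, ht]
      exact (hk X (x ≫ k)).mp ⟨x, rfl⟩)
    refine ⟨y, ?_⟩
    rw [← cancel_mono k, Category.assoc, hj, ← Category.assoc, hy, ht]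
  obtain ⟨Ω, ω, hΩ, hω⟩ := NhdFlat.exists_nhd j s hpts ((η[L] : 𝟙_ (Over S) ⟶ L).left s) (by
    rw [← Scheme.Hom.comp_apply, Over.w]
    rfl)
  have hΩ' : (η[K] : 𝟙_ (Over S) ⟶ K).left s ∈ Ω := by
    have h1 : (η[L] : 𝟙_ (Over S) ⟶ L) ≫ j = η[K] := IsMonHom.one_hom j
    rw [← h1, Over.comp_left, Scheme.Hom.comp_apply]
    exact hΩ
  let U : S.Opens := U₁ ⊓ ((η[K] : 𝟙_ (Over S) ⟶ K).left ⁻¹ᵁ Ω)
  have hsU : s ∈ U := ⟨hsU₁, hΩ'⟩
  have hUη : ∀ x : U, (η[K] : 𝟙_ (Over S) ⟶ K).left (U.ι x) ∈ Ω := fun x => x.2.2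
  obtain ⟨Ω', ω', hΩ', hω'⟩ := exists_nhd_bc (K := K) (L := L) (j := j) hω U.ι hUη
  have hcenU : Cen (j ≫ k) (Over.mk U.ι) := fun X q g h =>
    hU₁ X (q ≫ Over.homMk (S.homOfLE inf_le_left) (by simp)) g h
  have hcenU' := (cen_mk_iff _ _).mp hcenU
  have m1 : IsClosedImmersion ((Over.pullback U.ι).map j : Red.bc U.ι L ⟶ Red.bc U.ι K).left :=
    MorphismProperty.of_isPullback (P := @IsClosedImmersion) (Sga3.H798.FpqcIso.isPullback_map_left U.ι j) hL4
  have m2 : LocallyOfFiniteType (Red.bc U.ι K).hom := inferInstanceAs (LocallyOfFiniteType (pullback.snd K.hom U.ι))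
  have m3 : QuasiCompact (Red.bc U.ι K).hom := inferInstanceAs (QuasiCompact (pullback.snd K.hom U.ι))
  obtain ⟨y, hy⟩ := exists_section (G := Red.bc U.ι G) (H := Red.bc U.ι H) (T := Red.bc U.ι T) (K := Red.bc U.ι K)
    (L := Red.bc U.ι L) (u := (Over.pullback U.ι).map u) (k := (Over.pullback U.ι).map k)
    (i := (Over.pullback U.ι).map i) (r := r) (l := (Over.pullback U.ι).map l) (j := (Over.pullback U.ι).map j)
    (hi.bc U.ι) (hk.bc U.ι) (by rw [← Functor.map_comp]; exact hl.bc U.ι) (by rw [← Functor.map_comp, hj, Functor.map_comp])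
    (K10.MTLoc.bc U.ι hL) (fun X g y => by
      rw [Category.assoc, ← Functor.map_comp]
      exact hcenU' X g y) Ω' hΩ' ω' hω'
  have hyj : (Over.pullback U.ι).map j ≫ y = 𝟙 (Red.bc U.ι L) := by
    rw [← cancel_mono ((Over.pullback U.ι).map j), Category.assoc, hy]
    exact (Category.comp_id _).trans (Category.id_comp _).symm
  refine ⟨U, U.ι, inferInstance, by simpa using hsU, ?_, ?_⟩
  · rw [cen_mk_iff]
    intro X g x
    have h1 : x ≫ (Over.pullback U.ι).map k = (x ≫ y) ≫ (Over.pullback U.ι).map (j ≫ k) := by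
      rw [Functor.map_comp, Category.assoc, ← Category.assoc y, hy, Category.id_comp]
    rw [h1]
    exact hcenU' X g (x ≫ y)
  · let e : Red.bc U.ι L ≅ Red.bc U.ι K := ⟨(Over.pullback U.ι).map j, y, hyj, hy⟩
    have he1 : IsMonHom e.hom := inferInstanceAs (IsMonHom ((Over.pullback U.ι).map j))
    exact K10.MTLoc.of_iso' e (K10.MTLoc.bc U.ι hL)

end K21.KerLocal
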