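import Groth.Agent.SGA3x.K21.FlatSub
import Groth.Agent.SGA3x.K12.CentNil
import Groth.Agent.SGA3x.K12.Central

/-!
# Closed kernels of homomorphisms from groups of multiplicative type to arbitrary groups

`h : T ⟶ G` a homomorphism from a group of multiplicative type and of finite type to an arbitrary group scheme (not
necessarily separated), `i : H ⟶ T` its kernel.

* `isMultTypeFT`: if `i` is a closed immersion, locally of finite presentation, then `H` is of multiplicative type and
  of finite type.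
-/

set_option autoImplicit false
universe u
open CategoryTheory MonoidalCategory CartesianMonoidalCategory MonObj GrpObj AlgebraicGeometry Limits

namespace K21.KerNS

open Groth.Agent.Sga3.H827 Groth.Agent.Sga3.H828.DiagChart Groth.Agent.Sga3.H828.DiagChart.Chart
open Groth.Agent.Sga3B.DSPts Groth.Agent.Sga3B.InfConj KerAlg1 KerAlg4 KerLoc KerPts KerData FlatSub
open Groth.Agent.SGA3x.K5.Clopen K12.Central

/-- `i` is the kernel of `h`, on points. -/
def IsKer {S : Scheme.{u}} {H T G : Over S} [GrpObj G] (i : H ⟶ T) (h : T ⟶ G) : Prop :=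
  ∀ (X : Over S) (x : X ⟶ T), (∃ y, y ≫ i = x) ↔ x ≫ h = 1

section bc

variable {S S' : Scheme.{u}} {H T G : Over S} [GrpObj G] {i : H ⟶ T} {h : T ⟶ G}

theorem IsKer.bc (q : S' ⟶ S) (hk : IsKer i h) :
    IsKer (G := Red.bc q G) ((Over.pullback q).map i) ((Over.pullback q).map h) := by
  intro X x
  have h1 : x ≫ (Over.pullback q).map h = 1 ↔
      (Groth.Agent.Sga3B.BcPts.bcEquiv q X T).symm x ≫ h = 1 := by
    rw [← Groth.Agent.Sga3B.BcPts.bcEquiv_symm_comp]
    constructor
    · intro h2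
      apply (Groth.Agent.Sga3B.BcPts.bcEquiv q X G).injective
      rw [Equiv.apply_symm_apply, h2, Groth.Agent.Sga3B.BcPts.bcEquiv_one]
    · intro h2
      rw [← Groth.Agent.Sga3B.BcPts.bcEquiv_one, ← h2, Equiv.apply_symm_apply]
  rw [h1, ← hk]
  constructor
  · rintro ⟨y, rfl⟩
    exact ⟨(Groth.Agent.Sga3B.BcPts.bcEquiv q X H).symm y, (Groth.Agent.Sga3B.BcPts.bcEquiv_symm_comp q y i).symm⟩
  · rintro ⟨y, hy⟩
    refine ⟨Groth.Agent.Sga3B.BcPts.bcEquiv q X H y, ?_⟩
    rw [← Groth.Agent.Sga3B.BcPts.bcEquiv_comp, hy, Equiv.apply_symm_apply]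

end bc

variable {C : Type u} [CommRing C] {M : Type} [AddCommGroup M]

section ideal

variable {H : Over (Spec (CommRingCat.of C))} (i : H ⟶ Red.DS (Spec (CommRingCat.of C)) M)

/-- The ideal of a closed subscheme of `D(M)`. -/
theorem exists_ideal [AddGroup.FG M] [IsClosedImmersion i.left] [LocallyOfFinitePresentation H.hom] :
    ∃ J : Ideal (MonoidAlgebra C (Multiplicative M)), J.FG ∧ IsIdealOfSub i J := by
  let A := MonoidAlgebra C (Multiplicative M)
  let t₀ : H ⟶ pt C A := i ≫ inv (univPt C M)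
  have ht₀ : t₀ ≫ univPt C M = i := by simp [t₀]
  have hcl : IsClosedImmersion t₀.left := by
    change IsClosedImmersion (i.left ≫ (inv (univPt C M)).left)
    have : IsIso (inv (univPt C M)).left := inferInstanceAs (IsIso ((Over.forget _).map (inv (univPt C M))))
    infer_instance
  obtain ⟨I, e, he⟩ := (IsClosedImmersion.Spec_iff (R := CommRingCat.of A) (f := t₀.left)).1 hcl
  have hw : t₀.left ≫ Spec.map (CommRingCat.ofHom (algebraMap C A)) = H.hom := Over.w t₀
  refine ⟨I, ?_, fun T x => ?_⟩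
  · have h0 : LocallyOfFinitePresentation (t₀.left ≫ Spec.map (CommRingCat.ofHom (algebraMap C A))) := by
      rw [hw]; infer_instance
    have h1 : LocallyOfFiniteType (Spec.map (CommRingCat.ofHom (algebraMap C A))) := by
      rw [HasRingHomProperty.Spec_iff (P := @LocallyOfFiniteType)]
      have : Group.FG (Multiplicative M) := inferInstance
      have : Monoid.FG (Multiplicative M) := Monoid.fg_of_group_fg
      change (algebraMap C A).FiniteType
      rw [RingHom.finiteType_algebraMap]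
      infer_instance
    have h2 : LocallyOfFinitePresentation t₀.left :=
      Groth.Agent.Ega43.FPOfComp.locallyOfFinitePresentation_of_comp _ (Spec.map (CommRingCat.ofHom (algebraMap C A)))
    have h1 : LocallyOfFinitePresentation (Spec.map (CommRingCat.ofHom (Ideal.Quotient.mk I))) := by
      have h2 : Spec.map (CommRingCat.ofHom (Ideal.Quotient.mk I)) = e.inv ≫ t₀.left := by
        rw [he, Iso.inv_hom_id_assoc]
      rw [h2]
      infer_instance
    rw [HasRingHomProperty.Spec_iff (P := @LocallyOfFinitePresentation)] at h1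
    have h3 : Algebra.FinitePresentation A (A ⧸ I) := h1
    have h4 := Algebra.FinitePresentation.ker_fG_of_surjective (Ideal.Quotient.mkₐ A I)
      (Ideal.Quotient.mkₐ_surjective A I)
    have h5 : RingHom.ker (Ideal.Quotient.mkₐ A I) = I := Ideal.Quotient.mkₐ_ker A I
    exact h5 ▸ h4
  · obtain ⟨t, rfl⟩ := exists_eq_comp_charPt x
    have h1 : (∃ y, y ≫ i = t ≫ univPt C M) ↔ ∃ y, y ≫ t₀ = t := by
      refine exists_congr fun y => ?_
      rw [← ht₀, ← Category.assoc, cancel_mono]
    rw [h1]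
    have h2 : (∃ y, y ≫ t₀ = t) ↔ ∀ j ∈ I, gl t j = 0 := by
      constructor
      · rintro ⟨t', rfl⟩ j hj
        have h1 : gl (t' ≫ t₀) = ((CommRingCat.ofHom (Ideal.Quotient.mk I)) ≫
            (Scheme.ΓSpecIso (CommRingCat.of (A ⧸ I))).inv ≫ (t'.left ≫ e.hom).appTop).hom := by
          unfold gl
          congr 1
          rw [Over.comp_left, he, ← Category.assoc t'.left, Scheme.Hom.comp_appTop (t'.left ≫ e.hom),
            ← Scheme.ΓSpecIso_inv_naturality_assoc]
        rw [h1]
        change ((Scheme.ΓSpecIso (CommRingCat.of (A ⧸ I))).inv ≫ (t'.left ≫ e.hom).appTop).hom (Ideal.Quotient.mk I j) = 0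
        rw [Ideal.Quotient.eq_zero_iff_mem.2 hj, map_zero]
      · intro h
        let ρ : A ⧸ I →+* Γ(T.left, ⊤) := Ideal.Quotient.lift I (gl t) h
        have h1 : (T.left.toSpecΓ ≫ Spec.map (CommRingCat.ofHom ρ) ≫ e.inv) ≫ t₀.left = t.left := by
          rw [he, Category.assoc, Category.assoc, Iso.inv_hom_id_assoc, ← Spec.map_comp, ← toSpecΓ_gl t,
            ← CommRingCat.ofHom_comp]
          rfl
        refine ⟨Over.homMk (T.left.toSpecΓ ≫ Spec.map (CommRingCat.ofHom ρ) ≫ e.inv) ?_, ?_⟩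
        · rw [← Over.w t₀, ← Category.assoc, h1, Over.w]
        · ext1
          exact h1
    rw [h2]
    refine forall₂_congr fun j _ => ?_
    rw [gl_single]

end ideal

section rig

variable {G : Over (Spec (CommRingCat.of C))} [GrpObj G] {h : Red.DS (Spec (CommRingCat.of C)) M ⟶ G}
  {J : Ideal (MonoidAlgebra C (Multiplicative M))} {M' : Type} [AddCommGroup M'] (φ : M →+ M')

/-- Rigidity of trivial homomorphisms, without hypotheses on `G`. -/
theorem comp_eq_one {E : Type u} [CommRing E] [Algebra C E] (I : Ideal E) (hI : I * I = ⊥)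
    (w : Red.DS (Spec (CommRingCat.of C)) M' ⟶ G) [IsMonHom w]
    (hw : Eqz w 1 (pt C (E ⧸ I))) : Eqz w 1 (pt C E) := by
  let p : Spec (CommRingCat.of E) ⟶ Spec (CommRingCat.of C) := Spec.map (CommRingCat.ofHom (algebraMap C E))
  let D := Red.DS (Spec (CommRingCat.of C)) M'
  change Eqz w 1 (Over.mk p)
  rw [eqz_mk_iff]
  have hD : K21.MultLoc.IsMult (Red.bc p D) := K21.MultLoc.isMult_bc p (K21.MultLoc.isMult_DS M')
  have hnil : IsNilpotent I := ⟨2, by rw [pow_two, hI, Ideal.zero_eq_bot]⟩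
  have h1 : IsMonHom (1 : D ⟶ G) := Groth.Agent.Sga3B.IsoFam.isMonHom_of_mul _ fun T x y => by
    rw [MonObj.comp_one, MonObj.comp_one, MonObj.comp_one, _root_.mul_one]
  have h2 : Eqz ((Over.pullback p).map w) ((Over.pullback p).map (1 : D ⟶ G))
      (Over.mk (Spec.map (CommRingCat.ofHom (Ideal.Quotient.mk I)))) :=
    Eqz.map p (hw.comp (toPtQ I))
  refine K12.CentNil.eq_of_mod I hnil hD ((Over.pullback p).map w) ((Over.pullback p).map (1 : D ⟶ G)) ?_ h2
  intro Y t g y
  have h3 : y ≫ (Over.pullback p).map w = 1 := by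
    rw [h2 Y t y, Functor.map_one, MonObj.comp_one]
  rw [h3, _root_.mul_one, _root_.one_mul]

theorem isRig [IsMonHom h] (hJ : KerLoc.IsIdealOf h J) : IsRig J := by
  intro E _ _ _ I hI N hN
  obtain ⟨M', _, φ, e, he⟩ := exists_quo N
  have h1 : IsMonHom (Red.DSmap (Spec (CommRingCat.of C)) φ) := isMonHom_DSmap φ
  have h2 : Eqz (Red.DSmap (Spec (CommRingCat.of C)) φ ≫ h) 1 (pt C E) := by
    refine comp_eq_one I hI _ ?_
    intro T t q
    rw [fam_eq_one φ e he hJ hN q t, MonObj.comp_one]
  refine triv_of_all φ e he hJ fun {T} q t => ?_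
  rw [h2 T t q, MonObj.comp_one]

/-- **A closed kernel of `D(M) ⟶ G` is Zariski-locally diagonalisable.** -/
theorem exists_local {H : Over (Spec (CommRingCat.of C))} {i : H ⟶ Red.DS (Spec (CommRingCat.of C)) M}
    [IsMonHom h] (hk : IsKer i h) [AddGroup.FG M] [IsClosedImmersion i.left]
    [LocallyOfFinitePresentation H.hom] (p : Ideal C) [p.IsPrime] :
    ∃ f, f ∉ p ∧ ∃ N : AddSubgroup M, ∀ (T : Over (Spec (CommRingCat.of C))),
      (letI := algT T; IsUnit (algebraMap C Γ(T.left, ⊤) f)) → ∀ x : T ⟶ Red.DS (Spec (CommRingCat.of C)) M,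
        (∃ y, y ≫ i = x) ↔ ∀ n ∈ N, dsChar x (Multiplicative.ofAdd n) = 1 := by
  obtain ⟨J, hfg, hJ⟩ := exists_ideal i
  have hJ' : KerLoc.IsIdealOf h J := fun T x => (hk T x).symm.trans (hJ T x)
  have : Group.FG (Multiplicative M) := inferInstance
  obtain ⟨f, hf, N, hN⟩ := KerAlg4.exists_local hfg (KerLoc.isKer hJ') (isRig hJ') p
  refine ⟨f, hf, Subgroup.toAddSubgroup' N, fun T hT x => ?_⟩
  let _ := algT T
  exact (hJ T x).trans (hN Γ(T.left, ⊤) hT (dsChar x))

end rig

section final

variable {S : Scheme.{u}} {H H' G : Over S} [GrpObj H] [GrpObj H'] [GrpObj G] {i : H ⟶ H'} [IsMonHom i]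
  {h : H' ⟶ G} [IsMonHom h]

/-- Étale-locally on the base, the kernel is `D(M/N)` in `D(M)`. -/
theorem exists_split (hk : IsKer i h) [IsClosedImmersion i.left] [LocallyOfFinitePresentation H.hom]
    {B : Type u} [CommRing B] (v : Spec (CommRingCat.of B) ⟶ S) {M : Type} [AddCommGroup M] [AddGroup.FG M]
    (e : Grp.mk (Red.bc v H') ≅ Grp.mk (Red.DS (Spec (CommRingCat.of B)) M)) (p : Spec (CommRingCat.of B)) :
    ∃ f : B, f ∉ p.asIdeal ∧ ∃ N : AddSubgroup M,
      Nonempty (Grp.mk (Red.bc (Spec.map (CommRingCat.ofHom (algebraMap B (Localization.Away f))) ≫ v) H) ≅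
        Grp.mk (Red.DS (Spec (CommRingCat.of (Localization.Away f))) (M ⧸ N))) := by
  let i₁ : Red.bc v H ⟶ Red.DS (Spec (CommRingCat.of B)) M := (Over.pullback v).map i ≫ e.hom.hom.hom
  let h₁ : Red.DS (Spec (CommRingCat.of B)) M ⟶ Red.bc v G := e.inv.hom.hom ≫ (Over.pullback v).map h
  have h1 : IsMonHom e.hom.hom.hom := e.hom.hom.isMonHom_hom
  have h1' : IsMonHom e.inv.hom.hom := e.inv.hom.isMonHom_hom
  have h0 : IsMonHom i₁ := inferInstanceAs (IsMonHom ((Over.pullback v).map i ≫ e.hom.hom.hom))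
  have h0' : IsMonHom h₁ := inferInstanceAs (IsMonHom (e.inv.hom.hom ≫ (Over.pullback v).map h))
  have hei : e.hom.hom.hom ≫ e.inv.hom.hom = 𝟙 _ := congrArg (fun z => z.hom.hom) e.hom_inv_id
  have hie : e.inv.hom.hom ≫ e.hom.hom.hom = 𝟙 _ := congrArg (fun z => z.hom.hom) e.inv_hom_id
  have he : IsIso e.hom.hom.hom.left := by
    have : IsIso e.hom.hom.hom := inferInstanceAs (IsIso ((Grp.forget _).map e.hom))
    exact inferInstanceAs (IsIso ((Over.forget _).map e.hom.hom.hom))
  have hk₁ : IsKer i₁ h₁ := by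
    intro X x
    have h2 := hk.bc v X (x ≫ e.inv.hom.hom)
    rw [Category.assoc] at h2
    rw [← h2]
    constructor
    · rintro ⟨y, rfl⟩
      refine ⟨y, ?_⟩
      change _ = (y ≫ (Over.pullback v).map i ≫ e.hom.hom.hom) ≫ e.inv.hom.hom
      rw [Category.assoc, Category.assoc, hei, Category.comp_id]
    · rintro ⟨y, hy⟩
      refine ⟨y, ?_⟩
      change y ≫ (Over.pullback v).map i ≫ e.hom.hom.hom = x
      rw [← Category.assoc, hy, Category.assoc, hie, Category.comp_id]
  have h2 : IsClosedImmersion i₁.left := by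
    have : IsClosedImmersion ((Over.pullback v).map i).left :=
      MorphismProperty.of_isPullback (P := @IsClosedImmersion) (Groth.Agent.Sga3.H798.FpqcIso.isPullback_map_left v i)
        inferInstance
    change IsClosedImmersion (((Over.pullback v).map i).left ≫ e.hom.hom.hom.left)
    infer_instance
  have h4 : LocallyOfFinitePresentation (Red.bc v H).hom :=
    inferInstanceAs (LocallyOfFinitePresentation (pullback.snd _ _))
  have h5 : Mono i₁ := Groth.Agent.Sga3C.ClosedSub.mono_of_left i₁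
  obtain ⟨f, hf, N, hN⟩ := exists_local hk₁ p.asIdeal
  refine ⟨f, hf, N, ?_⟩
  let ρ : Spec (CommRingCat.of (Localization.Away f)) ⟶ Spec (CommRingCat.of B) :=
    Spec.map (CommRingCat.ofHom (algebraMap B (Localization.Away f)))
  have h6 : AdaptedSub i₁ (K21.DSAdapt.dsChart (Over.mk ρ) M) N := by
    intro X t x
    refine hN X ?_ x
    have h7 := isUnit_of_away f t.left
    have h8 : t.left ≫ ρ = X.hom := Over.w t
    change IsUnit (((Scheme.ΓSpecIso (.of B)).inv ≫ (t.left ≫ ρ).appTop).hom f) at h7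
    rw [h8] at h7
    exact h7
  obtain ⟨e'⟩ := (subChart h6).toIso
  exact ⟨Groth.Agent.Sga3B.BcIso.bcCompIso ρ v H ≪≫ e'⟩

/-- **Closed kernels of homomorphisms from groups of multiplicative type.** -/
theorem isMultTypeFT (hH' : SGA3x.IsMultTypeFT H') (hk : IsKer i h) [IsClosedImmersion i.left]
    [LocallyOfFinitePresentation H.hom] : SGA3x.IsMultTypeFT H := by
  refine K10.MTLoc.of_etale_split fun s => ?_
  obtain ⟨B, _, v, M, _, hv, ⟨p, hp⟩, hM, ⟨e⟩⟩ := K10.MTLoc.exists_etale_split hH' s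
  obtain ⟨f, hf, N, he⟩ := exists_split hk v e p
  refine ⟨_, _, M ⧸ N, inferInstance, inferInstance, ?_, inferInstance, he⟩
  obtain ⟨z, hz⟩ : p ∈ Set.range (Spec.map (CommRingCat.ofHom (algebraMap B (Localization.Away f)))) := by
    change p ∈ Set.range (PrimeSpectrum.comap (algebraMap B (Localization.Away f)))
    rw [PrimeSpectrum.localization_away_comap_range (Localization.Away f) f]
    exact hf
  exact ⟨z, by rw [Scheme.Hom.comp_apply, hz, hp]⟩

end final

end K21.KerNS
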