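import Groth.Agent.SGA3x.K204.FinMTMain
import Groth.Agent.SGA3x.K21.MTType

/-!
# Finite subgroups of multiplicative type of an affine group: the pieces of fixed type

`main`: the representability theorem of `K204.FinMTMain`, with the affineness of the loci of fixed type (the proof is
that of `K204.FinMTMain.main`).
-/

set_option autoImplicit false
universe u
open CategoryTheory MonoidalCategory CartesianMonoidalCategory MonObj GrpObj AlgebraicGeometry Limits

namespace K21.MultFun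

open Groth.Agent Groth.Agent.SGA3x.K5.Clopen Groth.Agent.Sga3B Groth.Agent.Sga3B.BcPts Groth.Agent.Sga3B.MT
  Groth.Agent.Sga3B.Parab Groth.Agent.Redsub.H649.ConjPts K204.MonoScheme K204.FinMTLoc K204.SubRep
open K204.FinMTFam (Idx Gp isFinite_DS idx_eq exists_idx exists_point st_eq)
open K204.FinMTMain (same_act exists_equiv_of_same hom_ext_local)
open MTType

variable {S : Scheme.{u}} {G : Over S} [GrpObj G]

/-- **The family of subgroups.** -/
theorem exists_fam {Γ : Type} [AddCommGroup Γ] [Finite Γ] {P : Over S} {χ : Red.DS S Γ ⊗ P ⟶ G} (hχ : Rep χ)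
    [IsAffineHom G.hom] {h : P.left ⟶ S} (hh : h = P.hom) :
    ∃ (T : Over P.left) (_ : GrpObj T) (t : T ⟶ Red.bc h G), IsMonHom t ∧ IsClosedImmersion t.left ∧ Mono t ∧
      IsFinite T.hom ∧ SGA3x.IsMultTypeFT T ∧ Nonempty (Grp.mk T ≅ Grp.mk (Red.DS P.left Γ)) ∧ ∀ (X : Over S) (a : X ⟶ P) (γ : X ⟶ G),
        Pt t a.left γ.left ↔ ∃ d, lift d a ≫ χ = γ := by
  subst hh
  have hfin := isFinite_DS S Γ
  have hfg : AddGroup.FG Γ := inferInstance
  have hm := isMonHom_famMap hχ.hom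
  have hmt : SGA3x.IsMultTypeFT (Red.DS S Γ) := _root_.K10.MTLoc.of_split hfg ⟨Iso.refl _⟩
  have h1 : IsFinite (Red.bc P.hom (Red.DS S Γ)).hom := MorphismProperty.pullback_snd (P := @IsFinite) _ _ hfin
  have h2 : Mono (famMap χ) := by
    refine K12.TrivKer.mono_of_ker (A := Red.bc P.hom (Red.DS S Γ)) (B := Red.bc P.hom G) (famMap χ) fun T x hx => ?_
    have h3 := (triv_iff χ (𝟙 P)).1 (hχ.triv.comp (𝟙 P))
    exact h3 T T.hom (Category.comp_id _) x hx
  have h3 : IsClosedImmersion (famMap χ).left := by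
    have h4 : (famMap χ).left ≫ (Red.bc P.hom G).hom = (Red.bc P.hom (Red.DS S Γ)).hom := Over.w _
    have h5 : IsProper ((famMap χ).left ≫ (Red.bc P.hom G).hom) := by rw [h4]; infer_instance
    have h6 : IsSeparated (Red.bc P.hom G).hom := inferInstanceAs (IsSeparated (pullback.snd _ _))
    have h7 : IsProper (famMap χ).left := IsProper.of_comp (famMap χ).left (Red.bc P.hom G).hom
    rw [IsClosedImmersion.iff_isProper_and_mono]
    exact ⟨h7, inferInstance⟩
  refine ⟨Red.bc P.hom (Red.DS S Γ), inferInstance, famMap χ, hm, h3, h2, h1, _root_.K10.MTLoc.bc _ hmt,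
    ⟨TorusAlgClosed.dsBcIso P.hom Γ⟩, fun X a γ => ?_⟩
  refine (memAt_iff_pt (f := P.hom) (famMap χ) a γ).symm.trans ?_
  constructor
  · rintro ⟨x, hx⟩
    rw [comp_famMap (X := P) χ x] at hx
    have h4 := (bcEquiv P.hom _ G).injective hx
    rw [st_eq a] at h4
    refine ⟨(overIso (f := P.hom) a).inv ≫ (bcEquiv P.hom (Over.mk a.left) (Red.DS S Γ)).symm x, ?_⟩
    rw [← cancel_epi (overIso (f := P.hom) a).hom, ← h4, ← Category.assoc, comp_lift, Iso.hom_inv_id_assoc]
  · rintro ⟨d, hd⟩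
    refine ⟨bcEquiv P.hom (Over.mk a.left) (Red.DS S Γ) ((overIso (f := P.hom) a).hom ≫ d), ?_⟩
    rw [comp_famMap (X := P) χ, Equiv.symm_apply_apply, st_eq a, ← comp_lift, Category.assoc, hd]

/-- **Finite subgroups of multiplicative type are parametrised by a scheme.** -/
theorem main (G : Over S) [GrpObj G] [IsAffineHom G.hom] [LocallyOfFinitePresentation G.hom] :
    ∃ (M : Over S) (K : Over M.left) (_ : GrpObj K) (j : K ⟶ Red.bc M.hom G),
      (∀ m : ↥M.left, ∃ U : M.left.Opens, m ∈ U ∧ IsClosed (U : Set ↥M.left) ∧ IsAffineHom (U.ι ≫ M.hom)) ∧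
      IsMonHom j ∧ IsClosedImmersion j.left ∧ SGA3x.IsMultTypeFT K ∧ IsFinite K.hom ∧
      (∀ (T : Scheme.{u}) (f : T ⟶ S) (K' : Over T) [GrpObj K'] (j' : K' ⟶ Red.bc f G),
        IsMonHom j' → Mono j' → SGA3x.IsMultTypeFT K' → IsFinite K'.hom →
        ∃! v : T ⟶ M.left, v ≫ M.hom = f ∧ Same j' j (𝟙 _) v) ∧
      LocallyOfFinitePresentation M.hom ∧ ∀ i : Idx, IsAffineHom ((tyOpens K (Gp i)).ι ≫ M.hom) := by
  choose P M χ hχ p h1 h2 h3 h4 h5 h6 h7 using fun i : ULift.{u} Idx =>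
    exists_quot (S := S) G (Gp i.down) (isFinite_DS S (Gp i.down))
  let MM : Over S := Over.mk (Sigma.desc fun i => (M i).hom)
  let f : ∀ i, (P i).left ⟶ MM.left := fun i => (p i).left ≫ Sigma.ι (fun i => (M i).left) i
  have hf : ∀ i, f i ≫ MM.hom = (P i).hom := fun i => by
    change ((p i).left ≫ Sigma.ι (fun i => (M i).left) i) ≫ Sigma.desc (fun i => (M i).hom) = (P i).hom
    rw [Category.assoc, Sigma.ι_desc, Over.w]
  choose T gT t t1 t2 t3 t4 t5 tD t6 using fun i => exists_fam (hχ i) (hf i)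
  have hfe : ∀ i, Etale (f i) := fun i => inferInstanceAs (Etale ((p i).left ≫ Sigma.ι (fun i => (M i).left) i))
  have hcov : EtHom.IsCov f := by
    refine ⟨fun i => inferInstance, fun i => inferInstance, fun m => ?_⟩
    obtain ⟨i, y, hy⟩ := (sigmaOpenCover fun i => (M i).left).exists_eq m
    obtain ⟨x, hx⟩ := (h3 i).surj y
    exact ⟨i, x, by
      change ((p i).left ≫ Sigma.ι (fun i => (M i).left) i) x = m
      rw [Scheme.Hom.comp_apply, hx]
      exact hy⟩
  -- two points with the same image give the same subgroup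
  have hsame : ∀ (i j : ULift.{u} Idx) (Z : Scheme.{u}) (a : Z ⟶ (P i).left) (b : Z ⟶ (P j).left),
      a ≫ f i = b ≫ f j → Same (t i) (t j) a b := by
    intro i j Z a b hab
    by_cases hij : i = j
    · subst hij
      have hab' : a ≫ (p i).left = b ≫ (p i).left := by
        rw [← cancel_mono (Sigma.ι (fun i => (M i).left) i), Category.assoc, Category.assoc]
        exact hab
      choose U hU ε hε using h7 i Z a b hab'
      have hm := t3 i
      refine Same.of_cover (by rw [hf, ← Over.w (p i), ← Category.assoc, hab', Category.assoc])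
        (fun z => (U z : Scheme.{u})) (fun z => (U z).ι) (fun z => inferInstance) (fun z => inferInstance)
        (fun z => ⟨z, ⟨z, hU z⟩, rfl⟩) fun z => ?_
      rw [hε z, ← Category.assoc]
      exact same_act (hχ i) (hf i) (t i) (t6 i) (ε z) _
    · have : IsEmpty Z := isEmpty_of_commSq_sigmaι_of_ne (g := fun i => (M i).left)
        (a := a ≫ (p i).left) (b := b ≫ (p j).left) ⟨by
          rw [Category.assoc, Category.assoc]
          exact hab⟩ hij
      intro Y y γ
      have : IsEmpty Y := Function.isEmpty y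
      have hY : ∀ {W : Scheme.{u}} (u v : Y ⟶ W), u = v := fun u v => (isInitialOfIsEmpty (X := Y)).hom_ext u v
      exact ⟨fun _ => ⟨(isInitialOfIsEmpty (X := Y)).to _, hY _ _, hY _ _⟩,
        fun _ => ⟨(isInitialOfIsEmpty (X := Y)).to _, hY _ _, hY _ _⟩⟩
  -- two points giving the same subgroup have the same image
  have heq : ∀ (i j : ULift.{u} Idx) (Z : Scheme.{u}) (a : Z ⟶ (P i).left) (b : Z ⟶ (P j).left),
      a ≫ f i ≫ MM.hom = b ≫ f j ≫ MM.hom → Same (t i) (t j) a b → a ≫ f i = b ≫ f j := by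
    intro i j Z a b hab hs
    refine hom_ext_local _ _ fun z => ?_
    obtain ⟨U, hz, ε, hε⟩ := exists_equiv_of_same (hχ i) (hχ j) (hf i) (hf j) (t i) (t j) (t6 i) (t6 j) a b hab hs z
    obtain ⟨i⟩ := i
    obtain ⟨j⟩ := j
    obtain rfl : j = i := idx_eq ⟨ε⟩
    refine ⟨U, hz, ?_⟩
    let X : Over S := Over.mk (U.ι ≫ a ≫ f ⟨j⟩ ≫ MM.hom)
    let a' : X ⟶ P ⟨j⟩ := Over.homMk (U.ι ≫ a) (by
      rw [← hf]
      change (U.ι ≫ a) ≫ f ⟨j⟩ ≫ MM.hom = U.ι ≫ a ≫ f ⟨j⟩ ≫ MM.hom
      rw [Category.assoc])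
    let b' : X ⟶ P ⟨j⟩ := Over.homMk (U.ι ≫ b) (by
      rw [← hf]
      change (U.ι ≫ b) ≫ f ⟨j⟩ ≫ MM.hom = U.ι ≫ a ≫ f ⟨j⟩ ≫ MM.hom
      rw [Category.assoc, hab])
    have key : a' = b' ≫ act (hχ ⟨j⟩) ε := by
      refine (hχ ⟨j⟩).ext _ _ fun Y y d => ?_
      rw [← Category.assoc, act_spec (hχ ⟨j⟩)]
      exact hε Y y d (y ≫ a') (y ≫ b') rfl rfl
    have key2 : a' ≫ p ⟨j⟩ = b' ≫ p ⟨j⟩ := by
      rw [key, Category.assoc, h6]
    have key3 : (U.ι ≫ a) ≫ (p ⟨j⟩).left = (U.ι ≫ b) ≫ (p ⟨j⟩).left := congrArg (fun k => k.left) key2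
    change U.ι ≫ a ≫ (p ⟨j⟩).left ≫ Sigma.ι (fun i => (M i).left) ⟨j⟩ =
      U.ι ≫ b ≫ (p ⟨j⟩).left ≫ Sigma.ι (fun i => (M i).left) ⟨j⟩
    rw [← Category.assoc, ← Category.assoc, key3, Category.assoc, Category.assoc]
  obtain ⟨K, gK, k, k1, k2, k3, k4⟩ := exists_univ MM f t hcov hsame
  have hkm : Mono k := Sga3C.ClosedSub.mono_of_left k
  refine ⟨MM, K, gK, k, fun m => ?_, k1, k2, ?_, ?_, fun T' f' K' _ j' hj1 hj2 hj3 hj4 => ?_, ?_, fun i => ?_⟩
  · -- the pieces
    obtain ⟨i, y, hy⟩ := (sigmaOpenCover fun i => (M i).left).exists_eq m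
    have hi : IsOpenImmersion (Sigma.ι (fun i => (M i).left) i) := inferInstance
    refine ⟨(Sigma.ι (fun i => (M i).left) i).opensRange, ⟨y, hy⟩, ?_, ?_⟩
    · rw [← isOpen_compl_iff]
      change IsOpen (Set.range (Sigma.ι (fun i => (M i).left) i))ᶜ
      have : (Set.range (Sigma.ι (fun i => (M i).left) i))ᶜ =
          ⋃ j : {j // j ≠ i}, Set.range (Sigma.ι (fun i => (M i).left) j.1) := by
        ext x
        obtain ⟨j, z, hz⟩ := (sigmaOpenCover fun i => (M i).left).exists_eq x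
        constructor
        · intro hx
          refine Set.mem_iUnion.2 ⟨⟨j, ?_⟩, z, hz⟩
          rintro rfl
          exact hx ⟨z, hz⟩
        · intro hx hx'
          obtain ⟨⟨j', hj'⟩, z', hz'⟩ := Set.mem_iUnion.1 hx
          obtain ⟨w, hw⟩ := hx'
          have h8 := (sigmaι_eq_iff (fun i => (M i).left) j' i z' w).1 (hz'.trans hw.symm)
          exact hj' (Sigma.mk.inj_iff.1 h8).1
      rw [this]
      exact isOpen_iUnion fun j => (Sigma.ι (fun i => (M i).left) j.1).isOpenEmbedding.isOpen_range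
    · have e1 : (Sigma.ι (fun i => (M i).left) i).opensRange.ι ≫ MM.hom =
          (Sigma.ι (fun i => (M i).left) i).isoOpensRange.inv ≫ (M i).hom := by
        rw [Iso.eq_inv_comp, ← Category.assoc, Scheme.Hom.isoOpensRange_hom_ι]
        exact Sigma.ι_desc _ _
      have := h4 i
      rw [e1]
      infer_instance
  · -- multiplicative type
    refine _root_.K10.MTLoc.of_family f hcov.flat (fun j => (f j).isOpenMap) hcov.surj fun j => ?_
    obtain ⟨e⟩ := k4 j
    exact _root_.K10.MTLoc.of_iso e (t5 j)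
  · -- finiteness
    have hd : MorphismProperty.DescendsAlong @IsFinite
      (@Surjective ⊓ @Flat ⊓ @QuasiCompact : MorphismProperty Scheme.{u}) := Groth.Agent.S0084.result
    have h8 : IsFinite (toUnit K).left := by
      refine EtHom.of_cover @IsFinite hcov (toUnit K) fun i => ?_
      obtain ⟨e⟩ := k4 i
      have h9 : IsFinite (Red.bc (f i) K).hom := by
        have := t4 i
        exact TorusAlgClosed.prop_of_grp_iso (P := @IsFinite) e.symm this
      have h10 : ((Over.pullback (f i)).map (toUnit K)).left ≫ (Red.bc (f i) (𝟙_ (Over MM.left))).hom =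
        (Red.bc (f i) K).hom := Over.w _
      have h11 : IsIso (Red.bc (f i) (𝟙_ (Over MM.left))).hom := by
        change IsIso (pullback.snd (𝟙 MM.left) (f i))
        infer_instance
      have h12 : ((Over.pullback (f i)).map (toUnit K)).left =
          (Red.bc (f i) K).hom ≫ inv (Red.bc (f i) (𝟙_ (Over MM.left))).hom := by
        rw [← h10, Category.assoc, IsIso.hom_inv_id, Category.comp_id]
      rw [h12]
      infer_instance
    have h13 : (toUnit K).left = K.hom := by
      have := Over.w (toUnit K)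
      rw [← this]
      exact (Category.comp_id _).symm
    rwa [h13] at h8
  · -- the universal property
    have key : ∀ s : T', ∃ (B : Type u) (_ : CommRing B) (v : Spec (CommRingCat.of B) ⟶ T') (i : ULift.{u} Idx),
        Etale v ∧ s ∈ Set.range v ∧ Nonempty (Grp.mk (Red.bc v K') ≅ Grp.mk (Red.DS (Spec (CommRingCat.of B)) (Gp i.down))) := by
      intro s
      obtain ⟨B, _, v, N, _, hv, ⟨y, hy⟩, hN, ⟨e⟩⟩ := _root_.K10.MTLoc.exists_etale_split hj3 s
      have hB : Nontrivial B := (PrimeSpectrum.nonempty_iff_nontrivial (R := B)).1 ⟨y⟩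
      have hN' : Finite N := K6.HomLoc.finite_of_isFinite ⟨e⟩ (MorphismProperty.pullback_snd (P := @IsFinite) _ _ hj4)
      obtain ⟨i, ⟨ε⟩⟩ := exists_idx N
      refine ⟨B, inferInstance, v, ⟨i⟩, hv, ⟨y, hy⟩, ⟨e ≪≫ ?_⟩⟩
      have hi1 : IsIso (Red.DSmap (Spec (CommRingCat.of B)) ε.symm.toAddMonoidHom) :=
        K7.DSProp.isIso_DSmap _ _ ε.symm.bijective
      have hi2 : IsMonHom (Red.DSmap (Spec (CommRingCat.of B)) ε.symm.toAddMonoidHom) :=
        K6.HomDS.isMonHom_DSmap _ _
      exact Grp.mkIso' (asIso (Red.DSmap (Spec (CommRingCat.of B)) ε.symm.toAddMonoidHom))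
    choose B rB v σ v1 v2 v3 using key
    choose a a1 a2 using fun s => exists_point (hχ (σ s)) (hf (σ s)) (t (σ s)) (t6 (σ s)) j' (v s) (v3 s).some
    have hm : ∀ j, Mono (t j) := t3
    exact existsUnique_classifying MM f t hcov heq k k3 f' j' (fun s => Spec (CommRingCat.of (B s))) v
      (fun s => inferInstance) (fun s => inferInstance) (fun s => ⟨s, v2 s⟩) σ a a1 a2
  · have : ∀ i, LocallyOfFinitePresentation (M i).hom := h5
    exact IsZariskiLocalAtSource.sigmaDesc (P := @LocallyOfFinitePresentation) fun i => inferInstance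
  · -- the pieces are the loci of fixed type
    let ι' := Sigma.ι (fun i => (M i).left)
    have hty : ∀ (j : ULift.{u} Idx) (m : MM.left), m ∈ (ι' j).opensRange → Ty K (Gp j.down) m := by
      rintro j _ ⟨y, rfl⟩
      obtain ⟨x, rfl⟩ := (h3 j).surj y
      obtain ⟨e⟩ := k4 j
      obtain ⟨e'⟩ := tD j
      exact ⟨_, f j, hfe j, ⟨x, Scheme.Hom.comp_apply _ _ _⟩, ⟨e.symm ≪≫ e'⟩⟩
    have hop : tyOpens K (Gp i) = (ι' ⟨i⟩).opensRange := by
      refine le_antisymm (fun m hm => ?_) fun m hm => hty ⟨i⟩ m hm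
      obtain ⟨j, y, hy⟩ := (sigmaOpenCover fun i => (M i).left).exists_eq m
      have h8 : Ty K (Gp j.down) m := hty j m ⟨y, hy⟩
      obtain ⟨ε⟩ := Ty.unique (mem_tyOpens.1 hm) h8
      obtain rfl : i = j.down := idx_eq ⟨ε⟩
      exact ⟨y, hy⟩
    have hi : IsOpenImmersion (ι' ⟨i⟩) := inferInstance
    have e1 : (ι' ⟨i⟩).opensRange.ι ≫ MM.hom = (ι' ⟨i⟩).isoOpensRange.inv ≫ (M ⟨i⟩).hom := by
      rw [Iso.eq_inv_comp, ← Category.assoc, Scheme.Hom.isoOpensRange_hom_ι]
      exact Sigma.ι_desc _ _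
    have := h4 ⟨i⟩
    rw [hop, e1]
    infer_instance


end K21.MultFun
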