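import Groth.Agent.EGA43.K130.SepNilp
import Groth.Agent.Ega43.SmoothReduced
import Mathlib.AlgebraicGeometry.Morphisms.SchemeTheoreticallyDominant
import Mathlib.AlgebraicGeometry.Morphisms.Smooth
import Mathlib.AlgebraicGeometry.Morphisms.Flat

/-!
# Schematically dominant morphisms over local rings with nilpotent maximal ideal

* `ext_of_dominant`: morphisms which are equal topologically and after composition with a schematically dominant
  morphism are equal;
* `of_nilpotent`: `A` local with nilpotent maximal ideal, `Z` flat and `X` smooth over `A`: a quasi-compact dominant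
  morphism `Z ⟶ X` over `A` is schematically dominant.
-/

set_option autoImplicit false
universe u
open CategoryTheory AlgebraicGeometry Limits TopologicalSpace
open scoped TensorProduct

namespace K21.SchDom

/-- Extension along schematically dominant morphisms. -/
theorem ext_of_dominant {Z X Y : Scheme.{u}} (c : Z ⟶ X) [IsSchemeTheoreticallyDominant c] [QuasiCompact c]
    (u v : X ⟶ Y) (htop : ∀ x, u x = v x) (h : c ≫ u = c ≫ v) : u = v := by
  have key : ∀ x : X, ∃ U : X.Opens, x ∈ U ∧ U.ι ≫ u = U.ι ≫ v := by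
    intro x
    obtain ⟨V, hV, hxV, -⟩ := exists_isAffineOpen_mem_and_subset (X := Y) (x := u x) (U := ⊤) trivial
    let U : X.Opens := u ⁻¹ᵁ V
    have hU : U = v ⁻¹ᵁ V := by
      ext y
      change u y ∈ V ↔ v y ∈ V
      rw [htop]
    refine ⟨U, hxV, ?_⟩
    have : IsAffine (V : Scheme.{u}) := hV
    let a : (U : Scheme.{u}) ⟶ (V : Scheme.{u}) := IsOpenImmersion.lift V.ι (U.ι ≫ u) (by
      rw [Scheme.Opens.range_ι]
      rintro _ ⟨y, rfl⟩
      exact y.2)
    let b : (U : Scheme.{u}) ⟶ (V : Scheme.{u}) := IsOpenImmersion.lift V.ι (U.ι ≫ v) (by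
      rw [Scheme.Opens.range_ι]
      rintro _ ⟨y, rfl⟩
      exact (hU.le y.2 : y.1 ∈ v ⁻¹ᵁ V))
    have ha : a ≫ V.ι = U.ι ≫ u := IsOpenImmersion.lift_fac _ _ _
    have hb : b ≫ V.ι = U.ι ≫ v := IsOpenImmersion.lift_fac _ _ _
    have h1 : (c ∣_ U) ≫ a = (c ∣_ U) ≫ b := by
      rw [← cancel_mono V.ι, Category.assoc, Category.assoc, ha, hb, ← Category.assoc, ← Category.assoc,
        morphismRestrict_ι, Category.assoc, Category.assoc, h]
    have h2 : Function.Injective ((c ∣_ U).appTop) := by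
      have h3 : IsSchemeTheoreticallyDominant (c ∣_ U) :=
        IsSchemeTheoreticallyDominant.of_isPullback (isPullback_morphismRestrict c U).flip
      exact (c ∣_ U).app_injective ⊤
    have h4 : a = b := by
      apply ext_of_isAffine
      have h5 := congrArg Scheme.Hom.appTop h1
      rw [Scheme.Hom.comp_appTop, Scheme.Hom.comp_appTop] at h5
      ext r
      apply h2
      exact congr(($h5).hom r)
    rw [← ha, ← hb, h4]
  choose U hU hab using key
  have h1 : ⨆ t, U t = ⊤ := by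
    rw [eq_top_iff]
    intro t _
    exact Opens.mem_iSup.mpr ⟨t, hU t⟩
  exact (X.openCoverOfIsOpenCover U (.mk h1)).hom_ext _ _ fun t => hab t

lemma exists_tmul {A B : Type u} [CommRing A] {J : Ideal A} [CommRing B] [Algebra A B] (t : (A ⧸ J) ⊗[A] B) :
    ∃ b : B, t = (1 : A ⧸ J) ⊗ₜ[A] b := by
  induction t with
  | zero => exact ⟨0, by simp⟩
  | tmul a b =>
    obtain ⟨a, rfl⟩ := Ideal.Quotient.mk_surjective a
    refine ⟨a • b, ?_⟩
    rw [TensorProduct.tmul_smul, TensorProduct.smul_tmul', Algebra.smul_def, mul_one]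
    rfl
  | add x y hx hy =>
    obtain ⟨x, rfl⟩ := hx
    obtain ⟨y, rfl⟩ := hy
    exact ⟨x + y, by rw [TensorProduct.tmul_add]⟩

lemma mem_map_of_tmul_eq_zero {A C : Type u} [CommRing A] {J : Ideal A} [CommRing C] [Algebra A C] {c : C}
    (h : (1 : A ⧸ J) ⊗ₜ[A] c = 0) : c ∈ J.map (algebraMap A C) := by
  let K : Ideal C := J.map (algebraMap A C)
  let g : (A ⧸ J) ⊗[A] C →ₐ[A] C ⧸ K := Algebra.TensorProduct.lift
    (Ideal.Quotient.liftₐ J (Algebra.ofId A (C ⧸ K)) (fun a ha => by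
      change algebraMap A (C ⧸ K) a = 0
      rw [IsScalarTower.algebraMap_apply A C (C ⧸ K)]
      exact Ideal.Quotient.eq_zero_iff_mem.2 (Ideal.mem_map_of_mem _ ha)))
    (Ideal.Quotient.mkₐ A K) (fun _ _ => Commute.all _ _)
  have h1 : g ((1 : A ⧸ J) ⊗ₜ[A] c) = Ideal.Quotient.mk K c := by
    rw [Algebra.TensorProduct.lift_tmul, map_one, one_mul]
    rfl
  rw [h, map_zero] at h1
  exact Ideal.Quotient.eq_zero_iff_mem.1 h1.symm

/-- The ring-theoretic statement. -/
theorem injective_of_nilpotent {A B : Type u} [CommRing A] [IsLocalRing A] (hA : IsNilpotent (IsLocalRing.maximalIdeal A))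
    [CommRing B] [Algebra A B] [Algebra.Smooth A B] {ι : Type u} (C : ι → Type u) [∀ i, CommRing (C i)]
    [∀ i, Algebra A (C i)] [∀ i, Module.Flat A (C i)] (φ : ∀ i, B →ₐ[A] C i)
    (hd : ∀ b : B, (∀ i, IsNilpotent (φ i b)) → IsNilpotent b) (b : B) (hb : ∀ i, φ i b = 0) : b = 0 := by
  let J := IsLocalRing.maximalIdeal A
  let _ : Field (A ⧸ J) := Ideal.Quotient.field J
  refine K130.SepNilp.joint_injective_of_nilpotent (J := J) hA (fun k => inferInstance)
    (fun i => (φ i).toLinearMap) ?_ b hb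
  intro t ht
  have hred : IsReduced ((A ⧸ J) ⊗[A] B) := by
    have h1 : Algebra.Smooth (A ⧸ J) ((A ⧸ J) ⊗[A] B) := inferInstance
    exact Groth.Agent.Ega43.SmoothReduced.isReduced_of_smooth (A ⧸ J) _
  obtain ⟨b, rfl⟩ := exists_tmul t
  have h1 : IsNilpotent b := by
    refine hd b fun i => ?_
    have h2 := ht i
    rw [LinearMap.lTensor_tmul] at h2
    obtain ⟨n, hn⟩ := hA
    have h3 : φ i b ∈ (IsLocalRing.maximalIdeal A).map (algebraMap A (C i)) := mem_map_of_tmul_eq_zero h2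
    refine ⟨n, ?_⟩
    have h4 := Ideal.pow_mem_pow h3 n
    rw [← Ideal.map_pow, hn, Ideal.zero_eq_bot, Ideal.map_bot, Ideal.mem_bot] at h4
    exact h4
  have h2 : IsNilpotent ((1 : A ⧸ J) ⊗ₜ[A] b) := by
    obtain ⟨n, hn⟩ := h1
    refine ⟨n, ?_⟩
    rw [Algebra.TensorProduct.tmul_pow, hn, TensorProduct.tmul_zero]
  exact h2.eq_zero

/-- **Schematic dominance over a local ring with nilpotent maximal ideal.** -/
theorem of_nilpotent {A : Type u} [CommRing A] [IsLocalRing A] (hA : IsNilpotent (IsLocalRing.maximalIdeal A))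
    {Z X : Scheme.{u}} (z : Z ⟶ Spec (CommRingCat.of A)) (x : X ⟶ Spec (CommRingCat.of A)) (c : Z ⟶ X)
    (hc : c ≫ x = z) [Flat z] [Smooth x] [QuasiCompact c] [IsDominant c] : IsSchemeTheoreticallyDominant c := by
  refine ⟨?_⟩
  ext V b
  rw [Scheme.Hom.ker_apply, RingHom.mem_ker, Scheme.IdealSheafData.ideal_bot, Pi.bot_apply, Ideal.mem_bot]
  refine ⟨fun hb => ?_, fun hb => by rw [hb, map_zero]⟩
  let ζ := (Scheme.ΓSpecIso (CommRingCat.of A)).inv
  have hζ : IsIso ζ := inferInstance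
  let _ : Algebra A Γ(X, V) := (ζ ≫ x.appLE ⊤ V le_top).hom.toAlgebra
  have hsm : Algebra.Smooth A Γ(X, V) := by
    have h1 := x.smooth_appLE (isAffineOpen_top _) V.2 le_top
    have h2 : (ζ ≫ x.appLE ⊤ V le_top).hom.Smooth :=
      (RingHom.Smooth.respectsIso.2 (x.appLE ⊤ V le_top).hom (asIso ζ).commRingCatIsoToRingEquiv h1)
    exact h2
  let ι := { W : Z.affineOpens // (W : Z.Opens) ≤ c ⁻¹ᵁ V }
  let _ : ∀ i : ι, Algebra A Γ(Z, i.1) := fun i => (ζ ≫ z.appLE ⊤ i.1 le_top).hom.toAlgebra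
  have hfl : ∀ i : ι, Module.Flat A Γ(Z, i.1) := by
    intro i
    have h1 := z.flat_appLE (isAffineOpen_top _) i.1.2 le_top
    have h2 : (ζ ≫ z.appLE ⊤ i.1 le_top).hom.Flat :=
      (RingHom.Flat.respectsIso.2 (z.appLE ⊤ i.1 le_top).hom (asIso ζ).commRingCatIsoToRingEquiv h1)
    exact h2
  let φ : ∀ i : ι, Γ(X, V) →ₐ[A] Γ(Z, i.1) := fun i =>
    { (c.appLE V i.1 i.2).hom with
      commutes' := fun a => by
        have h1 : x.appLE ⊤ V le_top ≫ c.appLE V i.1 i.2 = z.appLE ⊤ i.1 le_top := by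
          rw [Scheme.Hom.appLE_comp_appLE]
          subst hc
          rfl
        exact congr(($h1).hom (ζ.hom a)) }
  refine injective_of_nilpotent hA (fun i : ι => Γ(Z, i.1)) φ ?_ b ?_
  · intro b hb
    rw [Scheme.isNilpotent_iff_basicOpen_eq_bot_of_isCompact V.2.isCompact]
    rw [← Opens.not_nonempty_iff_eq_bot]
    intro hne
    obtain ⟨_, hz1, ⟨z, rfl⟩⟩ := c.denseRange.inter_open_nonempty _ (X.basicOpen b).2 hne
    have hzV : c z ∈ (V : X.Opens) := X.basicOpen_le b hz1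
    obtain ⟨W, hW, hzW, hWV⟩ := exists_isAffineOpen_mem_and_subset (X := Z) (x := z) (U := c ⁻¹ᵁ V) hzV
    have h1 := hb ⟨⟨W, hW⟩, hWV⟩
    have h2 : Z.basicOpen (c.appLE V W hWV b) = ⊥ :=
      (Scheme.isNilpotent_iff_basicOpen_eq_bot_of_isCompact hW.isCompact _).1 h1
    rw [Scheme.basicOpen_appLE] at h2
    have h3 : z ∈ (W ⊓ c ⁻¹ᵁ X.basicOpen b : Z.Opens) := ⟨hzW, hz1⟩
    rw [h2] at h3
    exact h3
  · intro i
    change c.appLE V i.1 i.2 b = 0
    rw [Scheme.Hom.appLE, CommRingCat.comp_apply]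
    change (Z.presheaf.map _).hom ((c.app V).hom b) = 0
    rw [hb, map_zero]

end K21.SchDom
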