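import Groth.Agent.SGA3x.K21.ConjDom
import Groth.Agent.SGA3x.K12.CentNhd
import Groth.Agent.S4122

/-!
# Rigidity of central homomorphisms from groups of unipotent rank zero
-/

set_option autoImplicit false
universe u
open CategoryTheory MonoidalCategory CartesianMonoidalCategory MonObj GrpObj AlgebraicGeometry Limits

namespace K21.UrzRigid

open Groth.Agent Groth.Agent.Sga3B Groth.Agent.Sga3B.BcPts Groth.Agent.Sga3B.MaxTorBc636 ConjDom
  Groth.Agent.SGA3x.K5.Clopen K12.Central K12.CentEq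

/-- **Artinian bases.** -/
theorem eq_of_artinian {A : Type u} [CommRing A] [IsLocalRing A] [IsArtinianRing A]
    {G H : Over (Spec (CommRingCat.of A))} [GrpObj G] [GrpObj H] [Smooth G.hom] [QuasiCompact G.hom]
    [QuasiSeparated G.hom] (hQ : ConjDense G) (u v : G ⟶ H) [IsMonHom u] [IsMonHom v] (hE : Eqz u v (cl A))
    (hc : Cen u (cl A)) : u = v := by
  obtain ⟨⟨T, _, i, hi⟩, -⟩ := S4122.result A G
  have hi1 : IsMonHom i := hi.1
  have hi2 : Mono i := hi.2.1
  have hm : IsNilpotent (IsLocalRing.maximalIdeal A) := (isArtinianRing_iff_isNilpotent_maximalIdeal A).mp ‹_›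
  have hTm : SGA3x.IsMultTypeFT T := K21.MultLoc.isMultTypeFT_of_isTorus hi.2.2.1
  have hT := K21.MultLoc.isMult_of_isMultTypeFT hTm
  have h1 : i ≫ u = i ≫ v := K12.CentNil.eq_of_mod (IsLocalRing.maximalIdeal A) hm hT (i ≫ u) (i ≫ v)
    (fun Y t g h => (hc.pre i) Y t g h) (fun Y t h => by
      rw [← Category.assoc, ← Category.assoc]
      exact hE Y t _)
  have h2 := K12.CentNil.central_of_mod (IsLocalRing.maximalIdeal A) hm hT (i ≫ u) (fun Y t g h => (hc.pre i) Y t g h)
  have h3 : cj i ≫ u = cj i ≫ v := by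
    rw [cj, MonObj.mul_comp, MonObj.mul_comp, GrpObj.inv_comp, MonObj.mul_comp, MonObj.mul_comp, GrpObj.inv_comp,
      Category.assoc, Category.assoc, ← h1, h2, h2, mul_inv_cancel_right, mul_inv_cancel_right]
  have hTf : Flat T.hom := K10.MTLoc.flat hTm
  have hTa : IsAffineHom T.hom := K10.MTLoc.isAffineHom hTm
  have h4 : Flat (G ⊗ T).hom := inferInstanceAs (Flat (pullback.fst G.hom T.hom ≫ G.hom))
  have h5 : QuasiCompact (cj i).left := by
    have h8 : QuasiCompact ((cj i).left ≫ G.hom) := by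
      rw [Over.w]
      exact inferInstanceAs (QuasiCompact (pullback.fst G.hom T.hom ≫ G.hom))
    exact QuasiCompact.of_comp (cj i).left G.hom
  have h6 : IsDominant (cj i).left := hQ T i hi
  have h7 := SchDom.of_nilpotent hm (G ⊗ T).hom G.hom (cj i).left (Over.w _)
  ext1
  refine SchDom.ext_of_dominant (cj i).left u.left v.left (fun x => ?_) (congrArg (fun f => Over.Hom.left f) h3)
  have h8 : Surjective (cl A).hom := by
    have h9 : Subsingleton (PrimeSpectrum A) := inferInstance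
    have h10 : Nonempty (PrimeSpectrum (IsLocalRing.ResidueField A)) := inferInstance
    exact ⟨fun y => ⟨h10.some, Subsingleton.elim (α := PrimeSpectrum A) _ _⟩⟩
  obtain ⟨y, rfl⟩ : x ∈ Set.range (fst G (cl A)).left :=
    (show Surjective (fst G (cl A)).left from inferInstanceAs (Surjective (pullback.fst G.hom (cl A).hom))).1 x
  have h11 : (fst G (cl A)).left ≫ u.left = (fst G (cl A)).left ≫ v.left :=
    congrArg (fun f => Over.Hom.left f) (hE _ (snd G (cl A)) (fst G (cl A)))
  rw [← Scheme.Hom.comp_apply, h11, Scheme.Hom.comp_apply]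

/-- the infinitesimal neighbourhoods of a point -/
noncomputable abbrev inf {S : Scheme.{u}} (s : S) (k : ℕ) :
    Spec (CommRingCat.of (S.presheaf.stalk s ⧸ (IsLocalRing.maximalIdeal (S.presheaf.stalk s)) ^ (k + 1))) ⟶ S :=
  Spec.map (CommRingCat.ofHom (Ideal.Quotient.mk ((IsLocalRing.maximalIdeal (S.presheaf.stalk s)) ^ (k + 1)))) ≫
    S.fromSpecStalk s

/-- **Infinitesimal neighbourhoods of a point.** -/
theorem eqz_inf {S : Scheme.{u}} [IsLocallyNoetherian S] {G H : Over S} [GrpObj G] [GrpObj H] [Smooth G.hom]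
    [QuasiCompact G.hom] [QuasiSeparated G.hom] (u v : G ⟶ H) [IsMonHom u] [IsMonHom v] (s : S) {K : Type u} [Field K]
    (y : Spec (CommRingCat.of K) ⟶ S) (hy : y (IsLocalRing.closedPoint K) = s) (hQ : ConjDense (Red.bc y G))
    (hE : Eqz u v (Over.mk (S.fromSpecResidueField s))) (hc : Cen u (Over.mk (S.fromSpecResidueField s))) (k : ℕ) :
    Eqz u v (Over.mk (inf s k)) := by
  subst hy
  let s := y (IsLocalRing.closedPoint K)
  let O := S.presheaf.stalk s
  let J : Ideal O := (IsLocalRing.maximalIdeal O) ^ (k + 1)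
  let A : Type u := O ⧸ J
  have hnt : Nontrivial A := by
    refine Ideal.Quotient.nontrivial_iff.2 fun h => ?_
    exact (IsLocalRing.maximalIdeal.isMaximal O).ne_top (top_le_iff.1 (h ▸ Ideal.pow_le_self (Nat.succ_ne_zero k)))
  have hloc : IsLocalRing A := IsLocalRing.of_surjective' (Ideal.Quotient.mk J) Ideal.Quotient.mk_surjective
  have hnoeth : IsNoetherianRing A := inferInstance
  have hmax : (IsLocalRing.maximalIdeal O).map (Ideal.Quotient.mk J) = IsLocalRing.maximalIdeal A :=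
    IsLocalRing.map_maximalIdeal_of_surjective (Ideal.Quotient.mk J) Ideal.Quotient.mk_surjective
  have hart : IsArtinianRing A := by
    rw [isArtinianRing_iff_isNilpotent_maximalIdeal]
    refine ⟨k + 1, ?_⟩
    rw [← hmax, ← Ideal.map_pow, Ideal.zero_eq_bot]
    exact Ideal.map_quotient_self _
  -- the geometric point
  let ψ : O →+* K := (Scheme.stalkClosedPointTo y).hom
  have hψ : ∀ a ∈ J, ψ a = 0 := by
    intro a ha
    have h1 : a ∈ IsLocalRing.maximalIdeal O := Ideal.pow_le_self (Nat.succ_ne_zero k) ha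
    by_contra h2
    have h3 : IsUnit (ψ a) := isUnit_iff_ne_zero.2 h2
    exact (IsLocalRing.mem_maximalIdeal a).1 h1 (isUnit_of_map_unit ψ a h3)
  let z : Spec (CommRingCat.of K) ⟶ Spec (CommRingCat.of A) :=
    Spec.map (CommRingCat.ofHom (Ideal.Quotient.lift J ψ hψ))
  have hz : z ≫ inf s k = y := by
    rw [inf, ← Spec.map_comp_assoc, ← CommRingCat.ofHom_comp]
    have h1 : (Ideal.Quotient.lift J ψ hψ).comp (Ideal.Quotient.mk J) = ψ := Ideal.Quotient.lift_comp_mk J ψ hψ
    have h2 := Scheme.Spec_stalkClosedPointTo_fromSpecStalk y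
    exact (congrArg (fun f => Spec.map (CommRingCat.ofHom f) ≫ S.fromSpecStalk s) h1).trans h2
  have hzs : Surjective z := by
    have h9 : Subsingleton (PrimeSpectrum A) := inferInstance
    have h10 : Nonempty (PrimeSpectrum K) := inferInstance
    exact ⟨fun y => ⟨h10.some, Subsingleton.elim (α := PrimeSpectrum A) _ _⟩⟩
  have hG1 : Smooth (Red.bc (inf s k) G).hom := inferInstanceAs (Smooth (pullback.snd _ _))
  have hG2 : QuasiCompact (Red.bc (inf s k) G).hom := inferInstanceAs (QuasiCompact (pullback.snd _ _))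
  have hG3 : QuasiSeparated (Red.bc (inf s k) G).hom := inferInstanceAs (QuasiSeparated (pullback.snd _ _))
  have hQ' : ConjDense (Red.bc (inf s k) G) := by
    refine ConjDense.of_bc z ?_ (ConjDense.of_iso ((BcIso.bcCongrIso hz.symm G) ≪≫ (BcIso.bcCompIso z (inf s k) G)) hQ)
    exact (show Surjective (pullback.fst (Red.bc (inf s k) G).hom z) from inferInstance).1
  -- the closed point
  have hlh : IsLocalHom (Ideal.Quotient.mk J : O →+* A) :=
    IsLocalHom.of_surjective _ Ideal.Quotient.mk_surjective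
  let ρ : S.residueField s ⟶ CommRingCat.of (IsLocalRing.ResidueField A) :=
    CommRingCat.ofHom (IsLocalRing.ResidueField.map (Ideal.Quotient.mk J))
  let t : (Over.map (inf s k)).obj (cl A) ⟶ Over.mk (S.fromSpecResidueField s) :=
    Over.homMk (Spec.map ρ) (by
      change Spec.map ρ ≫ Spec.map (S.residue s) ≫ S.fromSpecStalk s =
        Spec.map (CommRingCat.ofHom (IsLocalRing.residue A)) ≫ Spec.map (CommRingCat.ofHom (Ideal.Quotient.mk J)) ≫
          S.fromSpecStalk s
      rw [← Spec.map_comp_assoc, ← Spec.map_comp_assoc]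
      rfl)
  rw [eqz_mk_iff]
  exact eq_of_artinian hQ' _ _ (Eqz.map _ (hE.comp t)) (Cen.map _ (hc.comp t))

/-- **Agreement near a point**, noetherian base. -/
theorem exists_open_noeth {S : Scheme.{u}} [IsLocallyNoetherian S] {G H : Over S} [GrpObj G] [GrpObj H] [Smooth G.hom]
    [QuasiCompact G.hom] [QuasiSeparated G.hom] (u v : G ⟶ H) [IsMonHom u] [IsMonHom v] (x : G.left) (s : S)
    (hx : G.hom x = s) {K : Type u} [Field K]
    (y : Spec (CommRingCat.of K) ⟶ S) (hy : y (IsLocalRing.closedPoint K) = s) (hQ : ConjDense (Red.bc y G))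
    (hE : Eqz u v (Over.mk (S.fromSpecResidueField s))) (hc : Cen u (Over.mk (S.fromSpecResidueField s))) :
    ∃ U : G.left.Opens, x ∈ U ∧ U.ι ≫ u.left = U.ι ≫ v.left := by
  have h0 := eqz_inf u v s y hy hQ hE hc
  clear hy hQ hE hc
  subst hx
  have hG : IsLocallyNoetherian G.left := LocallyOfFiniteType.isLocallyNoetherian G.hom
  refine spread_out_unique_of_isGermInjective' u.left v.left ?_
  let O := S.presheaf.stalk (G.hom x)
  let B := G.left.presheaf.stalk x
  let φ : O ⟶ B := G.hom.stalkMap x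
  let I : ℕ → Ideal B := fun k => ((IsLocalRing.maximalIdeal O) ^ (k + 1)).map φ.hom
  let m : Ideal B := (IsLocalRing.maximalIdeal O).map φ.hom
  have hm : m ≤ IsLocalRing.maximalIdeal B := by
    rw [Ideal.map_le_iff_le_comap]
    have h1 : IsLocalHom φ.hom := inferInstanceAs (IsLocalHom (G.hom.stalkMap x).hom)
    have h2 : (IsLocalRing.maximalIdeal B).comap φ.hom = IsLocalRing.maximalIdeal O :=
      ((IsLocalRing.local_hom_TFAE φ.hom).out 0 4).1 h1
    exact h2.ge
  have hm' : m ≠ ⊤ := fun h => (IsLocalRing.maximalIdeal.isMaximal B).ne_top (top_le_iff.1 (h ▸ hm))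
  have hI : ∀ k, I k = m ^ (k + 1) := fun k => Ideal.map_pow _ _ _
  refine K12.Agree.eq_of_iInf (A := B) _ _ I ?_ (fun k => ?_) (fun k => ?_)
  · rw [← Ideal.iInf_pow_eq_bot_of_isLocalRing m hm']
    refine le_antisymm (le_iInf fun k => ?_) (le_iInf fun k => ?_)
    · exact (iInf_le I k).trans ((hI k).le.trans (Ideal.pow_le_pow_right (Nat.le_succ k)))
    · rw [hI]
      exact iInf_le (fun i : ℕ => m ^ i) (k + 1)
  · rw [hI]
    exact fun h => hm' (top_le_iff.1 (h ▸ Ideal.pow_le_self (Nat.succ_ne_zero k)))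
  · let ξ : (O ⧸ (IsLocalRing.maximalIdeal O) ^ (k + 1)) →+* B ⧸ I k :=
      Ideal.quotientMap (I k) φ.hom Ideal.le_comap_map
    let p : Spec (CommRingCat.of (B ⧸ I k)) ⟶ G.left :=
      Spec.map (CommRingCat.ofHom (Ideal.Quotient.mk (I k))) ≫ G.left.fromSpecStalk x
    let Y : Over S := Over.mk (p ≫ G.hom)
    let t : Y ⟶ Over.mk (inf (G.hom x) k) := Over.homMk (Spec.map (CommRingCat.ofHom ξ)) (by
      change Spec.map (CommRingCat.ofHom ξ) ≫ Spec.map (CommRingCat.ofHom (Ideal.Quotient.mk _)) ≫ S.fromSpecStalk _ =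
        (Spec.map (CommRingCat.ofHom (Ideal.Quotient.mk (I k))) ≫ G.left.fromSpecStalk x) ≫ G.hom
      rw [Category.assoc, ← Scheme.SpecMap_stalkMap_fromSpecStalk, ← Spec.map_comp_assoc, ← Spec.map_comp_assoc]
      rfl)
    have h1 := congrArg (fun f => Over.Hom.left f) (h0 k Y t (Over.homMk p rfl))
    change p ≫ u.left = p ≫ v.left at h1
    change _ ≫ G.left.fromSpecStalk x ≫ u.left = _ ≫ G.left.fromSpecStalk x ≫ v.left
    rw [← Category.assoc, ← Category.assoc]
    exact h1

/-- Homomorphisms which agree on an open subscheme meeting every fibre. -/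
theorem eq_of_open {S : Scheme.{u}} {G H : Over S} [GrpObj G] [GrpObj H] [Smooth G.hom]
    (hconn : ∀ s : S, _root_.IsConnected (G.hom.base ⁻¹' {s})) (u v : G ⟶ H) [IsMonHom u] [IsMonHom v]
    (W : G.left.Opens) (hW : ∀ s : S, ∃ w ∈ W, G.hom w = s) (h : W.ι ≫ u.left = W.ι ≫ v.left) : u = v := by
  have hgi : GeometricallyIrreducible G.hom := by
    have : GrpObj (Over.mk G.hom) := ‹GrpObj G›
    exact Sga3C.GrpIrr.geometricallyIrreducible_of_connected_fibres G.hom hconn
  let N : (G ⊗ G).left.Opens := (fst G G).left ⁻¹ᵁ W ⊓ (snd G G).left ⁻¹ᵁ W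
  let Y : Over S := Over.mk (N.ι ≫ (G ⊗ G).hom)
  let j : Y ⟶ G ⊗ G := Over.homMk N.ι rfl
  have hag : ∀ p : G ⊗ G ⟶ G, N ≤ p.left ⁻¹ᵁ W → (j ≫ p) ≫ u = (j ≫ p) ≫ v := by
    intro p hp
    ext1
    change (N.ι ≫ p.left) ≫ u.left = (N.ι ≫ p.left) ≫ v.left
    let l : (N : Scheme.{u}) ⟶ (W : Scheme.{u}) := IsOpenImmersion.lift W.ι (N.ι ≫ p.left) (by
      rw [Scheme.Opens.range_ι]
      rintro _ ⟨y, rfl⟩
      exact hp y.2)
    have hl : l ≫ W.ι = N.ι ≫ p.left := IsOpenImmersion.lift_fac _ _ _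
    rw [← hl, Category.assoc, Category.assoc, h]
  have h1 : (j ≫ μ[G]) ≫ u = (j ≫ μ[G]) ≫ v := by
    have e : μ[G] = fst G G * snd G G := by rw [Hom.mul_def, lift_fst_snd, Category.id_comp]
    rw [e, MonObj.comp_mul, MonObj.mul_comp, MonObj.mul_comp, hag _ inf_le_left, hag _ inf_le_right]
  have h2 : Flat μ[G].left := Sga3C.CentDom.flat_mul
  have h3 : Surjective (j ≫ μ[G]).left := by
    refine ⟨fun g => ?_⟩
    obtain ⟨w, hw, hw'⟩ := hW (G.hom g)
    obtain ⟨k, hk1, hk2, hk3⟩ := Sga3C.GrpSep.exists_mul_eq G W g ⟨w, hw, hw'⟩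
    exact ⟨⟨k, hk1, hk2⟩, by rw [Over.comp_left, Scheme.Hom.comp_apply]; exact hk3⟩
  have h4 : Flat (j ≫ μ[G]).left := inferInstanceAs (Flat (N.ι ≫ μ[G].left))
  have h5 : Epi (j ≫ μ[G]).left := Flat.epi_of_flat_of_surjective _
  ext1
  rw [← cancel_epi (j ≫ μ[G]).left]
  exact congrArg (fun f => Over.Hom.left f) h1

end K21.UrzRigid
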